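import Cfsg.Agent.Mrg.Omega.CaseL.Base
import Cfsg.Agent.Mrg.Omega.NO3S.Fit.AbsNat


/-!
# The module `M = W / Z` for `H = C / {c | [W, c] ≤ Z}`

`WRep W Z C M H` : `pi : G → M`, `phi : G → H` (used on `W`, `C`) identify `M` with `W / Z` and `H` with the group induced by `C`
on `W / Z`; `exists_wrep` : it exists, with a faithful action, if `W` is abelian and `C` normalises `W` and `Z`.

* `R.hom`, `R.img K`, `R.pre K`; `R.up D` : the preimage in `W` of `D ≤ M`;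
* `R.th n`, `R.ka n` : the automorphisms of `M` and `H` induced by `n ∈ N(W) ∩ N(Z) ∩ N(C)`; `R.up_brs`, `R.up_fxs`.
-/

set_option autoImplicit false
set_option linter.unusedSectionVars false

namespace Cfsg.Agent.Omega.NO3S.OneQ

open Subgroup
open Cfsg.Agent.ZN.Block (conj_mem_of_normalizer conj_mem_of_normalizer' le_normalizer_of_forall
  mem_normalizer_of)
open Cfsg.Agent.Omega.NO3S.Fit (cjW quoHom)
open Cfsg.Agent.Omega.NO3S.Fit.Abs

universe u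

variable {G : Type u} [Group G]

/-- `M = W / Z`, `H = C / C_C(W / Z)` -/
structure WRep (W Z C : Subgroup G) (M H : Type u) [AddCommGroup M] [Group H] [DistribMulAction H M] where
  pi : G → M
  phi : G → H
  pi_mul : ∀ a ∈ W, ∀ b ∈ W, pi (a * b) = pi a + pi b
  pi_surj : ∀ m, ∃ w ∈ W, pi w = m
  pi_ker : ∀ w ∈ W, pi w = 0 ↔ w ∈ Z
  phi_mul : ∀ c ∈ C, ∀ d ∈ C, phi (c * d) = phi c * phi d
  phi_surj : ∀ x, ∃ c ∈ C, phi c = x
  phi_ker : ∀ c ∈ C, phi c = 1 ↔ ∀ w ∈ W, c * w * c⁻¹ * w⁻¹ ∈ Z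
  act : ∀ c ∈ C, ∀ w ∈ W, phi c • pi w = pi (c * w * c⁻¹)

theorem exists_wrep [Finite G] {W Z C : Subgroup G} (hab : ∀ a ∈ W, ∀ b ∈ W, a * b = b * a)
    (hW : C ≤ normalizer (W : Set G)) (hX : C ≤ normalizer (Z : Set G)) :
    ∃ (M H : Type u) (_ : AddCommGroup M) (_ : Finite M) (_ : Group H)
    (_ : Finite H) (_ : DistribMulAction H M) (_ : FaithfulSMul H M), Nonempty (WRep W Z C M H) := by
  classical
  have hn : (Z.subgroupOf W).Normal := by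
    refine ⟨fun x hx w => ?_⟩
    have h1 : w * x * w⁻¹ = x := by
      apply Subtype.ext
      change (w : G) * x * (w : G)⁻¹ = x
      rw [hab _ w.2 _ x.2, mul_inv_cancel_right]
    rw [h1]; exact hx
  let Q := W ⧸ Z.subgroupOf W
  let M := Additive Q
  have hcomm : ∀ a b : Q, a * b = b * a := by
    intro a b
    induction a using QuotientGroup.induction_on with
    | H a =>
      induction b using QuotientGroup.induction_on with
      | H b =>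
        change (QuotientGroup.mk (a * b) : Q) = QuotientGroup.mk (b * a)
        congr 1
        ext
        exact hab a a.2 b b.2
  let iQ : CommGroup Q := { (inferInstance : Group Q) with mul_comm := hcomm }
  let iM : AddCommGroup M := Additive.addCommGroup
  obtain ⟨Φ, hΦ⟩ : ∃ Φ : C →* MulAut Q, ∀ (c : C) (w : W), Φ c (QuotientGroup.mk w : Q) =
      QuotientGroup.mk (⟨c * w * (c : G)⁻¹, conj_mem_of_normalizer hW c.2 w.2⟩ : W) :=
    ⟨quoHom W Z C hW hX, fun c w => rfl⟩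
  obtain ⟨H, hH⟩ : ∃ H : Subgroup (MulAut Q), H = Φ.range := ⟨_, rfl⟩
  have hfin : Finite M := inferInstanceAs (Finite (W ⧸ Z.subgroupOf W))
  have hfinA : Finite (MulAut Q) := Finite.of_injective (fun f : MulAut Q => (f : Q → Q)) DFunLike.coe_injective
  let iA : DistribMulAction H M :=
    { smul := fun x m => Additive.ofMul ((x : MulAut Q) m.toMul)
      one_smul := fun m => rfl
      mul_smul := fun x y m => rfl
      smul_zero := fun x => congrArg Additive.ofMul (map_one (x : MulAut Q))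
      smul_add := fun x m n => congrArg Additive.ofMul (map_mul (x : MulAut Q) m.toMul n.toMul) }
  have hmemH : ∀ c, Φ c ∈ H := fun c => by rw [hH]; exact MonoidHom.mem_range.mpr ⟨c, rfl⟩
  let piF : G → M := fun g => if hg : g ∈ W then Additive.ofMul (QuotientGroup.mk ⟨g, hg⟩) else 0
  let phiF : G → H := fun g => if hg : g ∈ C then ⟨Φ ⟨g, hg⟩, hmemH _⟩ else 1
  have piE : ∀ g (hg : g ∈ W), piF g = Additive.ofMul (QuotientGroup.mk ⟨g, hg⟩) := fun g hg => dif_pos hg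
  have phiE : ∀ g (hg : g ∈ C), phiF g = ⟨Φ ⟨g, hg⟩, hmemH _⟩ := fun g hg => dif_pos hg
  have key : ∀ c (hc : c ∈ C) w (hw : w ∈ W), Φ ⟨c, hc⟩ (QuotientGroup.mk ⟨w, hw⟩ : Q) =
      QuotientGroup.mk ⟨w, hw⟩ ↔ c * w * c⁻¹ * w⁻¹ ∈ Z := by
    intro c hc w hw
    rw [hΦ, eq_comm, QuotientGroup.eq, mem_subgroupOf]
    change w⁻¹ * (c * w * c⁻¹) ∈ Z ↔ _
    have hcw : c * w * c⁻¹ ∈ W := conj_mem_of_normalizer hW hc hw
    rw [hab w⁻¹ (inv_mem hw) _ hcw]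
  refine ⟨M, H, iM, hfin, inferInstance, inferInstance, iA, ?_, ⟨?_⟩⟩
  · refine ⟨fun {a b} hab => Subtype.ext ?_⟩
    ext m
    exact congrArg Additive.toMul (hab (Additive.ofMul m))
  · refine ⟨piF, phiF, ?_, ?_, ?_, ?_, ?_, ?_, ?_⟩
    · intro a ha b hb
      rw [piE a ha, piE b hb, piE _ (mul_mem ha hb)]
      rfl
    · intro m
      obtain ⟨w, hw⟩ := QuotientGroup.mk_surjective m.toMul
      refine ⟨w, w.2, ?_⟩
      rw [piE w w.2]
      exact congrArg Additive.ofMul hw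
    · intro w hw
      rw [piE w hw]
      change (QuotientGroup.mk (⟨w, hw⟩ : W) : Q) = 1 ↔ _
      rw [QuotientGroup.eq_one_iff, mem_subgroupOf]
    · intro c hc d hd
      rw [phiE c hc, phiE d hd, phiE _ (mul_mem hc hd)]
      apply Subtype.ext
      rw [Subgroup.coe_mul, ← map_mul]
      rfl
    · rintro ⟨x, hx⟩
      obtain ⟨c, rfl⟩ := MonoidHom.mem_range.mp (hH ▸ hx)
      exact ⟨c, c.2, phiE c c.2⟩
    · intro c hc
      rw [phiE c hc]
      constructor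
      · intro e
        have e' : Φ ⟨c, hc⟩ = 1 := congrArg Subtype.val e
        intro w hw
        refine (key c hc w hw).mp ?_
        rw [e']; rfl
      · intro hq
        apply Subtype.ext
        change Φ ⟨c, hc⟩ = 1
        ext m
        obtain ⟨w, hw⟩ := QuotientGroup.mk_surjective m
        have hm : m = QuotientGroup.mk ⟨(w : G), w.2⟩ := hw.symm
        rw [hm]
        exact (key c hc w w.2).mpr (hq w w.2)
    · intro c hc w hw
      rw [phiE c hc, piE w hw, piE _ (conj_mem_of_normalizer hW hc hw)]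
      exact congrArg Additive.ofMul (hΦ ⟨c, hc⟩ ⟨w, hw⟩)

/-- the standing hypotheses on `W`, `Z`, `C` -/
structure WRep.Ok (W Z C : Subgroup G) : Prop where
  ab : ∀ a ∈ W, ∀ b ∈ W, a * b = b * a
  ZW : Z ≤ W
  CW : C ≤ normalizer (W : Set G)

namespace WRep

variable {W Z C : Subgroup G} {M H : Type u} [AddCommGroup M] [Group H] [DistribMulAction H M]

theorem pi_one (R : WRep W Z C M H) : R.pi 1 = 0 := (R.pi_ker 1 (one_mem _)).mpr (one_mem _)

theorem phi_one (R : WRep W Z C M H) : R.phi 1 = 1 :=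
  (R.phi_ker 1 (one_mem _)).mpr fun w _ => by simp

theorem pi_inv (R : WRep W Z C M H) {w : G} (hw : w ∈ W) : R.pi w⁻¹ = - R.pi w := by
  have := R.pi_mul w hw w⁻¹ (inv_mem hw)
  rw [mul_inv_cancel, R.pi_one] at this
  exact (neg_eq_of_add_eq_zero_right this.symm).symm

theorem phi_inv (R : WRep W Z C M H) {c : G} (hc : c ∈ C) : R.phi c⁻¹ = (R.phi c)⁻¹ := by
  have := R.phi_mul c hc c⁻¹ (inv_mem hc)
  rw [mul_inv_cancel, R.phi_one] at this
  exact (inv_eq_of_mul_eq_one_right this.symm).symm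

theorem pi_eq (R : WRep W Z C M H) {a b : G} (ha : a ∈ W) (hb : b ∈ W) : R.pi a = R.pi b ↔ a * b⁻¹ ∈ Z := by
  rw [← R.pi_ker _ (mul_mem ha (inv_mem hb)), R.pi_mul a ha _ (inv_mem hb), R.pi_inv hb, ← sub_eq_add_neg,
    sub_eq_zero]

theorem phi_eq (R : WRep W Z C M H) {c d : G} (hc : c ∈ C) (hd : d ∈ C) :
    R.phi c = R.phi d ↔ R.phi (c * d⁻¹) = 1 := by
  rw [R.phi_mul c hc _ (inv_mem hd), R.phi_inv hd, mul_inv_eq_one]

/-- `[w, c]` -/
theorem pi_comm (R : WRep W Z C M H) (ok : WRep.Ok W Z C) {c w : G} (hc : c ∈ C) (hw : w ∈ W) :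
    R.pi (c * w * c⁻¹ * w⁻¹) = R.phi c • R.pi w - R.pi w := by
  rw [R.pi_mul _ (conj_mem_of_normalizer ok.CW hc hw) _ (inv_mem hw), R.pi_inv hw, R.act c hc w hw, sub_eq_add_neg]

/-- `phi` as a homomorphism -/
def hom (R : WRep W Z C M H) : C →* H where
  toFun c := R.phi c
  map_one' := R.phi_one
  map_mul' c d := R.phi_mul c c.2 d d.2

theorem hom_surj (R : WRep W Z C M H) : Function.Surjective R.hom := by
  intro x
  obtain ⟨c, hc, rfl⟩ := R.phi_surj x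
  exact ⟨⟨c, hc⟩, rfl⟩

/-- the image of `K ≤ C` in `H` -/
def img (R : WRep W Z C M H) (K : Subgroup G) : Subgroup H := (K.subgroupOf C).map R.hom

theorem mem_img (R : WRep W Z C M H) {K : Subgroup G} (hK : K ≤ C) {x : H} :
    x ∈ R.img K ↔ ∃ k ∈ K, R.phi k = x := by
  constructor
  · rintro ⟨k, hk, rfl⟩
    exact ⟨k, mem_subgroupOf.mp hk, rfl⟩
  · rintro ⟨k, hk, rfl⟩
    exact ⟨⟨k, hK hk⟩, mem_subgroupOf.mpr hk, rfl⟩

/-- the preimage of `K ≤ H` in `C` -/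
def pre (R : WRep W Z C M H) (K : Subgroup H) : Subgroup G := (K.comap R.hom).map C.subtype

theorem mem_pre (R : WRep W Z C M H) {K : Subgroup H} {c : G} : c ∈ R.pre K ↔ c ∈ C ∧ R.phi c ∈ K := by
  constructor
  · rintro ⟨c, hc, rfl⟩
    exact ⟨c.2, hc⟩
  · rintro ⟨hc, hc'⟩
    exact ⟨⟨c, hc⟩, hc', rfl⟩

theorem pre_le (R : WRep W Z C M H) (K : Subgroup H) : R.pre K ≤ C := fun _ hc => (R.mem_pre.mp hc).1

/-- the preimage of `D ≤ M` in `W` -/
def up (R : WRep W Z C M H) (D : AddSubgroup M) : Subgroup G where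
  carrier := {w | w ∈ W ∧ R.pi w ∈ D}
  mul_mem' := by
    rintro a b ⟨ha, ha1⟩ ⟨hb, hb1⟩
    refine ⟨mul_mem ha hb, ?_⟩
    rw [R.pi_mul a ha b hb]
    exact add_mem ha1 hb1
  one_mem' := ⟨one_mem _, by rw [R.pi_one]; exact zero_mem _⟩
  inv_mem' := by
    rintro a ⟨ha, ha1⟩
    refine ⟨inv_mem ha, ?_⟩
    rw [R.pi_inv ha]
    exact neg_mem ha1

theorem mem_up (R : WRep W Z C M H) {D : AddSubgroup M} {w : G} : w ∈ R.up D ↔ w ∈ W ∧ R.pi w ∈ D := Iff.rfl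

theorem up_le (R : WRep W Z C M H) (D : AddSubgroup M) : R.up D ≤ W := fun _ hw => hw.1

theorem le_up (R : WRep W Z C M H) (hZW : Z ≤ W) (D : AddSubgroup M) : Z ≤ R.up D := fun w hw =>
  ⟨hZW hw, by rw [(R.pi_ker w (hZW hw)).mpr hw]; exact zero_mem _⟩

theorem up_inf (R : WRep W Z C M H) (hZW : Z ≤ W) {D1 D2 : AddSubgroup M} (h : ∀ m, m ∈ D1 → m ∈ D2 → m = 0) :
    R.up D1 ⊓ R.up D2 = Z := by
  apply le_antisymm
  · rintro w ⟨⟨hw, h1⟩, -, h2⟩
    exact (R.pi_ker w hw).mp (h _ h1 h2)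
  · exact le_inf (R.le_up hZW D1) (R.le_up hZW D2)

theorem up_sup (R : WRep W Z C M H) (hZW : Z ≤ W) {D1 D2 : AddSubgroup M}
    (h : ∀ m : M, ∃ a ∈ D1, ∃ b ∈ D2, a + b = m) : R.up D1 ⊔ R.up D2 = W := by
  apply le_antisymm
  · exact sup_le (R.up_le D1) (R.up_le D2)
  · intro w hw
    obtain ⟨a, ha, b, hb, e⟩ := h (R.pi w)
    obtain ⟨u, hu, rfl⟩ := R.pi_surj a
    obtain ⟨v, hv, rfl⟩ := R.pi_surj b
    rw [← R.pi_mul u hu v hv, R.pi_eq (mul_mem hu hv) hw] at e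
    have e1 : w = (u * v * w⁻¹)⁻¹ * (u * v) := by group
    rw [e1]
    refine mul_mem (inv_mem ((le_sup_left : R.up D1 ≤ _) (R.le_up hZW D1 e))) (mul_mem ?_ ?_)
    · exact (le_sup_left : R.up D1 ≤ _) ⟨hu, ha⟩
    · exact (le_sup_right : R.up D2 ≤ R.up D1 ⊔ _) ⟨hv, hb⟩

/-- the image of `K` (`K ≤ W`) in `M` -/
def dn (R : WRep W Z C M H) (K : Subgroup G) : AddSubgroup M where
  carrier := {m | ∃ k ∈ K, k ∈ W ∧ R.pi k = m}
  add_mem' := by
    rintro _ _ ⟨v, hv, hv', rfl⟩ ⟨w, hw, hw', rfl⟩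
    exact ⟨v * w, mul_mem hv hw, mul_mem hv' hw', R.pi_mul v hv' w hw'⟩
  zero_mem' := ⟨1, one_mem _, one_mem _, R.pi_one⟩
  neg_mem' := by
    rintro _ ⟨v, hv, hv', rfl⟩
    exact ⟨v⁻¹, inv_mem hv, inv_mem hv', R.pi_inv hv'⟩

theorem mem_dn (R : WRep W Z C M H) {K : Subgroup G} (hK : K ≤ W) {m : M} : m ∈ R.dn K ↔ ∃ k ∈ K, R.pi k = m :=
  ⟨fun ⟨k, hk, _, e⟩ => ⟨k, hk, e⟩, fun ⟨k, hk, e⟩ => ⟨k, hk, hK hk, e⟩⟩

theorem pi_mem_dn (R : WRep W Z C M H) {K : Subgroup G} (hZK : Z ≤ K) (hK : K ≤ W) {w : G} (hw : w ∈ W) :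
    R.pi w ∈ R.dn K ↔ w ∈ K := by
  rw [R.mem_dn hK]
  constructor
  · rintro ⟨v, hv, e⟩
    rw [R.pi_eq (hK hv) hw] at e
    have e1 : w = (v * w⁻¹)⁻¹ * v := by group
    rw [e1]
    exact mul_mem (inv_mem (hZK e)) hv
  · exact fun h => ⟨w, h, rfl⟩

/-- `|M : K̄| = |W : K|`, `Z ≤ K ≤ W` -/
theorem index_dn (R : WRep W Z C M H) {K : Subgroup G} (hZK : Z ≤ K) (hK : K ≤ W) :
    (R.dn K).index = K.relIndex W := by
  let f : W →* Multiplicative M :=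
    { toFun := fun w => Multiplicative.ofAdd (R.pi w)
      map_one' := by
        change Multiplicative.ofAdd (R.pi 1) = 1
        rw [R.pi_one]; rfl
      map_mul' := fun a b => by
        change Multiplicative.ofAdd (R.pi (a * b)) = _
        rw [R.pi_mul a a.2 b b.2]; rfl }
  have hf : Function.Surjective f := by
    intro m
    obtain ⟨w, hw, e⟩ := R.pi_surj m.toAdd
    exact ⟨⟨w, hw⟩, congrArg Multiplicative.ofAdd e⟩
  have h1 : (AddSubgroup.toSubgroup (R.dn K)).comap f = K.subgroupOf W := by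
    ext w
    rw [mem_comap, mem_subgroupOf]
    exact R.pi_mem_dn hZK hK w.2
  have h2 := index_comap_of_surjective (AddSubgroup.toSubgroup (R.dn K)) hf
  rw [h1] at h2
  rw [relIndex, h2]
  rfl

theorem ext_up (R : WRep W Z C M H) {D1 D2 : AddSubgroup M} (h : R.up D1 = R.up D2) : D1 = D2 := by
  ext m
  obtain ⟨w, hw, rfl⟩ := R.pi_surj m
  exact ⟨fun h1 => ((h ▸ (⟨hw, h1⟩ : w ∈ R.up D1) : w ∈ R.up D2)).2,
    fun h1 => ((h ▸ (⟨hw, h1⟩ : w ∈ R.up D2) : w ∈ R.up D1)).2⟩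

/-! ### normalisers -/

variable {n : G}

/-- the automorphism of `M` induced by `n` -/
theorem exists_th (R : WRep W Z C M H) (hnW : n ∈ normalizer (W : Set G)) (hnZ : n ∈ normalizer (Z : Set G)) :
    ∃ θ : M ≃+ M, ∀ w ∈ W, θ (R.pi w) = R.pi (n * w * n⁻¹) := by
  classical
  choose s hsW hs using R.pi_surj
  have hcj : ∀ {g w : G}, g ∈ normalizer (W : Set G) → w ∈ W → g * w * g⁻¹ ∈ W := fun hg hw =>
    (mem_normalizer_iff.1 hg _).1 hw
  have hcz : ∀ {g w : G}, g ∈ normalizer (Z : Set G) → w ∈ Z → g * w * g⁻¹ ∈ Z := fun hg hw =>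
    (mem_normalizer_iff.1 hg _).1 hw
  have hwd : ∀ {g : G}, g ∈ normalizer (W : Set G) → g ∈ normalizer (Z : Set G) → ∀ {a b : G}, a ∈ W → b ∈ W →
      R.pi a = R.pi b → R.pi (g * a * g⁻¹) = R.pi (g * b * g⁻¹) := by
    intro g hg hg' a b ha hb e
    rw [R.pi_eq ha hb] at e
    rw [R.pi_eq (hcj hg ha) (hcj hg hb)]
    have : g * a * g⁻¹ * (g * b * g⁻¹)⁻¹ = g * (a * b⁻¹) * g⁻¹ := by group
    rw [this]
    exact hcz hg' e
  have hval : ∀ {g : G}, g ∈ normalizer (W : Set G) → g ∈ normalizer (Z : Set G) → ∀ {w : G}, w ∈ W →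
      R.pi (g * s (R.pi w) * g⁻¹) = R.pi (g * w * g⁻¹) := fun hg hg' w hw =>
    hwd hg hg' (hsW _) hw (hs _)
  have hadd : ∀ {g : G}, g ∈ normalizer (W : Set G) → g ∈ normalizer (Z : Set G) → ∀ m m' : M,
      R.pi (g * s (m + m') * g⁻¹) = R.pi (g * s m * g⁻¹) + R.pi (g * s m' * g⁻¹) := by
    intro g hg hg' m m'
    rw [← R.pi_mul _ (hcj hg (hsW m)) _ (hcj hg (hsW m'))]
    have : g * s m * g⁻¹ * (g * s m' * g⁻¹) = g * (s m * s m') * g⁻¹ := by group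
    rw [this]
    refine hwd hg hg' (hsW _) (mul_mem (hsW m) (hsW m')) ?_
    rw [hs, R.pi_mul _ (hsW m) _ (hsW m'), hs, hs]
  have hnW' := inv_mem hnW
  have hnZ' := inv_mem hnZ
  refine ⟨{ toFun := fun m => R.pi (n * s m * n⁻¹)
            invFun := fun m => R.pi (n⁻¹ * s m * n⁻¹⁻¹)
            left_inv := ?_
            right_inv := ?_
            map_add' := hadd hnW hnZ }, ?_⟩
  · intro m
    change R.pi (n⁻¹ * s (R.pi (n * s m * n⁻¹)) * n⁻¹⁻¹) = m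
    rw [hval hnW' hnZ' (hcj hnW (hsW m))]
    have : n⁻¹ * (n * s m * n⁻¹) * n⁻¹⁻¹ = s m := by group
    rw [this, hs]
  · intro m
    change R.pi (n * s (R.pi (n⁻¹ * s m * n⁻¹⁻¹)) * n⁻¹) = m
    rw [hval hnW hnZ (hcj hnW' (hsW m))]
    have : n * (n⁻¹ * s m * n⁻¹⁻¹) * n⁻¹ = s m := by group
    rw [this, hs]
  · intro w hw
    exact hval hnW hnZ hw

/-- the automorphism of `H` induced by `n` -/
theorem exists_ka (R : WRep W Z C M H) (hnW : n ∈ normalizer (W : Set G)) (hnZ : n ∈ normalizer (Z : Set G))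
    (hnC : n ∈ normalizer (C : Set G)) :
    ∃ κ : H ≃* H, ∀ c ∈ C, κ (R.phi c) = R.phi (n * c * n⁻¹) := by
  classical
  choose s hsC hs using R.phi_surj
  have hcj : ∀ {g c : G}, g ∈ normalizer (C : Set G) → c ∈ C → g * c * g⁻¹ ∈ C := fun hg hw =>
    (mem_normalizer_iff.1 hg _).1 hw
  have hcw : ∀ {g w : G}, g ∈ normalizer (W : Set G) → w ∈ W → g * w * g⁻¹ ∈ W := fun hg hw =>
    (mem_normalizer_iff.1 hg _).1 hw
  have hcz : ∀ {g w : G}, g ∈ normalizer (Z : Set G) → w ∈ Z → g * w * g⁻¹ ∈ Z := fun hg hw =>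
    (mem_normalizer_iff.1 hg _).1 hw
  have hwd : ∀ {g : G}, g ∈ normalizer (C : Set G) → g ∈ normalizer (W : Set G) → g ∈ normalizer (Z : Set G) →
      ∀ {a b : G}, a ∈ C → b ∈ C → R.phi a = R.phi b → R.phi (g * a * g⁻¹) = R.phi (g * b * g⁻¹) := by
    intro g hgC hg hg' a b ha hb e
    rw [R.phi_eq ha hb, R.phi_ker _ (mul_mem ha (inv_mem hb))] at e
    rw [R.phi_eq (hcj hgC ha) (hcj hgC hb), R.phi_ker _ (mul_mem (hcj hgC ha) (inv_mem (hcj hgC hb)))]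
    intro w hw
    have h1 := hcw (inv_mem hg) hw
    have h2 := hcz hg' (e _ h1)
    have e1 : g * (a * b⁻¹ * (g⁻¹ * w * g⁻¹⁻¹) * (a * b⁻¹)⁻¹ * (g⁻¹ * w * g⁻¹⁻¹)⁻¹) * g⁻¹ =
      g * a * g⁻¹ * (g * b * g⁻¹)⁻¹ * w * (g * a * g⁻¹ * (g * b * g⁻¹)⁻¹)⁻¹ * w⁻¹ := by group
    rw [← e1]; exact h2
  have hval : ∀ {g : G}, g ∈ normalizer (C : Set G) → g ∈ normalizer (W : Set G) → g ∈ normalizer (Z : Set G) →
      ∀ {c : G}, c ∈ C → R.phi (g * s (R.phi c) * g⁻¹) = R.phi (g * c * g⁻¹) := fun h1 h2 h3 c hc =>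
    hwd h1 h2 h3 (hsC _) hc (hs _)
  have hnW' := inv_mem hnW
  have hnZ' := inv_mem hnZ
  have hnC' := inv_mem hnC
  refine ⟨{ toFun := fun m => R.phi (n * s m * n⁻¹)
            invFun := fun m => R.phi (n⁻¹ * s m * n⁻¹⁻¹)
            left_inv := ?_
            right_inv := ?_
            map_mul' := ?_ }, ?_⟩
  · intro m
    change R.phi (n⁻¹ * s (R.phi (n * s m * n⁻¹)) * n⁻¹⁻¹) = m
    rw [hval hnC' hnW' hnZ' (hcj hnC (hsC m))]
    have : n⁻¹ * (n * s m * n⁻¹) * n⁻¹⁻¹ = s m := by group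
    rw [this, hs]
  · intro m
    change R.phi (n * s (R.phi (n⁻¹ * s m * n⁻¹⁻¹)) * n⁻¹) = m
    rw [hval hnC hnW hnZ (hcj hnC' (hsC m))]
    have : n * (n⁻¹ * s m * n⁻¹⁻¹) * n⁻¹ = s m := by group
    rw [this, hs]
  · intro m m'
    rw [← R.phi_mul _ (hcj hnC (hsC m)) _ (hcj hnC (hsC m'))]
    have : n * s m * n⁻¹ * (n * s m' * n⁻¹) = n * (s m * s m') * n⁻¹ := by group
    rw [this]
    refine hwd hnC hnW hnZ (hsC _) (mul_mem (hsC m) (hsC m')) ?_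
    rw [hs, R.phi_mul _ (hsC m) _ (hsC m'), hs, hs]
  · intro c hc
    exact hval hnC hnW hnZ hc

/-- compatibility -/
theorem th_smul (R : WRep W Z C M H) (ok : WRep.Ok W Z C) (hnW : n ∈ normalizer (W : Set G))
    (hnC : n ∈ normalizer (C : Set G)) {θ : M ≃+ M} (hθ : ∀ w ∈ W, θ (R.pi w) = R.pi (n * w * n⁻¹)) {κ : H ≃* H}
    (hκ : ∀ c ∈ C, κ (R.phi c) = R.phi (n * c * n⁻¹)) (x : H) (m : M) : θ (x • m) = κ x • θ m := by
  obtain ⟨c, hc, rfl⟩ := R.phi_surj x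
  obtain ⟨w, hw, rfl⟩ := R.pi_surj m
  have hcW : c * w * c⁻¹ ∈ W := conj_mem_of_normalizer ok.CW hc hw
  rw [R.act c hc w hw, hθ _ hcW, hκ c hc, hθ w hw, R.act _ ((mem_normalizer_iff.1 hnC _).1 hc) _
    ((mem_normalizer_iff.1 hnW _).1 hw)]
  congr 1
  group

/-- `[M, P]` is invariant under `n` if `P` is -/
theorem up_brs (R : WRep W Z C M H) (ok : WRep.Ok W Z C) (hnW : n ∈ normalizer (W : Set G))
    (hnZ : n ∈ normalizer (Z : Set G)) (hnC : n ∈ normalizer (C : Set G)) {P : Subgroup H} {κ : H ≃* H}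
    (hκ : ∀ c ∈ C, κ (R.phi c) = R.phi (n * c * n⁻¹)) (hP : ∀ x ∈ P, κ x ∈ P) {w : G} (hw : w ∈ R.up (brs M P)) :
    n * w * n⁻¹ ∈ R.up (brs M P) := by
  obtain ⟨θ, hθ⟩ := R.exists_th hnW hnZ
  refine ⟨(mem_normalizer_iff.1 hnW _).1 hw.1, ?_⟩
  rw [← hθ w hw.1]
  have h1 : brs M P ≤ (brs M P).comap (θ : M →+ M) := by
    refine brs_le fun k hk => ?_
    rintro _ ⟨m, rfl⟩
    rw [AddSubgroup.mem_comap]
    change θ (k • m - m) ∈ brs M P
    rw [map_sub, R.th_smul ok hnW hnC hθ hκ]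
    exact br_le_brs (hP k hk) (sub_mem_br _ _)
  exact h1 hw.2

/-- `C_M(P)` is invariant under `n` if `P` is -/
theorem up_fxs (R : WRep W Z C M H) (ok : WRep.Ok W Z C) (hnW : n ∈ normalizer (W : Set G))
    (hnZ : n ∈ normalizer (Z : Set G)) (hnC : n ∈ normalizer (C : Set G)) {P : Subgroup H} {κ : H ≃* H}
    (hκ : ∀ c ∈ C, κ (R.phi c) = R.phi (n * c * n⁻¹)) (hP : ∀ x ∈ P, κ.symm x ∈ P) {w : G}
    (hw : w ∈ R.up (fxs M P)) : n * w * n⁻¹ ∈ R.up (fxs M P) := by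
  obtain ⟨θ, hθ⟩ := R.exists_th hnW hnZ
  refine ⟨(mem_normalizer_iff.1 hnW _).1 hw.1, ?_⟩
  rw [← hθ w hw.1, mem_fxs]
  intro k hk
  have h1 := mem_fxs.mp hw.2 _ (hP k hk)
  have h2 := R.th_smul ok hnW hnC hθ hκ (κ.symm k) (R.pi w)
  rw [h1, MulEquiv.apply_symm_apply] at h2
  exact h2.symm

end WRep

end Cfsg.Agent.Omega.NO3S.OneQ
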