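import Cfsg.Agent.Mrg.Omega.NO3S.OneQ.Tor
import Cfsg.Agent.Mrg.Omega.NO3S.OneQ.FitQ
import Cfsg.Agent.Mrg.Omega.NO3S.OneQ.PComp
import Cfsg.Agent.Involutions.BaerSuzuki
import Cfsg.Agent.Mrg.Omega.NO3S.OneQ.Fix
import Mathlib

section


/-!
# THEOREM W (#17961), sections 1, 2: LEMMA CP', COROLLARY BS, `A` normalises the components

`R : QRep V Z M H`, `A = R.img (ws V Y)`.

* `One.cp` (**CP'**) : `f ∈ H` of odd order inverted by `a ∈ A`, `λ^f ≤ Ī` ⟹ `f = 1`;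
* `One.bs` (**BS**) : `A ≤ X ≤ H`, `λ^X ≤ Ī` ⟹ `A ≤ O₂(X)`;
* `One.bs_cent` : `λ ≤ [M, a]` ⟹ `A ≤ O₂(C_H(a))`;
* `Co.lam_le` : `[E_Z, u] ≠ 1`, `u ∈ W_Y` ⟹ `V ≤ [W_Z, u] Z`;
* `One.comm_V_of` : `[E_Z, W_Y] = 1` ⟹ `[W_Z, W_Y] ≤ V`;
* `Co.norm_comp` : if `[W_Z, W_Y] ≰ V`, then `A` normalises every component of even order of `H`.
-/

set_option autoImplicit false
set_option linter.unusedSectionVars false

namespace Cfsg.Agent.Omega.NO3S.OneQ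

open Subgroup Cfsg.Agent.Omega.NO3S.PT Cfsg.Agent.Omega.NoFF.Basic
open scoped Pointwise

universe u

variable {G : Type u} [Group G]

namespace One

variable [Finite G] {S : Sylow 2 G} {B P V Z : Subgroup G} (h : One S B P V Z)
include h

/-- `W_z ≤ C(L)` for a point `z` of a line `L` -/
theorem W_le_line {L z : Subgroup G} (hL : IsCj V L) (hz : IsCj Z z) (hzL : z ≤ L) :
    ws V z ≤ centralizer (L : Set G) := by
  obtain ⟨g, rfl⟩ := hL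
  have h1 : Pnt V Z (cj g⁻¹ z) := ⟨hz.cj _, by rw [cj_le_iff, inv_inv]; exact hzL⟩
  have h2 := h.W_le_cent h1
  intro w hw
  have h3 : g⁻¹ * w * g ∈ ws V (cj g⁻¹ z) := by
    rw [ws_cj, mem_cj, inv_inv]
    have e : g * (g⁻¹ * w * g) * g⁻¹ = w := by group
    rw [e]; exact hw
  rw [← cj_centralizer, mem_cj]
  exact h2 h3

/-- the points `Y` of `V` and `cj c Y`, `c ∈ C_G(Z)`, are on a line if `cj c V ≤ I` -/
theorem exists_line_of {Y : Subgroup G} (hY : Pnt V Z Y) {c : G} (hc : c ∈ centralizer (Z : Set G))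
    (hcV : cj c V ≤ IV V Z) : ∃ L, IsCj V L ∧ Y ≤ L ∧ cj c Y ≤ L := by
  have hcZ : cj c Z = Z := cj_eq_iff.2 (centralizer_le_normalizer _ hc)
  by_cases hYV : cj c Y ≤ V
  · exact ⟨V, ⟨1, (cj_one V).symm⟩, hY.le, hYV⟩
  obtain ⟨u, hu, hu1⟩ := h.pl.pt_ne_bot (hY.cj.cj c)
  have huI : u ∈ IV V Z := hcV (cj_le_cj.2 hY.le hu)
  have huV : u ∉ V := by
    intro e
    obtain ⟨T, hT, hTV, huT⟩ := h.pl.exists_point e hu1
    exact hYV (h.pl.pts_eq (hY.cj.cj c) hT hu huT hu1 ▸ hTV)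
  obtain ⟨x, -, -, hxu, hxZ, -⟩ := h.pl.F2_swap h.hf h.hO huI huV h.self.cj h.self.le hY.cj hY.le
  have h2 : cj x (cj c Y) = cj c Y := cj_eq_iff.2 (h.pl.norm_of_comm (hY.cj.cj c) hu hu1 hxu)
  refine ⟨cj x (cj c V), ⟨x * c, by rw [cj_cj]⟩, ?_, ?_⟩
  · rw [← hxZ, ← hcZ]
    have h3 : cj c Z ≤ cj c V := cj_le_cj.2 h.pl.ZV
    rw [hcZ] at h3 ⊢
    exact cj_le_cj.2 h3
  · rw [← h2]
    exact cj_le_cj.2 (cj_le_cj.2 hY.le)

variable {M H : Type u} [AddCommGroup M] [Group H] [DistribMulAction H M] (R : QRep V Z M H)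
variable {Y : Subgroup G} (hY : Pnt V Z Y) (hne : Y ≠ Z)

theorem I_le_W' : IV V Z ≤ ws V Z := h.I_le_W h.self

theorem Z_le_I : Z ≤ IV V Z := h.pl.ZV.trans h.pl.V_le_IV

/-- **LEMMA CP'** -/
theorem cp (hY : Pnt V Z Y) {f a : H} (hfo : Odd (orderOf f)) (ha : a ∈ R.img (ws V Y))
    (hinv : a * f * a⁻¹ = f⁻¹) (hV : ∀ v ∈ R.dn V, f • v ∈ R.dn (IV V Z)) : f = 1 := by
  have h2 : Fact (Nat.Prime 2) := ⟨Nat.prime_two⟩
  obtain ⟨c, hc, rfl⟩ := R.phi_surj f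
  have hcV : cj c V ≤ IV V Z := by
    intro v hv
    rw [mem_cj] at hv
    have h1 := hV _ ((h.mem_lam R).mpr ⟨_, hv, rfl⟩)
    have e : c * (c⁻¹ * v * c) * c⁻¹ = v := by group
    rw [R.act c hc _ (h.V_le_W' hv), e, R.pi_mem_dn h.Z_le_I h.I_le_W'] at h1
    · exact h1
    · rw [← e]
      exact (mem_normalizer_iff.1 (h.C_norm_W hc) _).1 (h.V_le_W' hv)
  obtain ⟨L, hL, hYL, hcL⟩ := h.exists_line_of hY hc hcV
  -- `W_{cY}` normalises `W_Y`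
  have hW1 : ws V (cj c Y) ≤ normalizer ((ws V Y : Subgroup G) : Set G) :=
    ((h.W_le_line hL (hY.cj.cj c) hcL).trans (centralizer_le hYL)).trans
      ((centralizer_le_normalizer _).trans (normalizer_le_ws V Y))
  have hWc : ws V (cj c Y) = cj c (ws V Y) := by rw [ws_cj]
  have hWC : ws V (cj c Y) ≤ centralizer (Z : Set G) := by
    rw [hWc, cj_le_iff]
    have h3 : cj c⁻¹ (centralizer (Z : Set G)) = centralizer (Z : Set G) := by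
      rw [cj_eq_iff]; exact Subgroup.le_normalizer (inv_mem hc)
    rw [h3]
    exact h.W_le_C hY
  have hYC := h.W_le_C hY
  have hpY : IsPGroup 2 (ws V Y) := fun w => ⟨1, by
    rw [pow_one, pow_two]
    exact Subtype.ext (h.sq_W hY w.2)⟩
  have hpc : IsPGroup 2 (ws V (cj c Y)) := by rw [hWc]; exact hpY.map _
  have hp : IsPGroup 2 (ws V (cj c Y) ⊔ ws V Y : Subgroup G) := hpc.to_sup_of_normal_right' hpY hW1
  have hsC : ws V (cj c Y) ⊔ ws V Y ≤ centralizer (Z : Set G) := sup_le hWC hYC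
  have hpI : IsPGroup 2 (R.img (ws V (cj c Y) ⊔ ws V Y)) := by
    have h4 : IsPGroup 2 ((ws V (cj c Y) ⊔ ws V Y : Subgroup G).subgroupOf (centralizer (Z : Set G))) :=
      hp.comap_of_injective _ (subtype_injective _)
    exact h4.map _
  obtain ⟨w, hw, rfl⟩ := (R.mem_img hYC).mp ha
  have hwC := hYC hw
  have hff : R.phi c * R.phi c ∈ R.img (ws V (cj c Y) ⊔ ws V Y) := by
    rw [R.mem_img hsC]
    refine ⟨c * w * c⁻¹ * w⁻¹, ?_, ?_⟩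
    · refine mul_mem (mem_sup_left ?_) (mem_sup_right (inv_mem hw))
      rw [hWc]
      exact conj_mem_cj hw
    · have e1 : R.phi w * (R.phi c)⁻¹ * (R.phi w)⁻¹ = R.phi c := by
        have := congrArg (fun t => t⁻¹) hinv
        simp only [mul_inv_rev, inv_inv] at this
        rw [mul_assoc]; exact this
      rw [R.phi_mul _ (mul_mem (mul_mem hc hwC) (inv_mem hc)) _ (inv_mem hwC), R.phi_mul _ (mul_mem hc hwC) _ (inv_mem hc),
        R.phi_mul _ hc _ hwC, R.phi_inv hc, R.phi_inv hwC]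
      calc R.phi c * R.phi w * (R.phi c)⁻¹ * (R.phi w)⁻¹ = R.phi c * (R.phi w * (R.phi c)⁻¹ * (R.phi w)⁻¹) := by group
        _ = _ := by rw [e1]
  obtain ⟨k, hk⟩ := hpI ⟨_, hff⟩
  have hk' : (R.phi c * R.phi c) ^ 2 ^ k = 1 := congrArg Subtype.val hk
  rw [← pow_two, ← pow_mul, ← pow_succ'] at hk'
  have h5 : orderOf (R.phi c) ∣ 2 ^ (k + 1) := orderOf_dvd_of_pow_eq_one hk'
  have h6 : orderOf (R.phi c) = 1 := Nat.Coprime.eq_one_of_dvd (Nat.Coprime.pow_right _ (Nat.coprime_two_right.mpr hfo)) h5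
  rwa [orderOf_eq_one_iff] at h6

/-- **COROLLARY BS** -/
theorem bs [Finite H] (hY : Pnt V Z Y) {X : Subgroup H} (hA : R.img (ws V Y) ≤ X)
    (hV : ∀ x ∈ X, ∀ v ∈ R.dn V, x • v ∈ R.dn (IV V Z)) : R.img (ws V Y) ≤ (Cfsg.pCore 2 X).map X.subtype := by
  intro a ha
  have haX := hA ha
  refine ⟨⟨a, haX⟩, ?_, rfl⟩
  have haa : a * a = 1 := by
    have := (h.elabA R hY).2 a ha
    rwa [pow_two] at this
  have key : IsPGroup 2 (Subgroup.normalClosure {(⟨a, haX⟩ : X)} : Subgroup X) := by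
    by_contra hcon
    obtain ⟨f, hf1, hfo, hfi⟩ := Involutions.BaerSuzuki.exists_odd_inverted (⟨a, haX⟩ : X) (Subtype.ext haa) hcon
    apply hf1
    apply Subtype.ext
    refine h.cp R hY (f := (f : H)) (a := a) ?_ ha ?_ (hV f f.2)
    · rwa [Subgroup.orderOf_coe]
    · exact congrArg Subtype.val hfi
  exact (le_sSup ⟨Subgroup.normalClosure_normal, key⟩ : Subgroup.normalClosure {(⟨a, haX⟩ : X)} ≤ Cfsg.pCore 2 X)
    (Subgroup.subset_normalClosure (by simp))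

/-- `λ ≤ [M, a]` ⟹ `A ≤ O₂(C_H(a))` -/
theorem bs_cent [Finite H] (hY : Pnt V Z Y) (hne : Y ≠ Z) {a : H} (ha : a ∈ R.img (ws V Y))
    (hl : ∀ v ∈ R.dn V, ∃ m : M, v = a • m - m) :
    R.img (ws V Y) ≤ (Cfsg.pCore 2 (centralizer ({a} : Set H))).map (centralizer ({a} : Set H)).subtype := by
  refine h.bs R hY ?_ ?_
  · intro b hb
    rw [mem_centralizer_singleton_iff]
    exact congrArg Subtype.val ((h.elabA R hY).1.is_comm.comm ⟨b, hb⟩ ⟨a, ha⟩)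
  · intro x hx v hv
    rw [mem_centralizer_singleton_iff] at hx
    obtain ⟨m, rfl⟩ := hl v hv
    have e : x • (a • m - m) = a • (x • m) - x • m := by
      rw [smul_sub, ← mul_smul, hx, mul_smul]
    rw [e]
    obtain ⟨w, hw, hwm⟩ := R.pi_surj (x • m)
    obtain ⟨u, hu, rfl⟩ := (R.mem_img (h.W_le_C hY)).mp ha
    rw [← hwm, ← R.pi_comm h.ok (h.W_le_C hY hu) hw]
    have h1 : u * w * u⁻¹ * w⁻¹ ∈ IV V Z := h.comm_mem hY h.self hne hu hw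
    exact (R.mem_dn h.I_le_W').mpr ⟨_, h1, rfl⟩

end One

namespace One

variable [Finite G] {S : Sylow 2 G} {B P V Z : Subgroup G} (h : One S B P V Z)
include h

/-- a point of `V` is `cj g Z`, `g ∈ N_G(V)` -/
theorem exists_g {X : Subgroup G} (hX : Pnt V Z X) : ∃ g ∈ normalizer (V : Set G), cj g Z = X := by
  obtain ⟨p, hp, e⟩ := h.pl.exists_pt hX.cj hX.le
  exact ⟨p, h.pl.PN hp, e.symm⟩

/-- `E_Z = D_Z` implies `E_X = D_X` for all `X` -/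
theorem ee_le_dd_pt {X : Subgroup G} (hX : Pnt V Z X) (he : ee V Z Z ≤ dd V Z Z) : ee V Z X ≤ dd V Z X := by
  obtain ⟨g, hg, rfl⟩ := h.exists_g hX
  rw [← cj_ee hg, ← cj_dd hg]
  exact cj_le_cj.2 he

/-- `[E_Z, W_Y] = 1` implies `[W_Z, W_Y] ≤ V` -/
theorem comm_V_of {Y : Subgroup G} (hY : Pnt V Z Y) (hne : Y ≠ Z)
    (hc : ∀ e ∈ ee V Z Z, ∀ u ∈ ws V Y, e * u = u * e) {w u : G} (hw : w ∈ ws V Z) (hu : u ∈ ws V Y) :
    w * u * w⁻¹ * u⁻¹ ∈ V := by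
  have he : ee V Z Z ≤ dd V Z Z := fun e he => h.mem_dd_of h.self hY hne (ee_le he) fun u hu => hc e he u hu
  refine h.w1_comm h.self hY hne.symm ?_ ?_
  · refine mem_w1.2 ⟨hw, fun T hT hTZ => mem_centralizer_iff.2 fun e heT => ?_⟩
    exact h.dd_comm h.self hTZ.symm (h.ee_le_dd_pt hT he heT) hw
  · refine mem_w1.2 ⟨hu, fun T hT hTY => mem_centralizer_iff.2 fun e heT => ?_⟩
    exact h.dd_comm hY hTY.symm (h.ee_le_dd_pt hT he heT) hu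

end One

namespace Co

variable [Finite G] {F : Type*} [Field F] [CharP F 2] {S : Sylow 2 G} {B P V Z : Subgroup G} (h : Co F S B P V Z)

include h in
/-- if `[w, u] ∈ V - Z`, `w ∈ W_Z`, `u ∈ W_Y`, then `V ≤ [W_Z, u] Z` -/
theorem lam_le' {Y : Subgroup G} (hY : Pnt V Z Y) (hne : Y ≠ Z) {u w : G} (hu : u ∈ ws V Y) (hw : w ∈ ws V Z)
    (h1 : u * w * u⁻¹ * w⁻¹ ∈ V) (h2 : u * w * u⁻¹ * w⁻¹ ∉ Z) {v : G} (hv : v ∈ V) :
    ∃ w' ∈ ws V Z, u * w' * u⁻¹ * w'⁻¹ * v⁻¹ ∈ Z := by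
  obtain ⟨a, b, hab⟩ := (h.mem_V _).1 h1
  obtain ⟨x, y, rfl⟩ := (h.mem_V _).1 hv
  have hb : b ≠ 0 := by
    rintro rfl
    exact h2 (hab ▸ h.e_memZ a)
  obtain ⟨w', hw', hww⟩ := h.exists_smul (y * b⁻¹) hw
  have huC := h.one.W_le_C hY hu
  have huN := centralizer_le_normalizer _ huC
  have hA : u * w' * u⁻¹ * w'⁻¹ * (h.e x y)⁻¹ ∈ rd V Z := by
    have hm : ∀ w ∈ ws V Z, u * w * u⁻¹ * w⁻¹ ∈ ws V Z := fun w hw => mul_mem (h.W_conj huN hw) (inv_mem hw)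
    rw [h.e_inv]
    rw [h.mem_rd_iff (mul_mem (hm w' hw') (h.W_V x y))]
    intro k hk
    have key : ∀ w ∈ ws V Z, h.fn (u * w * u⁻¹ * w⁻¹) k = h.fn w (u⁻¹ * k * u) + h.fn w k := by
      intro w hw
      rw [h.fn_mul (h.W_conj huN hw) (inv_mem hw) hk, h.fn_conj huC hw hk, h.fn_inv hw]
    rw [h.fn_mul (hm w' hw') (h.W_V x y) hk, key w' hw', hww k hk, hww _ (h.K_conj huN hk), ← mul_add, ← key w hw, ← hab,
      h.fn_V a b hk, h.fn_V x y hk]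
    have e : y * b⁻¹ * (b * h.fn (h.e 0 1) k) = y * h.fn (h.e 0 1) k := by
      rw [mul_assoc, inv_mul_cancel_left₀ hb]
    rw [e, CharTwo.add_self_eq_zero]
  have hB : u * w' * u⁻¹ * w'⁻¹ * (h.e x y)⁻¹ ∈ IV V Z :=
    mul_mem (h.one.comm_mem hY h.one.self hne hu hw') (inv_mem (h.one.pl.V_le_IV hv))
  exact ⟨w', hw', h.rd_inf_I ⟨hA, hB⟩⟩

include h in
/-- if `[E_Z, u] ≠ 1`, `u ∈ W_Y`, then `V ≤ [W_Z, u] Z` -/
theorem lam_le {Y : Subgroup G} (hY : Pnt V Z Y) (hne : Y ≠ Z) {u w : G} (hu : u ∈ ws V Y) (hw : w ∈ ee V Z Z)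
    (h1 : u * w ≠ w * u) {v : G} (hv : v ∈ V) : ∃ w' ∈ ws V Z, u * w' * u⁻¹ * w'⁻¹ * v⁻¹ ∈ Z := by
  have h2 := h.one.ee_act' hY hne hw hu
  refine h.lam_le' hY hne hu (ee_le hw) (hY.le h2) (fun h3 => h1 ?_) hv
  have h4 : u * w * u⁻¹ * w⁻¹ ∈ Z ⊓ Y := ⟨h3, h2⟩
  rw [h.one.pl.pts_inf h.one.self.cj hY.cj hne.symm, mem_bot, mul_inv_eq_one, mul_inv_eq_iff_eq_mul] at h4
  exact h4

variable {M H : Type u} [AddCommGroup M] [Group H] [DistribMulAction H M] (R : QRep V Z M H)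

include h in
/-- `λ ≤ [M, a]` or `a` centralises `Ē` -/
theorem lam_or {Y : Subgroup G} (hY : Pnt V Z Y) (hne : Y ≠ Z) {u : G} (hu : u ∈ ws V Y) :
    (∀ e ∈ ee V Z Z, e * u = u * e) ∨ ∀ v ∈ R.dn V, ∃ m : M, v = R.phi u • m - m := by
  by_cases h1 : ∀ e ∈ ee V Z Z, e * u = u * e
  · exact Or.inl h1
  push Not at h1
  obtain ⟨e, he, heu⟩ := h1
  refine Or.inr fun v hv => ?_
  obtain ⟨v, hv', rfl⟩ := (h.one.mem_lam R).mp hv
  obtain ⟨w, hw, hwv⟩ := h.lam_le hY hne hu he (fun e' => heu e'.symm) hv'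
  have huC := h.one.W_le_C hY hu
  refine ⟨R.pi w, ?_⟩
  rw [← R.pi_comm h.one.ok huC hw, eq_comm, R.pi_eq _ (h.one.V_le_W' hv')]
  · exact hwv
  · exact mul_mem (h.W_conj (centralizer_le_normalizer _ huC) hw) (inv_mem hw)

/-- the image of `B` as a Sylow 2-subgroup of `H` -/
theorem _root_.Cfsg.Agent.Omega.NO3S.OneQ.One.exists_sylow [Finite H] (h : One S B P V Z) :
    ∃ T : Sylow 2 H, (T : Subgroup H) = R.img B := by
  have : Fact (Nat.Prime 2) := ⟨Nat.prime_two⟩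
  have hS2 : IsPGroup 2 (R.img B) := by
    have : IsPGroup 2 (B.subgroupOf (centralizer (Z : Set G))) :=
      h.isP_B.comap_of_injective _ (subtype_injective _)
    exact this.map _
  exact ⟨hS2.toSylow (h.img_S_index R), rfl⟩

/-- the image of `B` normalises `A` -/
theorem _root_.Cfsg.Agent.Omega.NO3S.OneQ.One.B_norm_A (h : One S B P V Z) {Y : Subgroup G} (hY : Pnt V Z Y)
    (hne : Y ≠ Z) : ∀ s ∈ R.img B, ∀ a ∈ R.img (ws V Y), s * a * s⁻¹ ∈ R.img (ws V Y) := by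
  intro s hs a ha
  obtain ⟨b, hb, rfl⟩ := (R.mem_img h.B_le_C).mp hs
  obtain ⟨u, hu, rfl⟩ := (R.mem_img (h.W_le_C hY)).mp ha
  obtain ⟨h3, h4⟩ := h.conj_pnt (h.B_norm_Z hb) (h.B_norm_V hb) hY hne
  rw [← h.img_eq R hY hne h3 h4, R.mem_img (h.W_le_C h3)]
  refine ⟨b * u * b⁻¹, ?_, ?_⟩
  · rw [ws_cj]; exact conj_mem_cj hu
  · have huC := h.W_le_C hY hu
    have hbC := h.B_le_C hb
    rw [R.phi_mul _ (mul_mem hbC huC) _ (inv_mem hbC), R.phi_mul _ hbC u huC, R.phi_inv hbC]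

include h in
/-- **section 2** : `A` normalises every component (of even order) of `H` -/
theorem norm_comp [Finite H] [FaithfulSMul H M] {Y : Subgroup G} (hY : Pnt V Z Y) (hne : Y ≠ Z)
    (hnt : ∃ w ∈ ws V Z, ∃ u ∈ ws V Y, w * u * w⁻¹ * u⁻¹ ∉ V) {L : Subgroup H} (hL : Cfsg.IsComponent L)
    (h2 : 2 ∣ Nat.card L) {a : H} (ha : a ∈ R.img (ws V Y)) : L.map (MulAut.conj a).toMonoidHom = L := by
  obtain ⟨T, hT⟩ := h.one.exists_sylow R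
  have key : ∀ a ∈ R.img (ws V Y), (∀ v ∈ R.dn V, ∃ m : M, v = a • m - m) →
      L.map (MulAut.conj a).toMonoidHom = L := by
    intro a ha hv
    refine norm_of_o2 (S := T) (fun b hb => ?_) ?_ (h.one.o2h R) hL h2 ha (h.one.bs_cent R hY hne ha hv)
    · have := (h.one.elabA R hY).2 b hb
      rwa [pow_two] at this
    · rw [hT]; exact h.one.B_norm_A R hY hne
  obtain ⟨u₀, hu₀, rfl⟩ := (R.mem_img (h.one.W_le_C hY)).mp ha
  by_contra hcon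
  obtain ⟨w, hw, u, hu, hwu⟩ := hnt
  apply hwu
  have hE0 : ∀ e ∈ ee V Z Z, e * u₀ = u₀ * e := by
    rcases h.lam_or R hY hne hu₀ with h1 | h1
    · exact h1
    · exact absurd (key _ ha h1) hcon
  refine h.one.comm_V_of hY hne (fun e he u hu => ?_) hw hu
  rcases h.lam_or R hY hne hu with h1 | h1
  · exact h1 e he
  have ha1 : R.phi u ∈ R.img (ws V Y) := (R.mem_img (h.one.W_le_C hY)).mpr ⟨u, hu, rfl⟩
  have h3 := key _ ha1 h1
  rcases h.lam_or R hY hne (mul_mem hu hu₀) with h4 | h4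
  · have h5 := h4 e he
    have h6 := hE0 e he
    have h7 : e * u * u₀ = u * e * u₀ := by
      calc e * u * u₀ = e * (u * u₀) := by group
        _ = u * u₀ * e := h5
        _ = u * (u₀ * e) := by group
        _ = u * (e * u₀) := by rw [h6]
        _ = _ := by group
    exact mul_right_cancel h7
  · exfalso
    have ha2 : R.phi (u * u₀) ∈ R.img (ws V Y) := (R.mem_img (h.one.W_le_C hY)).mpr ⟨_, mul_mem hu hu₀, rfl⟩
    have h5 := key _ ha2 h4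
    rw [R.phi_mul _ (h.one.W_le_C hY hu) _ (h.one.W_le_C hY hu₀)] at h5
    apply hcon
    have h6 : (L.map (MulAut.conj (R.phi u₀)).toMonoidHom).map (MulAut.conj (R.phi u)).toMonoidHom = L := by
      rw [map_map]
      have e : (MulAut.conj (R.phi u)).toMonoidHom.comp (MulAut.conj (R.phi u₀)).toMonoidHom =
          (MulAut.conj (R.phi u * R.phi u₀)).toMonoidHom := by
        rw [map_mul]; rfl
      rw [e]
      exact h5
    refine map_injective (f := (MulAut.conj (R.phi u)).toMonoidHom) (MulAut.conj (R.phi u)).injective ?_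
    rw [h6, h3]

end Co

end Cfsg.Agent.Omega.NO3S.OneQ

end

section


/-!
# NO-3S, `OneQ`: the `F`-representation of `C_G(Z) T₁` on `W_Z / rd` (bb OMEGA #17428, (R1)-(R3) of #17961)

* `Co.hat` : the elements of `N_G(Z)` which multiply `Z = F` by a scalar `Co.chi`; it contains `C_G(Z)` and the torus;
* `Co.rp : Representation F hat MF`, `rp_fm`; `rp_lam`, `rp_I` : weights of the torus on `λ`, `Ī / λ`;
* `Co.v0` spans `λ`; `Co.Rb Y = [MF, W_Y]`; `Rb_sub` : `Rb ≤ Ī`; `Rb_fix` : `C_{Rb}(B) = λ`; `rp_quad`.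
-/

set_option autoImplicit false
set_option linter.unusedSectionVars false

namespace Cfsg.Agent.Omega.NO3S.OneQ

open Subgroup Cfsg.Agent.Omega.NO3S.PT Cfsg.Agent.Omega.NoFF.Basic
open scoped Pointwise

universe u

variable {G : Type u} [Group G]

namespace Co

variable [Finite G] {F : Type*} [Field F] [CharP F 2] {S : Sylow 2 G} {B P V Z : Subgroup G} (h : Co F S B P V Z)

/-- the elements of `N_G(Z)` which multiply `Z = F` by a scalar -/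
def hat : Subgroup G where
  carrier := {g | g ∈ normalizer (Z : Set G) ∧ ∃ χ : Fˣ, ∀ a, g * h.e a 0 * g⁻¹ = h.e (χ * a) 0}
  one_mem' := ⟨one_mem _, 1, fun a => by rw [Units.val_one, one_mul, one_mul, inv_one, mul_one]⟩
  mul_mem' := by
    rintro a b ⟨ha, χ, hχ⟩ ⟨hb, ψ, hψ⟩
    refine ⟨mul_mem ha hb, χ * ψ, fun x => ?_⟩
    have e : a * b * h.e x 0 * (a * b)⁻¹ = a * (b * h.e x 0 * b⁻¹) * a⁻¹ := by group
    rw [e, hψ, hχ, Units.val_mul, mul_assoc]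
  inv_mem' := by
    rintro a ⟨ha, χ, hχ⟩
    refine ⟨inv_mem ha, χ⁻¹, fun x => ?_⟩
    have h1 := hχ (((χ⁻¹ : Fˣ) : F) * x)
    rw [← mul_assoc, Units.mul_inv, one_mul] at h1
    rw [← h1, inv_inv]
    group

theorem hat_norm {g : G} (hg : g ∈ h.hat) : g ∈ normalizer (Z : Set G) := hg.1

/-- the scalar -/
noncomputable def chi (g : h.hat) : Fˣ := g.2.2.choose

theorem chi_spec (g : h.hat) (a : F) : (g : G) * h.e a 0 * (g : G)⁻¹ = h.e (h.chi g * a) 0 := g.2.2.choose_spec a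

theorem chi_eq {g : h.hat} {χ : F} (hχ : ∀ a, (g : G) * h.e a 0 * (g : G)⁻¹ = h.e (χ * a) 0) : (h.chi g : F) = χ := by
  have h1 := hχ 1
  rw [h.chi_spec, mul_one, mul_one] at h1
  exact (h.e_inj h1).1

theorem chi_one : h.chi 1 = 1 := Units.ext (h.chi_eq fun a => by simp)

theorem chi_mul (g k : h.hat) : h.chi (g * k) = h.chi g * h.chi k :=
  Units.ext (h.chi_eq fun a => by
    have e : ((g * k : h.hat) : G) * h.e a 0 * ((g * k : h.hat) : G)⁻¹ =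
        (g : G) * ((k : G) * h.e a 0 * (k : G)⁻¹) * (g : G)⁻¹ := by rw [Subgroup.coe_mul]; group
    rw [e, h.chi_spec, h.chi_spec, Units.val_mul, mul_assoc])

theorem C_le_hat : centralizer (Z : Set G) ≤ h.hat := by
  intro g hg
  refine ⟨centralizer_le_normalizer _ hg, 1, fun a => ?_⟩
  rw [Units.val_one, one_mul, (mem_centralizer_iff.1 hg _ (h.e_memZ a)).symm, mul_inv_cancel_right]

theorem chi_C {g : G} (hg : g ∈ centralizer (Z : Set G)) : h.chi ⟨g, h.C_le_hat hg⟩ = 1 :=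
  Units.ext (h.chi_eq fun a => by
    rw [Units.val_one, one_mul, (mem_centralizer_iff.1 hg _ (h.e_memZ a)).symm, mul_inv_cancel_right])

variable {h} in
theorem Tor.hat {τ : G} {ζ : F} (hτ : h.Tor τ ζ) (hζ : ζ ≠ 0) : τ ∈ h.hat :=
  ⟨hτ.norm_Z hζ, Units.mk0 ζ hζ, fun a => by rw [hτ.act, mul_zero]; rfl⟩

variable {h} in
theorem Tor.chi {τ : G} {ζ : F} (hτ : h.Tor τ ζ) (hζ : ζ ≠ 0) : (h.chi ⟨τ, hτ.hat hζ⟩ : F) = ζ :=
  h.chi_eq fun a => by rw [hτ.act, mul_zero]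

/-- the representation of `hat` on `MF` -/
noncomputable def rp : Representation F h.hat h.MF where
  toFun g :=
    { toFun := fun m => ⟨fun k => h.chi g * (m : kx V Z → F) ⟨(g : G)⁻¹ * k * g, h.K_conj (h.hat_norm g.2) k.2⟩, by
        obtain ⟨f, w, hw, hf⟩ := m
        refine ⟨g * w * (g : G)⁻¹, h.W_conj (h.hat_norm g.2) hw, fun k => ?_⟩
        rw [h.fn_conj' (h.chi_spec g) (h.hat_norm g.2) hw k.2]
        exact congrArg _ (hf _)⟩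
      map_add' := fun a b => Subtype.ext (funext fun k => mul_add _ _ _)
      map_smul' := fun c a => Subtype.ext (funext fun k => mul_left_comm _ _ _) }
  map_one' := by
    refine LinearMap.ext fun m => Subtype.ext (funext fun k => ?_)
    show (h.chi 1 : F) * (m : kx V Z → F) ⟨((1 : h.hat) : G)⁻¹ * k * ((1 : h.hat) : G), _⟩ = (m : kx V Z → F) k
    rw [h.chi_one, Units.val_one, one_mul]
    exact congrArg (m : kx V Z → F) (Subtype.ext (by simp))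
  map_mul' := by
    intro a b
    refine LinearMap.ext fun m => Subtype.ext (funext fun k => ?_)
    show (h.chi (a * b) : F) * (m : kx V Z → F) ⟨((a * b : h.hat) : G)⁻¹ * k * ((a * b : h.hat) : G), _⟩ =
      (h.chi a : F) * ((h.chi b : F) * (m : kx V Z → F) ⟨(b : G)⁻¹ * ((a : G)⁻¹ * k * a) * b, _⟩)
    rw [h.chi_mul, Units.val_mul, mul_assoc]
    exact congrArg (fun x => (h.chi a : F) * ((h.chi b : F) * (m : kx V Z → F) x)) (Subtype.ext (by simp [mul_assoc]))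

theorem rp_fm (g : h.hat) (w : ws V Z) :
    h.rp g (h.fm w) = h.fm ⟨g * w * (g : G)⁻¹, h.W_conj (h.hat_norm g.2) w.2⟩ :=
  Subtype.ext (funext fun k => (h.fn_conj' (h.chi_spec g) (h.hat_norm g.2) w.2 k.2).symm)

theorem rp_fm' {g w : G} (hg : g ∈ h.hat) (hw : w ∈ ws V Z) :
    h.rp ⟨g, hg⟩ (h.fm ⟨w, hw⟩) = h.fm ⟨g * w * g⁻¹, h.W_conj (h.hat_norm hg) hw⟩ := h.rp_fm ⟨g, hg⟩ ⟨w, hw⟩

theorem fm_eq {w w' : G} (hw : w ∈ ws V Z) (hw' : w' ∈ ws V Z) : h.fm ⟨w, hw⟩ = h.fm ⟨w', hw'⟩ ↔ w * w'⁻¹ ∈ rd V Z := by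
  have h1 := h.fm_mul ⟨w * w'⁻¹, mul_mem hw (inv_mem hw')⟩ ⟨w', hw'⟩
  have e : (⟨w * w'⁻¹, mul_mem hw (inv_mem hw')⟩ : ws V Z) * ⟨w', hw'⟩ = ⟨w, hw⟩ := Subtype.ext (by simp)
  rw [e] at h1
  rw [h1, add_eq_right]
  exact h.fm_eq_zero _

theorem fm_inv (w : ws V Z) : h.fm w⁻¹ = h.fm w := Subtype.ext (funext fun k => h.fn_inv w.2)

/-- the kernel of `K_Z` -/
theorem rp_K {k : G} (hk : k ∈ kx V Z) (m : h.MF) : h.rp ⟨k, h.C_le_hat (kx_le_cent hk)⟩ m = m := by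
  obtain ⟨w, rfl⟩ := h.fm_surj m
  have e : h.rp ⟨k, h.C_le_hat (kx_le_cent hk)⟩ (h.fm w) = _ := h.rp_fm' (h.C_le_hat (kx_le_cent hk)) w.2
  rw [e, h.fm_eq]
  exact h.Z_le_rd (h.kw_mem w.2 hk)

/-- the line vector -/
noncomputable def v0 : h.MF := h.fm ⟨h.e 0 1, h.W_V 0 1⟩

theorem fm_e (x y : F) : h.fm ⟨h.e x y, h.W_V x y⟩ = y • h.v0 :=
  Subtype.ext (funext fun k => h.fn_V x y k.2)

theorem v0_ne : h.v0 ≠ 0 := by
  intro h1
  have h2 : h.e 0 1 ∈ rd V Z := (h.fm_eq_zero _).1 h1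
  have h3 := h.rd_inf_I ⟨h2, h.one.pl.V_le_IV (h.e_memV 0 1)⟩
  rw [h.e_memZ_iff] at h3
  exact one_ne_zero h3

/-- `λ` -/
noncomputable def lam : Submodule F h.MF := Submodule.span F {h.v0}

theorem mem_lam {m : h.MF} : m ∈ h.lam ↔ ∃ v : ws V Z, (v : G) ∈ V ∧ h.fm v = m := by
  rw [lam, Submodule.mem_span_singleton]
  constructor
  · rintro ⟨a, rfl⟩
    exact ⟨⟨h.e 0 a, h.W_V 0 a⟩, h.e_memV 0 a, h.fm_e 0 a⟩
  · rintro ⟨v, hv, rfl⟩
    obtain ⟨x, y, hxy⟩ := (h.mem_V _).1 hv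
    refine ⟨y, ?_⟩
    rw [← h.fm_e x y]
    congr 1
    exact Subtype.ext hxy

theorem fm_mem_lam {w : G} (hw : w ∈ ws V Z) : h.fm ⟨w, hw⟩ ∈ h.lam ↔ w ∈ V ⊔ rd V Z := by
  rw [h.mem_lam]
  constructor
  · rintro ⟨v, hv, e⟩
    have h1 := (h.fm_eq v.2 hw).1 e
    have e2 : w = (v * w⁻¹)⁻¹ * v := by group
    rw [e2]
    exact mul_mem (mem_sup_right (inv_mem h1)) (mem_sup_left hv)
  · intro h1
    have hVW : V ≤ ws V Z := h.one.V_le_W'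
    have hc : V ≤ normalizer ((rd V Z : Subgroup G) : Set G) :=
      (hVW.trans (h.one.pl.ws_comm h.one.self.cj)).trans
        ((centralizer_le rd_le).trans (centralizer_le_normalizer _))
    obtain ⟨v, hv, r, hr, rfl⟩ := mem_sup_norm hc h1
    refine ⟨⟨v, h.one.V_le_W' hv⟩, hv, ?_⟩
    rw [h.fm_eq]
    have hvW := h.one.V_le_W' hv
    have hrW := rd_le hr
    have e : v * (v * r)⁻¹ = r⁻¹ := by
      rw [mul_inv_rev, ← mul_assoc]
      have := h.one.comm_W h.one.self.cj hvW (inv_mem hrW)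
      rw [this, mul_inv_cancel_right]
    rw [e]
    exact inv_mem hr

/-- `λ` determines `V` in `I` -/
theorem fm_mem_lam_I {w : G} (hw : w ∈ IV V Z) : h.fm ⟨w, h.one.I_le_W' hw⟩ ∈ h.lam ↔ w ∈ V := by
  rw [h.mem_lam]
  constructor
  · rintro ⟨v, hv, e⟩
    have h1 := (h.fm_eq v.2 _).1 e
    have h2 : (v : G) * w⁻¹ ∈ IV V Z := mul_mem (h.one.pl.V_le_IV hv) (inv_mem hw)
    have h3 := h.rd_inf_I ⟨h1, h2⟩
    have e2 : w = (v * w⁻¹)⁻¹ * v := by group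
    rw [e2]
    exact mul_mem (inv_mem (h.one.pl.ZV h3)) hv
  · exact fun h1 => ⟨⟨w, h.one.I_le_W' hw⟩, h1, rfl⟩

/-- the torus on `λ` -/
theorem rp_lam {τ : G} {ζ : F} (hτ : h.Tor τ ζ) (hζ : ζ ≠ 0) : h.rp ⟨τ, hτ.hat hζ⟩ h.v0 = ζ⁻¹ • h.v0 := by
  have e : h.rp ⟨τ, hτ.hat hζ⟩ h.v0 = _ := h.rp_fm' (hτ.hat hζ) (h.W_V 0 1)
  rw [e, ← h.fm_e 0 ζ⁻¹]
  congr 1
  apply Subtype.ext
  show τ * h.e 0 1 * τ⁻¹ = h.e 0 ζ⁻¹
  rw [hτ.act, mul_zero, mul_one]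

/-- the torus on `Ī / λ` -/
theorem rp_I {τ : G} {ζ : F} (hτ : h.Tor τ ζ) (hζ : ζ ≠ 0) {u : G} (hu : u ∈ IV V Z) :
    h.rp ⟨τ, hτ.hat hζ⟩ (h.fm ⟨u, h.one.I_le_W' hu⟩) - h.fm ⟨u, h.one.I_le_W' hu⟩ ∈ h.lam := by
  have e : h.rp ⟨τ, hτ.hat hζ⟩ (h.fm ⟨u, h.one.I_le_W' hu⟩) = _ := h.rp_fm' (hτ.hat hζ) (h.one.I_le_W' hu)
  have h1 := h.one.XV_I hτ.mem hu
  have hv := h.one.V_le_W' h1
  rw [e, h.mem_lam]
  refine ⟨⟨_, hv⟩, h1, ?_⟩
  rw [eq_sub_iff_add_eq, ← h.fm_mul]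
  congr 1
  apply Subtype.ext
  show τ * u * τ⁻¹ * u⁻¹ * u = τ * u * τ⁻¹
  group

/-- `C_G(V)` fixes the line vector -/
theorem rp_cV {g : G} (hg : g ∈ centralizer (V : Set G)) :
    h.rp ⟨g, h.C_le_hat (centralizer_le h.one.pl.ZV hg)⟩ h.v0 = h.v0 := by
  have e : h.rp ⟨g, h.C_le_hat (centralizer_le h.one.pl.ZV hg)⟩ h.v0 = _ :=
    h.rp_fm' (h.C_le_hat (centralizer_le h.one.pl.ZV hg)) (h.W_V 0 1)
  rw [e]
  show _ = h.fm ⟨h.e 0 1, h.W_V 0 1⟩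
  congr 1
  exact Subtype.ext (h.comm_e hg 0 1)

/-- `B` fixes the line vector -/
theorem rp_B {s : G} (hs : s ∈ B) : h.rp ⟨s, h.C_le_hat (h.one.B_le_C hs)⟩ h.v0 = h.v0 := by
  have e : h.rp ⟨s, h.C_le_hat (h.one.B_le_C hs)⟩ h.v0 = _ := h.rp_fm' (h.C_le_hat (h.one.B_le_C hs)) (h.W_V 0 1)
  rw [e]
  show _ = h.fm ⟨h.e 0 1, h.W_V 0 1⟩
  obtain ⟨t, ht⟩ := h.tv s hs
  rw [h.fm_eq, ht, h.e_inv, ← h.e_add, CharTwo.add_self_eq_zero]
  exact h.Z_le_rd (h.e_memZ _)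

/-! ### `[MF, W_Y]` -/

/-- `W_Y ≤ hat` -/
theorem W_hat {Y : Subgroup G} (hY : Pnt V Z Y) {a : G} (ha : a ∈ ws V Y) : a ∈ h.hat := h.C_le_hat (h.one.W_le_C hY ha)

/-- `[a, w]` for `a ∈ W_Y` -/
theorem rp_W {Y : Subgroup G} (hY : Pnt V Z Y) (hne : Y ≠ Z) {a : G} (ha : a ∈ ws V Y) (w : ws V Z) :
    ∃ u : G, ∃ hu : u ∈ IV V Z, u = a * w * a⁻¹ * (w : G)⁻¹ ∧
      h.rp ⟨a, h.W_hat hY ha⟩ (h.fm w) - h.fm w = h.fm ⟨u, h.one.I_le_W' hu⟩ := by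
  have h1 : a * w * a⁻¹ * (w : G)⁻¹ ∈ IV V Z := h.one.comm_mem hY h.one.self hne ha w.2
  refine ⟨_, h1, rfl, ?_⟩
  have e : h.rp ⟨a, h.W_hat hY ha⟩ (h.fm w) = _ := h.rp_fm' (h.W_hat hY ha) w.2
  rw [e, sub_eq_iff_eq_add, ← h.fm_mul]
  congr 1
  apply Subtype.ext
  show a * w * a⁻¹ = a * w * a⁻¹ * (w : G)⁻¹ * w
  group

/-- `W_Y` centralises `Ī` -/
theorem rp_W_I {Y : Subgroup G} (hY : Pnt V Z Y) {a : G} (ha : a ∈ ws V Y) {u : G} (hu : u ∈ IV V Z) :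
    h.rp ⟨a, h.W_hat hY ha⟩ (h.fm ⟨u, h.one.I_le_W' hu⟩) = h.fm ⟨u, h.one.I_le_W' hu⟩ := by
  have e : h.rp ⟨a, h.W_hat hY ha⟩ (h.fm ⟨u, h.one.I_le_W' hu⟩) = _ := h.rp_fm' (h.W_hat hY ha) (h.one.I_le_W' hu)
  rw [e]
  congr 1
  apply Subtype.ext
  show a * u * a⁻¹ = u
  rw [← h.one.I_comm_W hY hu ha, mul_inv_cancel_right]

/-- `A` is quadratic -/
theorem rp_quad {Y : Subgroup G} (hY : Pnt V Z Y) (hne : Y ≠ Z) {a b : G} (ha : a ∈ ws V Y) (hb : b ∈ ws V Y) (m : h.MF) :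
    h.rp ⟨a, h.W_hat hY ha⟩ (h.rp ⟨b, h.W_hat hY hb⟩ m - m) = h.rp ⟨b, h.W_hat hY hb⟩ m - m := by
  obtain ⟨w, rfl⟩ := h.fm_surj m
  obtain ⟨u, hu, -, e⟩ := h.rp_W hY hne hb w
  rw [e]
  exact h.rp_W_I hY ha hu

/-- `[MF, W_Y]` -/
noncomputable def Rb {Y : Subgroup G} (hY : Pnt V Z Y) : Submodule F h.MF :=
  ⨆ a : ws V Y, LinearMap.range (h.rp ⟨a, h.W_hat hY a.2⟩ - 1)

theorem mem_Rb {Y : Subgroup G} (hY : Pnt V Z Y) {a : G} (ha : a ∈ ws V Y) (m : h.MF) :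
    h.rp ⟨a, h.W_hat hY ha⟩ m - m ∈ h.Rb hY :=
  (le_iSup (fun a : ws V Y => LinearMap.range (h.rp ⟨a, h.W_hat hY a.2⟩ - 1)) ⟨a, ha⟩) ⟨m, rfl⟩

/-- `Ī` -/
noncomputable def Ib : AddSubgroup h.MF where
  carrier := {m | ∃ u, ∃ hu : u ∈ IV V Z, h.fm ⟨u, h.one.I_le_W' hu⟩ = m}
  zero_mem' := ⟨1, one_mem _, h.fm_one⟩
  add_mem' := by
    rintro _ _ ⟨u, hu, rfl⟩ ⟨v, hv, rfl⟩
    exact ⟨u * v, mul_mem hu hv, h.fm_mul ⟨u, h.one.I_le_W' hu⟩ ⟨v, h.one.I_le_W' hv⟩⟩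
  neg_mem' := by
    rintro _ ⟨u, hu, rfl⟩
    refine ⟨u, hu, ?_⟩
    rw [eq_neg_iff_add_eq_zero, ← h.fm_mul]
    have e : (⟨u, h.one.I_le_W' hu⟩ : ws V Z) * ⟨u, h.one.I_le_W' hu⟩ = 1 := Subtype.ext (h.one.I_sq hu)
    rw [e, h.fm_one]

theorem mem_Ib {m : h.MF} : m ∈ h.Ib ↔ ∃ u, ∃ hu : u ∈ IV V Z, h.fm ⟨u, h.one.I_le_W' hu⟩ = m := Iff.rfl

theorem lam_le_Ib {m : h.MF} (hm : m ∈ h.lam) : m ∈ h.Ib := by
  obtain ⟨v, hv, rfl⟩ := h.mem_lam.1 hm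
  exact ⟨v, h.one.pl.V_le_IV hv, rfl⟩

theorem Rb_le_Ib {Y : Subgroup G} (hY : Pnt V Z Y) (hne : Y ≠ Z) {m : h.MF} (hm : m ∈ h.Rb hY) : m ∈ h.Ib := by
  refine Submodule.iSup_induction (motive := fun m => m ∈ h.Ib) _ hm ?_ (zero_mem _) fun _ _ => add_mem
  rintro ⟨a, ha⟩ _ ⟨m, rfl⟩
  obtain ⟨w, rfl⟩ := h.fm_surj m
  obtain ⟨u, hu, -, e⟩ := h.rp_W hY hne ha w
  exact ⟨u, hu, e.symm⟩

/-- **(FIX)** on `MF` -/
theorem Ib_fix {m : h.MF} (hm : m ∈ h.Ib)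
    (hf : ∀ s (hs : s ∈ B), s ∈ centralizer (V : Set G) → h.rp ⟨s, h.C_le_hat (h.one.B_le_C hs)⟩ m = m) : m ∈ h.lam := by
  obtain ⟨u, hu, rfl⟩ := hm
  rw [h.fm_mem_lam_I hu]
  refine h.one.fix hu fun s hs hsV => ?_
  have h1 := hf s hs hsV
  have e : h.rp ⟨s, h.C_le_hat (h.one.B_le_C hs)⟩ (h.fm ⟨u, h.one.I_le_W' hu⟩) = _ :=
    h.rp_fm' (h.C_le_hat (h.one.B_le_C hs)) (h.one.I_le_W' hu)
  rw [e, h.fm_eq] at h1
  have h2 : s * u * s⁻¹ * u⁻¹ ∈ IV V Z :=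
    mul_mem ((mem_normalizer_iff.1 (normalizer_le_IV V Z (h.one.B_norm_V hs)) _).1 hu) (inv_mem hu)
  exact h.rd_inf_I ⟨h1, h2⟩

/-- `λ ≤ Rb` if `A` is not trivial on `W_Z / Z` -/
theorem fm_I_eq {u v : G} (hu : u ∈ IV V Z) (hv : v ∈ IV V Z) :
    h.fm ⟨u, h.one.I_le_W' hu⟩ = h.fm ⟨v, h.one.I_le_W' hv⟩ ↔ u * v⁻¹ ∈ Z := by
  rw [h.fm_eq]
  have h2 : u * v⁻¹ ∈ IV V Z := mul_mem hu (inv_mem hv)
  exact ⟨fun h1 => h.rd_inf_I ⟨h1, h2⟩, fun h1 => h.Z_le_rd h1⟩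

end Co

end Cfsg.Agent.Omega.NO3S.OneQ

end

section


/-!
# NO-3S, `OneQ`: the maps `α`, `β`, `φ` (bb OMEGA #17428, #17971, #19637 FRAME)

`NTr V Z` : `A` contains no `λ`-transvection (case (N)).

* `Co.XV_mat` : `X_l` acts on `V` by matrices of determinant 1;
* `NTr.mem_ee` : `[w, W_Y] ≤ V` ⟹ `w ∈ E_Z`; `NTr.rd_le` : `rd ≤ D_Z`;
* `Co.sw` : the swap; `Co.Eb`; `Co.al m` (`m ∈ MF`) : the operator of `sw w sw⁻¹`, `m = fm w`;
  `al_add`, `al_eq_one` (`↔ m ∈ Eb`), `al_symm`, `al_smul_Eb`, `al_smul`.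
-/

set_option autoImplicit false
set_option linter.unusedSectionVars false

namespace Cfsg.Agent.Omega.NO3S.OneQ

open Subgroup Cfsg.Agent.Omega.NO3S.PT Cfsg.Agent.Omega.NoFF.Basic
open scoped Pointwise

universe u

variable {G : Type u} [Group G]

/-- `A` contains no `λ`-transvection: case (N) -/
def NTr (V Z : Subgroup G) : Prop :=
  ∀ Y, Pnt V Z Y → Y ≠ Z → ∀ u ∈ ws V Y, (∀ w ∈ ws V Z, u * w * u⁻¹ * w⁻¹ ∈ V) → u ∈ kx V Z

namespace Co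

variable [Finite G] {F : Type*} [Field F] [CharP F 2] {S : Sylow 2 G} {B P V Z : Subgroup G} (h : Co F S B P V Z)

include h in
/-- `X_l` acts on `V` by matrices -/
theorem XV_mat {g : G} (hg : g ∈ XV V Z) : ∃ a b c d : F, a * d + b * c = 1 ∧
    ∀ x y, g * h.e x y * g⁻¹ = h.e (a * x + b * y) (c * x + d * y) := by
  let E : Subgroup G :=
    { carrier := {g | ∃ a b c d : F, a * d + b * c = 1 ∧
        ∀ x y, g * h.e x y * g⁻¹ = h.e (a * x + b * y) (c * x + d * y)}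
      one_mem' := ⟨1, 0, 0, 1, by ring, fun x y => by
        rw [one_mul, inv_one, mul_one]; congr 1 <;> ring⟩
      mul_mem' := by
        rintro g k ⟨a, b, c, d, h1, h2⟩ ⟨a', b', c', d', h1', h2'⟩
        refine ⟨a * a' + b * c', a * b' + b * d', c * a' + d * c', c * b' + d * d', ?_, fun x y => ?_⟩
        · have h3 : (a * a' + b * c') * (c * b' + d * d') + (a * b' + b * d') * (c * a' + d * c') =
              (a * d + b * c) * (a' * d' + b' * c') + (a * c * a' * b' + a * c * a' * b') +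
                (b * d * c' * d' + b * d * c' * d') := by ring
          rw [h3, h1, h1', CharTwo.add_self_eq_zero, CharTwo.add_self_eq_zero, mul_one, add_zero, add_zero]
        · have e : g * k * h.e x y * (g * k)⁻¹ = g * (k * h.e x y * k⁻¹) * g⁻¹ := by group
          rw [e, h2', h2]
          congr 1 <;> ring
      inv_mem' := by
        rintro g ⟨a, b, c, d, h1, h2⟩
        refine ⟨d, b, c, a, by rw [mul_comm d a]; exact h1, fun x y => ?_⟩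
        have h3 := h2 (d * x + b * y) (c * x + a * y)
        have e1 : a * (d * x + b * y) + b * (c * x + a * y) = x := by
          have : a * (d * x + b * y) + b * (c * x + a * y) = (a * d + b * c) * x + (a * b * y + a * b * y) := by ring
          rw [this, h1, CharTwo.add_self_eq_zero, one_mul, add_zero]
        have e2 : c * (d * x + b * y) + d * (c * x + a * y) = y := by
          have : c * (d * x + b * y) + d * (c * x + a * y) = (a * d + b * c) * y + (c * d * x + c * d * x) := by ring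
          rw [this, h1, CharTwo.add_self_eq_zero, one_mul, add_zero]
        rw [e1, e2] at h3
        rw [← h3, inv_inv]
        group }
  have h1 : XV V Z ≤ E := by
    refine h.XV_le.trans (sup_le ?_ ?_)
    · intro k hk
      obtain ⟨t, ht⟩ := h.K_tv hk
      exact ⟨1, t, 0, 1, by ring, fun x y => by rw [ht]; congr 1 <;> ring⟩
    · intro k hk
      obtain ⟨t, ht⟩ := h.K_tv' hk
      exact ⟨1, 0, t, 1, by ring, fun x y => by rw [ht]; congr 1 <;> ring⟩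
  exact h1 hg

/-- the swap in `X_l` -/
noncomputable def sw : G := (h.exists_n (one_ne_zero (α := F))).choose

theorem sw_XV : h.sw ∈ XV V Z := (h.exists_n (one_ne_zero (α := F))).choose_spec.1

theorem sw_act (x y : F) : h.sw * h.e x y * h.sw⁻¹ = h.e y x := by
  have h1 : h.sw * h.e x y * h.sw⁻¹ = h.e (1 * y) (1⁻¹ * x) :=
    (h.exists_n (one_ne_zero (α := F))).choose_spec.2 x y
  rw [h1, inv_one, one_mul, one_mul]

theorem sw_act' (x y : F) : h.sw⁻¹ * h.e x y * h.sw = h.e y x := by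
  rw [← h.sw_act y x]; group

theorem cj_sw : cj h.sw Z = h.Yp := h.cj_swap h.sw_act

theorem cj_sw' : cj h.sw h.Yp = Z := by
  ext v
  rw [mem_cj, h.mem_Yp, h.mem_Z]
  constructor
  · rintro ⟨b, hb⟩
    refine ⟨b, ?_⟩
    rw [← h.sw_act, hb]; group
  · rintro ⟨a, rfl⟩
    exact ⟨a, (h.sw_act' a 0).symm⟩

theorem sw_sq : h.sw * h.sw ∈ yl V Z := by
  rw [← h.XV_cent]
  refine ⟨mul_mem h.sw_XV h.sw_XV, h.mem_cent fun a b => ?_⟩
  have e : h.sw * h.sw * h.e a b * (h.sw * h.sw)⁻¹ = h.sw * (h.sw * h.e a b * h.sw⁻¹) * h.sw⁻¹ := by group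
  rw [e, h.sw_act, h.sw_act]

theorem sw_N : h.sw ∈ normalizer (V : Set G) := h.one.pl.XV_le_N h.sw_XV

theorem sw_W {w : G} (hw : w ∈ ws V Z) : h.sw * w * h.sw⁻¹ ∈ ws V h.Yp := by
  have := conj_mem_cj (g := h.sw) hw
  rwa [← ws_cj, h.cj_sw] at this

theorem sw_W' {w : G} (hw : w ∈ ws V h.Yp) : h.sw * w * h.sw⁻¹ ∈ ws V Z := by
  have := conj_mem_cj (g := h.sw) hw
  rwa [← ws_cj, h.cj_sw'] at this

theorem sw_inv_W {w : G} (hw : w ∈ ws V h.Yp) : h.sw⁻¹ * w * h.sw ∈ ws V Z := by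
  rw [← h.cj_sw, ws_cj, mem_cj] at hw
  exact hw

theorem sw_inv_W' {w : G} (hw : w ∈ ws V Z) : h.sw⁻¹ * w * h.sw ∈ ws V h.Yp := by
  rw [← h.cj_sw', ws_cj, mem_cj] at hw
  exact hw

theorem sw_ee {w : G} : h.sw * w * h.sw⁻¹ ∈ ee V Z h.Yp ↔ w ∈ ee V Z Z := by
  rw [← h.cj_sw, ← cj_ee h.sw_N, mem_cj]
  have e : h.sw⁻¹ * (h.sw * w * h.sw⁻¹) * h.sw = w := by group
  rw [e]

end Co

namespace NTr

variable [Finite G] {S : Sylow 2 G} {B P V Z : Subgroup G} (hN : NTr V Z) (h : One S B P V Z)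
include hN h

/-- `[w, W_Y] ≤ V` implies `w ∈ E_Z` -/
theorem mem_ee {Y : Subgroup G} (hY : Pnt V Z Y) (hne : Y ≠ Z) {w : G} (hw : w ∈ ws V Z)
    (hc : ∀ u ∈ ws V Y, w * u * w⁻¹ * u⁻¹ ∈ V) : w ∈ ee V Z Z := by
  obtain ⟨g, hg, -, hgZ, hgY⟩ := h.pl.swap h.hf h.self.cj h.self.le hY.cj hY.le
  have hgN := h.pl.XV_le_N hg
  have h1 : g * w * g⁻¹ ∈ ws V Y := by
    have := conj_mem_cj (g := g) hw
    rwa [← ws_cj, hgZ] at this
  have h2 : g * w * g⁻¹ ∈ kx V Z := by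
    refine hN Y hY hne _ h1 fun v hv => ?_
    have h3 : g⁻¹ * v * g ∈ ws V Y := by
      rw [← hgY, ws_cj, mem_cj] at hv
      exact hv
    have h4 := (mem_normalizer_iff.1 hgN _).1 (hc _ h3)
    have e : g * (w * (g⁻¹ * v * g) * w⁻¹ * (g⁻¹ * v * g)⁻¹) * g⁻¹ = g * w * g⁻¹ * v * (g * w * g⁻¹)⁻¹ * v⁻¹ := by group
    rwa [e] at h4
  have h3 : g * w * g⁻¹ ∈ ee V Z Y := by
    rw [h.ee_eq hY h.self hne.symm]
    exact ⟨h1, h2⟩
  rw [← hgZ, ← cj_ee hgN, mem_cj] at h3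
  have e : g⁻¹ * (g * w * g⁻¹) * g = w := by group
  rwa [e] at h3

omit hN in
/-- `NN` (helper248) implies `NTr` -/
theorem of_nn (hN : NN V Z) : NTr V Z := by
  intro Y hY hne u hu hc
  obtain ⟨g, hg, -, hgZ, hgY⟩ := h.pl.swap h.hf h.self.cj h.self.le hY.cj hY.le
  have hgN := h.pl.XV_le_N hg
  have h1 : g * u * g⁻¹ ∈ ws V Z := by
    have := conj_mem_cj (g := g) hu
    rwa [← ws_cj, hgY] at this
  have h2 : g * u * g⁻¹ ∈ ee V Z Z := by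
    refine hN (h.n0_eq h.self hY hne h1 fun v hv => ?_)
    have h3 : g⁻¹ * v * g ∈ ws V Z := by
      rw [← hgZ, ws_cj, mem_cj] at hv
      exact hv
    have h4 := (mem_normalizer_iff.1 hgN _).1 (hc _ h3)
    have e : g * (u * (g⁻¹ * v * g) * u⁻¹ * (g⁻¹ * v * g)⁻¹) * g⁻¹ = g * u * g⁻¹ * v * (g * u * g⁻¹)⁻¹ * v⁻¹ := by group
    rwa [e] at h4
  have h3 : u ∈ ee V Z Y := by
    have h4 : g * u * g⁻¹ ∈ cj g (ee V Z Y) := by
      rw [cj_ee hgN, hgY]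
      exact h2
    rw [mem_cj] at h4
    have e : g⁻¹ * (g * u * g⁻¹) * g = u := by group
    rwa [e] at h4
  rw [h.ee_eq hY h.self hne.symm] at h3
  exact h3.2

end NTr

namespace Co

variable [Finite G] {F : Type*} [Field F] [CharP F 2] {S : Sylow 2 G} {B P V Z : Subgroup G} (h : Co F S B P V Z)

include h in
/-- `rd ≤ D_Z` in case (N) -/
theorem rd_le_dd (hN : NTr V Z) : rd V Z ≤ dd V Z Z := by
  intro w hw
  have hwW := rd_le hw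
  have h1 : w ∈ ee V Z Z := by
    refine hN.mem_ee h.one h.pY h.Yp_ne hwW fun u hu => h.one.pl.ZV ?_
    exact h.rd_comm h.pY h.Yp_ne hw hu
  refine h.one.mem_dd_of h.one.self h.pY h.Yp_ne hwW fun u hu => ?_
  have h2 := h.one.ee_act' h.pY h.Yp_ne h1 hu
  have h3 := h.rd_comm h.pY h.Yp_ne hw hu
  have h3' : u * w * u⁻¹ * w⁻¹ ∈ Z := by
    have := inv_mem h3
    have e : (w * u * w⁻¹ * u⁻¹)⁻¹ = u * w * u⁻¹ * w⁻¹ := by group
    rwa [e] at this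
  have h4 : u * w * u⁻¹ * w⁻¹ ∈ Z ⊓ h.Yp := ⟨h3', h2⟩
  rw [h.one.pl.pts_inf h.one.self.cj h.pY.cj h.Yp_ne.symm, mem_bot, mul_inv_eq_one, mul_inv_eq_iff_eq_mul] at h4
  exact h4.symm

include h in
/-- `rd ≤ E_Z` in case (N) -/
theorem rd_le_ee (hN : NTr V Z) : rd V Z ≤ ee V Z Z := (h.rd_le_dd hN).trans (h.one.dd_le_ee h.one.self)

include h in
/-- `D_Z = I` implies `rd = Z` -/
theorem rd_eq (hN : NTr V Z) (hD : dd V Z Z ≤ IV V Z) : rd V Z = Z :=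
  le_antisymm ((le_inf le_rfl ((h.rd_le_dd hN).trans hD)).trans h.rd_inf_I) h.Z_le_rd

/-- `Ē` -/
noncomputable def Eb : Submodule F h.MF where
  carrier := {m | ∀ a (ha : a ∈ ws V h.Yp), h.rp ⟨a, h.W_hat h.pY ha⟩ m - m ∈ h.lam}
  zero_mem' := fun a ha => by rw [map_zero, sub_zero]; exact zero_mem _
  add_mem' := by
    intro m n hm hn a ha
    rw [map_add, add_sub_add_comm]
    exact add_mem (hm a ha) (hn a ha)
  smul_mem' := by
    intro c m hm a ha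
    have e : h.rp ⟨a, h.W_hat h.pY ha⟩ (c • m) - c • m = c • (h.rp ⟨a, h.W_hat h.pY ha⟩ m - m) := by
      rw [map_smul]; exact (smul_sub _ _ _).symm
    rw [e]
    exact h.lam.smul_mem c (hm a ha)

theorem mem_Eb {m : h.MF} : m ∈ h.Eb ↔ ∀ a (ha : a ∈ ws V h.Yp), h.rp ⟨a, h.W_hat h.pY ha⟩ m - m ∈ h.lam := Iff.rfl

theorem fm_Eb {w : ws V Z} (hw : (w : G) ∈ ee V Z Z) : h.fm w ∈ h.Eb := by
  intro a ha
  obtain ⟨u, hu, hu', e⟩ := h.rp_W h.pY h.Yp_ne ha w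
  rw [e, h.fm_mem_lam_I hu, hu']
  exact h.pY.le (h.one.ee_act' h.pY h.Yp_ne hw ha)

theorem fm_Eb_iff (hN : NTr V Z) {w : ws V Z} : h.fm w ∈ h.Eb ↔ (w : G) ∈ ee V Z Z := by
  refine ⟨fun h1 => hN.mem_ee h.one h.pY h.Yp_ne w.2 fun u hu => ?_, h.fm_Eb⟩
  obtain ⟨v, hv, hv', e⟩ := h.rp_W h.pY h.Yp_ne hu w
  have h2 := h1 u hu
  rw [e, h.fm_mem_lam_I hv, hv'] at h2
  have h3 := inv_mem h2
  have e : (u * w * u⁻¹ * (w : G)⁻¹)⁻¹ = w * u * (w : G)⁻¹ * u⁻¹ := by group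
  rwa [e] at h3

theorem add_self (m : h.MF) : m + m = 0 := by
  rw [← two_smul F m, CharTwo.two_eq_zero, zero_smul]

theorem neg_eq (m : h.MF) : -m = m := neg_eq_of_add_eq_zero_left (h.add_self m)

theorem sub_eq (m n : h.MF) : m - n = m + n := by rw [sub_eq_add_neg, h.neg_eq]

/-- the operator of `sw w sw⁻¹` -/
noncomputable def ag (w : ws V Z) : Module.End F h.MF := h.rp ⟨h.sw * w * h.sw⁻¹, h.W_hat h.pY (h.sw_W w.2)⟩

theorem ag_mul (w w' : ws V Z) : h.ag (w * w') = h.ag w * h.ag w' := by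
  rw [ag, ag, ag, ← map_mul]
  congr 1
  apply Subtype.ext
  show h.sw * (w * w') * h.sw⁻¹ = h.sw * w * h.sw⁻¹ * (h.sw * w' * h.sw⁻¹)
  group

/-- `W_Y ∩ K_Z` acts trivially -/
theorem rp_one_of {g : G} (hg : g ∈ kx V Z) (hgh : g ∈ h.hat) : h.rp ⟨g, hgh⟩ = 1 :=
  LinearMap.ext fun m => h.rp_K hg m

theorem ag_one_of {w : ws V Z} (hw : (w : G) ∈ ee V Z Z) : h.ag w = 1 := by
  refine h.rp_one_of ?_ _
  have h1 := h.sw_ee.2 hw
  rw [h.one.ee_eq h.pY h.one.self h.Yp_ne.symm] at h1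
  exact h1.2

theorem ag_eq_one (hN : NTr V Z) {w : ws V Z} : h.ag w = 1 ↔ (w : G) ∈ ee V Z Z := by
  refine ⟨fun h1 => ?_, h.ag_one_of⟩
  have h2 : h.sw * w * h.sw⁻¹ ∈ ee V Z h.Yp := by
    rw [h.one.ee_eq h.pY h.one.self h.Yp_ne.symm]
    refine ⟨h.sw_W w.2, hN _ h.pY h.Yp_ne _ (h.sw_W w.2) fun v hv => ?_⟩
    obtain ⟨u, hu, hu', e⟩ := h.rp_W h.pY h.Yp_ne (h.sw_W w.2) ⟨v, hv⟩
    have h3 : h.rp ⟨h.sw * w * h.sw⁻¹, h.W_hat h.pY (h.sw_W w.2)⟩ = 1 := h1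
    rw [h3, Module.End.one_apply, sub_self] at e
    rw [← hu', ← h.fm_mem_lam_I hu, ← e]
    exact zero_mem _
  exact h.sw_ee.1 h2

theorem ag_congr (hN : NTr V Z) {w w' : ws V Z} (hw : h.fm w - h.fm w' ∈ h.Eb) : h.ag w = h.ag w' := by
  have h1 : h.fm (w * w'⁻¹) ∈ h.Eb := by
    rw [h.fm_mul, h.fm_inv]
    rw [← h.sub_eq]
    exact hw
  have h2 := (h.ag_eq_one hN).2 ((h.fm_Eb_iff hN).1 h1)
  have h3 := h.ag_mul (w * w'⁻¹) w'
  rw [inv_mul_cancel_right, h2, one_mul] at h3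
  exact h3

/-- **`α`** -/
noncomputable def al (m : h.MF) : Module.End F h.MF := h.ag (h.fm_surj m).choose

theorem al_fm (hN : NTr V Z) (w : ws V Z) : h.al (h.fm w) = h.ag w := by
  refine h.ag_congr hN ?_
  rw [(h.fm_surj (h.fm w)).choose_spec, sub_self]
  exact zero_mem _

theorem al_add (hN : NTr V Z) (m n : h.MF) : h.al (m + n) = h.al m * h.al n := by
  obtain ⟨w, rfl⟩ := h.fm_surj m
  obtain ⟨w', rfl⟩ := h.fm_surj n
  rw [← h.fm_mul, h.al_fm hN, h.al_fm hN, h.al_fm hN, h.ag_mul]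

theorem al_eq_one (hN : NTr V Z) {m : h.MF} : h.al m = 1 ↔ m ∈ h.Eb := by
  obtain ⟨w, rfl⟩ := h.fm_surj m
  rw [h.al_fm hN, h.ag_eq_one hN, h.fm_Eb_iff hN]

theorem al_zero (hN : NTr V Z) : h.al 0 = 1 := (h.al_eq_one hN).2 (zero_mem _)

theorem al_sq (hN : NTr V Z) (m : h.MF) : h.al m * h.al m = 1 := by
  rw [← h.al_add hN, h.add_self, h.al_zero hN]

theorem al_congr (hN : NTr V Z) {m n : h.MF} : h.al m = h.al n ↔ m + n ∈ h.Eb := by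
  rw [← h.al_eq_one hN, h.al_add hN]
  constructor
  · intro e
    rw [e, h.al_sq hN]
  · intro e
    calc h.al m = h.al m * (h.al n * h.al n) := by rw [h.al_sq hN, mul_one]
      _ = h.al m * h.al n * h.al n := (mul_assoc _ _ _).symm
      _ = h.al n := by rw [e, one_mul]

theorem exists_al (hN : NTr V Z) (m : h.MF) :
    ∃ a, ∃ ha : a ∈ ws V h.Yp, h.al m = h.rp ⟨a, h.W_hat h.pY ha⟩ := by
  obtain ⟨w, rfl⟩ := h.fm_surj m
  exact ⟨_, h.sw_W w.2, h.al_fm hN w⟩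

theorem al_surj (hN : NTr V Z) {a : G} (ha : a ∈ ws V h.Yp) : ∃ m, h.al m = h.rp ⟨a, h.W_hat h.pY ha⟩ := by
  have h1 := h.sw_inv_W ha
  refine ⟨h.fm ⟨_, h1⟩, ?_⟩
  rw [h.al_fm hN, ag]
  congr 1
  apply Subtype.ext
  show h.sw * (h.sw⁻¹ * a * h.sw) * h.sw⁻¹ = a
  group

theorem al_comm (hN : NTr V Z) (m n : h.MF) : h.al m * h.al n = h.al n * h.al m := by
  rw [← h.al_add hN, add_comm, h.al_add hN]

/-- `A` is quadratic -/
theorem al_quad (hN : NTr V Z) (m n x : h.MF) : h.al m (h.al n x - x) = h.al n x - x := by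
  obtain ⟨a, ha, e⟩ := h.exists_al hN m
  obtain ⟨b, hb, e'⟩ := h.exists_al hN n
  rw [e, e']
  exact h.rp_quad h.pY h.Yp_ne ha hb x

theorem al_Ib (hN : NTr V Z) (m : h.MF) {x : h.MF} (hx : x ∈ h.Ib) : h.al m x = x := by
  obtain ⟨a, ha, e⟩ := h.exists_al hN m
  obtain ⟨u, hu, rfl⟩ := hx
  rw [e]
  exact h.rp_W_I h.pY ha hu

theorem al_sub_Ib (hN : NTr V Z) (m x : h.MF) : h.al m x - x ∈ h.Ib := by
  obtain ⟨a, ha, e⟩ := h.exists_al hN m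
  rw [e]
  exact h.Rb_le_Ib h.pY h.Yp_ne (h.mem_Rb h.pY ha x)

theorem al_Eb (hN : NTr V Z) (m : h.MF) {x : h.MF} (hx : x ∈ h.Eb) : h.al m x - x ∈ h.lam := by
  obtain ⟨a, ha, e⟩ := h.exists_al hN m
  rw [e]
  exact hx a ha

theorem mem_Eb_iff (hN : NTr V Z) {x : h.MF} : x ∈ h.Eb ↔ ∀ m, h.al m x - x ∈ h.lam := by
  refine ⟨fun hx m => h.al_Eb hN m hx, fun hx a ha => ?_⟩
  obtain ⟨m, hm⟩ := h.al_surj hN ha
  rw [← hm]
  exact hx m

theorem sw_ee' {x : G} (hx : x ∈ ee V Z Z) : h.sw⁻¹ * x * h.sw ∈ ee V Z h.Yp := by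
  have h1 : x ∈ cj h.sw (ee V Z h.Yp) := by
    rw [cj_ee h.sw_N, h.cj_sw']
    exact hx
  exact mem_cj.1 h1

theorem sw_ee_kx {x : G} (hx : x ∈ ee V Z Z) : h.sw⁻¹ * x * h.sw ∈ kx V Z := by
  have h1 := h.sw_ee' hx
  rw [h.one.ee_eq h.pY h.one.self h.Yp_ne.symm] at h1
  exact h1.2

/-- the formula for `φ_e` -/
theorem ag_ee {x : G} (hx : x ∈ ee V Z Z) (w : ws V Z) :
    h.ag w (h.fm ⟨x, ee_le hx⟩) - h.fm ⟨x, ee_le hx⟩ = h.fn w (h.sw⁻¹ * x * h.sw) • h.v0 := by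
  obtain ⟨u, hu, hu', e⟩ := h.rp_W h.pY h.Yp_ne (h.sw_W w.2) ⟨x, ee_le hx⟩
  have hk := h.sw_ee_kx hx
  have e1 := h.e_fn w.2 hk
  have e2 : u = h.e 0 (h.fn w (h.sw⁻¹ * x * h.sw)) := by
    rw [hu', ← h.sw_act, ← h.e_inv, e1]
    group
  have e3 : h.ag w (h.fm ⟨x, ee_le hx⟩) - h.fm ⟨x, ee_le hx⟩ = _ := e
  rw [e3, ← h.fm_e 0]
  congr 1
  exact Subtype.ext e2

/-- **`φ_e` is `F`-linear** -/
theorem al_smul_Eb (hN : NTr V Z) (c : F) (m : h.MF) {x : h.MF} (hx : x ∈ h.Eb) :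
    h.al (c • m) x - x = c • (h.al m x - x) := by
  obtain ⟨w, rfl⟩ := h.fm_surj m
  obtain ⟨y, rfl⟩ := h.fm_surj x
  obtain ⟨w', hw'⟩ := h.fm_surj (c • h.fm w)
  have hy := (h.fm_Eb_iff hN).1 hx
  have h1 := h.ag_ee hy w
  have h2 := h.ag_ee hy w'
  have hk := h.sw_ee_kx hy
  have h3 : h.fn w' (h.sw⁻¹ * y * h.sw) = c * h.fn w (h.sw⁻¹ * y * h.sw) := by
    have h4 := congrFun (congrArg Subtype.val hw') ⟨_, hk⟩
    exact h4
  rw [← hw', h.al_fm hN, h.al_fm hN]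
  have e1 : h.ag w' (h.fm y) - h.fm y = _ := h2
  have e2 : h.ag w (h.fm y) - h.fm y = _ := h1
  rw [e1, e2, h3, mul_smul]

/-- **`β` is symmetric** -/
theorem ag_symm (w w' : ws V Z) : (h.ag w' (h.fm w) - h.fm w) - (h.ag w (h.fm w') - h.fm w') ∈ h.lam := by
  obtain ⟨u, hu, hu', e⟩ := h.rp_W h.pY h.Yp_ne (h.sw_W w'.2) w
  obtain ⟨v, hv, hv', e'⟩ := h.rp_W h.pY h.Yp_ne (h.sw_W w.2) w'
  have e1 : h.ag w' (h.fm w) - h.fm w = _ := e
  have e2 : h.ag w (h.fm w') - h.fm w' = _ := e'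
  rw [e1, e2, h.sub_eq, ← h.fm_mul]
  have hI : u * v ∈ IV V Z := mul_mem hu hv
  have key : u * v ∈ V := by
    -- `s⁻¹ u s = u` mod `V`
    have h1 : h.sw⁻¹ * u * h.sw * u⁻¹ ∈ V := by
      have := h.one.XV_I (inv_mem h.sw_XV) hu
      rwa [inv_inv] at this
    set a := h.sw * w * h.sw⁻¹ with ha
    have haW : a ∈ ws V h.Yp := h.sw_W w.2
    have hy := inv_mem h.sw_sq
    have h2 := h.one.yl_ee h.pY hy haW
    set ε := (h.sw * h.sw)⁻¹ * a * (h.sw * h.sw)⁻¹⁻¹ * a⁻¹ with hε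
    have h3 : h.sw⁻¹ * w * h.sw = ε * a := by rw [hε, ha]; group
    have h4 : h.sw⁻¹ * u * h.sw = w' * (ε * a) * (w' : G)⁻¹ * (ε * a)⁻¹ := by
      rw [← h3, hu']; group
    have h5 : w' * ε * (w' : G)⁻¹ * ε⁻¹ ∈ Z := h.one.ee_act' h.one.self h.Yp_ne.symm h2 w'.2
    have hεW : ε ∈ ws V h.Yp := ee_le h2
    have h6 : w' * a * (w' : G)⁻¹ * a⁻¹ ∈ IV V Z := h.one.comm_mem h.one.self h.pY h.Yp_ne.symm w'.2 haW
    have h7 : ε * (w' * a * (w' : G)⁻¹ * a⁻¹) = w' * a * (w' : G)⁻¹ * a⁻¹ * ε := (h.one.I_comm_W h.pY h6 hεW).symm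
    have h8 : w' * (ε * a) * (w' : G)⁻¹ * (ε * a)⁻¹ = w' * ε * (w' : G)⁻¹ * ε⁻¹ * (w' * a * (w' : G)⁻¹ * a⁻¹) := by
      calc w' * (ε * a) * (w' : G)⁻¹ * (ε * a)⁻¹ =
          w' * ε * (w' : G)⁻¹ * ε⁻¹ * (ε * (w' * a * (w' : G)⁻¹ * a⁻¹)) * ε⁻¹ := by group
        _ = _ := by rw [h7]; group
    have h9 : w' * a * (w' : G)⁻¹ * a⁻¹ = v⁻¹ := by rw [hv']; group
    rw [h8, h9] at h4
    rw [h4] at h1
    have h10 : v⁻¹ * u⁻¹ ∈ V := by
      have e3 : v⁻¹ * u⁻¹ = (w' * ε * (w' : G)⁻¹ * ε⁻¹)⁻¹ * (w' * ε * (w' : G)⁻¹ * ε⁻¹ * v⁻¹ * u⁻¹) := by group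
      rw [e3]
      exact mul_mem (inv_mem (h.one.pl.ZV h5)) h1
    have h11 := inv_mem h10
    rwa [mul_inv_rev, inv_inv, inv_inv] at h11
  rw [h.mem_lam]
  exact ⟨⟨u * v, h.one.I_le_W' hI⟩, key, rfl⟩

theorem al_symm (hN : NTr V Z) (m n : h.MF) : (h.al n m - m) - (h.al m n - n) ∈ h.lam := by
  obtain ⟨w, rfl⟩ := h.fm_surj m
  obtain ⟨w', rfl⟩ := h.fm_surj n
  rw [h.al_fm hN, h.al_fm hN]
  exact h.ag_symm w w'

/-- **`β` is `F`-bilinear** -/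
theorem al_smul (hN : NTr V Z) (c : F) (m n : h.MF) : (h.al (c • m) n - n) - c • (h.al m n - n) ∈ h.lam := by
  have h1 := h.al_symm hN (c • m) n
  have h2 := h.lam.smul_mem c (h.al_symm hN m n)
  have h3 := sub_mem h2 h1
  have e : h.al n (c • m) - c • m = c • (h.al n m - m) := by
    rw [map_smul]; exact (smul_sub _ _ _).symm
  rw [e] at h3
  have e2 : c • ((h.al n m - m) - (h.al m n - n)) - (c • (h.al n m - m) - (h.al (c • m) n - n)) =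
      (h.al (c • m) n - n) - c • (h.al m n - n) := by
    have e3 : c • ((h.al n m - m) - (h.al m n - n)) = c • (h.al n m - m) - c • (h.al m n - n) := smul_sub _ _ _
    rw [e3]
    abel
  rw [← e2]
  exact h3

/-! ### `K~` -/

include h in
theorem yl_C : yl V Z ≤ centralizer (Z : Set G) := (yl_le_cent V Z).trans (centralizer_le h.one.pl.ZV)

/-- `[MF, Y_l] ≤ Ē` -/
theorem yl_Eb {k : G} (hk : k ∈ yl V Z) (m : h.MF) : h.rp ⟨k, h.C_le_hat (h.yl_C hk)⟩ m - m ∈ h.Eb := by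
  obtain ⟨w, rfl⟩ := h.fm_surj m
  have e : h.rp ⟨k, h.C_le_hat (h.yl_C hk)⟩ (h.fm w) = _ := h.rp_fm' (h.C_le_hat (h.yl_C hk)) w.2
  have h1 := h.one.yl_ee h.one.self hk w.2
  rw [e, h.sub_eq, ← h.fm_mul]
  refine h.fm_Eb ?_
  have e2 : ((⟨k * w * k⁻¹, h.W_conj (h.hat_norm (h.C_le_hat (h.yl_C hk))) w.2⟩ : ws V Z) * w : ws V Z) =
      k * w * k⁻¹ * (w : G)⁻¹ := by
    rw [h.one.inv_eq_W h.one.self w.2]; rfl
  show ((⟨k * w * k⁻¹, h.W_conj (h.hat_norm (h.C_le_hat (h.yl_C hk))) w.2⟩ : ws V Z) * w : G) ∈ ee V Z Z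
  rw [h.one.inv_eq_W h.one.self w.2] at h1
  exact h1

/-- `Y_l` centralises `A` -/
theorem yl_A {k : G} (hk : k ∈ yl V Z) {a : G} (ha : a ∈ ws V h.Yp) :
    h.rp ⟨k, h.C_le_hat (h.yl_C hk)⟩ * h.rp ⟨a, h.W_hat h.pY ha⟩ =
      h.rp ⟨a, h.W_hat h.pY ha⟩ * h.rp ⟨k, h.C_le_hat (h.yl_C hk)⟩ := by
  have h1 := h.one.yl_ee h.pY hk ha
  rw [h.one.ee_eq h.pY h.one.self h.Yp_ne.symm] at h1
  have h2 := h.rp_one_of h1.2 (h.C_le_hat (kx_le_cent h1.2))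
  rw [← map_mul, ← map_mul]
  have e : (⟨k, h.C_le_hat (h.yl_C hk)⟩ * ⟨a, h.W_hat h.pY ha⟩ : h.hat) =
      ⟨k * a * k⁻¹ * a⁻¹, h.C_le_hat (kx_le_cent h1.2)⟩ * (⟨a, h.W_hat h.pY ha⟩ * ⟨k, h.C_le_hat (h.yl_C hk)⟩) :=
    Subtype.ext (by
      show k * a = k * a * k⁻¹ * a⁻¹ * (a * k)
      group)
  rw [e, map_mul, h2, one_mul]

theorem yl_al (hN : NTr V Z) {k : G} (hk : k ∈ yl V Z) (m : h.MF) :
    h.rp ⟨k, h.C_le_hat (h.yl_C hk)⟩ * h.al m = h.al m * h.rp ⟨k, h.C_le_hat (h.yl_C hk)⟩ := by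
  obtain ⟨a, ha, e⟩ := h.exists_al hN m
  rw [e]
  exact h.yl_A hk ha

theorem hat_inv_mul {g : G} (hg : g ∈ h.hat) : h.rp ⟨g⁻¹, inv_mem hg⟩ * h.rp ⟨g, hg⟩ = 1 := by
  rw [← map_mul]
  have e : (⟨g⁻¹, inv_mem hg⟩ * ⟨g, hg⟩ : h.hat) = 1 := Subtype.ext (inv_mul_cancel g)
  rw [e, map_one]

theorem hat_mul_inv {g : G} (hg : g ∈ h.hat) : h.rp ⟨g, hg⟩ * h.rp ⟨g⁻¹, inv_mem hg⟩ = 1 := by
  rw [← map_mul]
  have e : (⟨g, hg⟩ * ⟨g⁻¹, inv_mem hg⟩ : h.hat) = 1 := Subtype.ext (mul_inv_cancel g)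
  rw [e, map_one]

/-- **`α` is `C_G(V)`-equivariant** -/
theorem al_equi (hN : NTr V Z) {c : G} (hc : c ∈ centralizer (V : Set G)) (m : h.MF) :
    h.al (h.rp ⟨c, h.C_le_hat (centralizer_le h.one.pl.ZV hc)⟩ m) * h.rp ⟨c, h.C_le_hat (centralizer_le h.one.pl.ZV hc)⟩ =
      h.rp ⟨c, h.C_le_hat (centralizer_le h.one.pl.ZV hc)⟩ * h.al m := by
  obtain ⟨w, rfl⟩ := h.fm_surj m
  have hcC := centralizer_le h.one.pl.ZV hc
  have hch := h.C_le_hat hcC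
  have e : h.rp ⟨c, hch⟩ (h.fm w) = _ := h.rp_fm' hch w.2
  rw [e, h.al_fm hN, h.al_fm hN, ag, ag]
  -- `s c = y c s`
  have hy : h.sw * c * h.sw⁻¹ * c⁻¹ ∈ yl V Z := h.one.comm_yl h.sw_XV hc
  set y := h.sw * c * h.sw⁻¹ * c⁻¹ with hyd
  set a := h.sw * w * h.sw⁻¹ with had
  have haW : a ∈ ws V h.Yp := h.sw_W w.2
  have hca : c * a * c⁻¹ ∈ ws V h.Yp := (mem_normalizer_iff.1 (h.one.cent_norm_W h.pY hc) _).1 haW
  have h1 := h.yl_A hy hca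
  have h2 := h.hat_mul_inv (h.C_le_hat (h.yl_C hy))
  have e1 : (⟨h.sw * (c * w * c⁻¹) * h.sw⁻¹, h.W_hat h.pY (h.sw_W (h.W_conj (h.hat_norm hch) w.2))⟩ : h.hat) *
      ⟨c, hch⟩ = ⟨y, h.C_le_hat (h.yl_C hy)⟩ * ⟨c * a * c⁻¹, h.W_hat h.pY hca⟩ * ⟨y⁻¹, inv_mem (h.C_le_hat (h.yl_C hy))⟩ *
        ⟨c, hch⟩ := Subtype.ext (by
    show h.sw * (c * w * c⁻¹) * h.sw⁻¹ * c = y * (c * a * c⁻¹) * y⁻¹ * c
    rw [hyd, had]; group)
  have e2 : (⟨c, hch⟩ : h.hat) * ⟨a, h.W_hat h.pY haW⟩ = ⟨c * a * c⁻¹, h.W_hat h.pY hca⟩ * ⟨c, hch⟩ :=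
    Subtype.ext (by
      show c * a = c * a * c⁻¹ * c
      group)
  have e3 : h.rp (⟨h.sw * (c * w * c⁻¹) * h.sw⁻¹, h.W_hat h.pY (h.sw_W (h.W_conj (h.hat_norm hch) w.2))⟩ : h.hat) *
      h.rp ⟨c, hch⟩ = h.rp ⟨c, hch⟩ * h.rp ⟨a, h.W_hat h.pY haW⟩ := by
    rw [← map_mul, e1, map_mul, map_mul, map_mul, h1, mul_assoc (h.rp ⟨c * a * c⁻¹, h.W_hat h.pY hca⟩), h2, mul_one,
      ← map_mul, ← map_mul, e2]
  exact e3

include h in
/-- **`K~`** : `[u, K_Y ∩ C_G(V)] = Y`, `u ∈ I - V` -/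
theorem exists_yl {u : G} (hu : u ∈ IV V Z) (huV : u ∉ V) (a : F) :
    ∃ k ∈ yl V Z, k * u * k⁻¹ = h.e 0 a * u := by
  obtain ⟨k, hk, hkV, hku⟩ := h.one.pl.F2' h.one.hf h.one.hO hu huV h.pY.cj h.pY.le (h.e_memY a)
  refine ⟨k, mem_yl_of h.pY hk hkV, ?_⟩
  rw [← hku]; group

/-- an element of `C_G(Z)` fixing the line vector lies in `K_Z C_G(V)` -/
theorem fix_v0 (hrd : rd V Z = Z) {d : G} (hd : d ∈ centralizer (Z : Set G))
    (hd0 : h.rp ⟨d, h.C_le_hat hd⟩ h.v0 = h.v0) : ∃ k ∈ kx V Z, k⁻¹ * d ∈ centralizer (V : Set G) := by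
  have h1 : ∀ y, d * h.e 0 y * d⁻¹ * (h.e 0 y)⁻¹ ∈ Z := by
    intro y
    have e : h.rp ⟨d, h.C_le_hat hd⟩ (h.fm ⟨h.e 0 y, h.W_V 0 y⟩) = _ := h.rp_fm' (h.C_le_hat hd) (h.W_V 0 y)
    have e2 : h.rp ⟨d, h.C_le_hat hd⟩ (h.fm ⟨h.e 0 y, h.W_V 0 y⟩) = h.fm ⟨h.e 0 y, h.W_V 0 y⟩ := by
      rw [h.fm_e, map_smul, hd0]
    rw [e, h.fm_eq, hrd] at e2
    exact e2
  obtain ⟨t, ht⟩ := (h.mem_Z _).1 (h1 1)
  obtain ⟨k, hk, -, hkt⟩ := h.exists_K t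
  refine ⟨k, hk, ?_⟩
  set f := k⁻¹ * d with hf
  have hkC : k ∈ centralizer (Z : Set G) := kx_le_cent hk
  have hfC : f ∈ centralizer (Z : Set G) := mul_mem (inv_mem hkC) hd
  have hf1 : f * h.e 0 1 = h.e 0 1 * f := by
    have e1 : d * h.e 0 1 * d⁻¹ = k * h.e 0 1 * k⁻¹ := by
      rw [hkt, zero_add, mul_one]
      have e2 : d * h.e 0 1 * d⁻¹ = h.e t 0 * h.e 0 1 := by rw [ht]; group
      rw [e2, ← h.e_add, add_zero, zero_add]
    calc f * h.e 0 1 = k⁻¹ * (d * h.e 0 1 * d⁻¹) * d := by rw [hf]; group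
      _ = k⁻¹ * (k * h.e 0 1 * k⁻¹) * d := by rw [e1]
      _ = h.e 0 1 * f := by rw [hf]; group
  -- `f` acts trivially on `V / Z`
  have hfy : ∀ y, ∃ x, f * h.e 0 y * f⁻¹ = h.e x y := by
    intro y
    obtain ⟨s, hs⟩ := (h.mem_Z _).1 (h1 y)
    have e2 : d * h.e 0 y * d⁻¹ = h.e s y := by
      have e3 : d * h.e 0 y * d⁻¹ = h.e s 0 * h.e 0 y := by rw [hs]; group
      rw [e3, ← h.e_add, add_zero, zero_add]
    refine ⟨s + t * y, ?_⟩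
    have hki : ∀ x y, k⁻¹ * h.e x y * k = h.e (x + t * y) y := by
      intro x y
      have e4 : h.e x y = h.e (x + t * y + t * y) y := by rw [add_assoc, CharTwo.add_self_eq_zero, add_zero]
      rw [e4, ← hkt]; group
    have e5 : f * h.e 0 y * f⁻¹ = k⁻¹ * (d * h.e 0 y * d⁻¹) * k := by rw [hf]; group
    rw [e5, e2, hki]
  have hfz : ∀ x, f * h.e x 0 * f⁻¹ = h.e x 0 := fun x => by
    rw [(mem_centralizer_iff.1 hfC _ (h.e_memZ x)).symm, mul_inv_cancel_right]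
  have hfxy : ∀ x y, ∃ x', f * h.e x y * f⁻¹ = h.e x' y := by
    intro x y
    obtain ⟨x', hx'⟩ := hfy y
    refine ⟨x + x', ?_⟩
    have e1 : h.e x y = h.e x 0 * h.e 0 y := by rw [← h.e_add, add_zero, zero_add]
    have e2 : f * h.e x y * f⁻¹ = f * h.e x 0 * f⁻¹ * (f * h.e 0 y * f⁻¹) := by rw [e1]; group
    rw [e2, hfz, hx', ← h.e_add, zero_add]
  have hfV : f ∈ normalizer (V : Set G) := by
    rw [← cj_eq_iff]
    refine eq_of_le_of_card_ge ?_ (by rw [card_cj])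
    intro v hv
    rw [mem_cj] at hv
    obtain ⟨x, y, hxy⟩ := (h.mem_V _).1 hv
    obtain ⟨x', hx'⟩ := hfxy x y
    rw [hxy] at hx'
    have e : f * (f⁻¹ * v * f) * f⁻¹ = v := by group
    rw [e] at hx'
    rw [hx']
    exact h.e_memV _ _
  have hff : f * f ∈ centralizer (V : Set G) := by
    refine h.mem_cent fun x y => ?_
    obtain ⟨x', hx'⟩ := hfy y
    have e1 : h.e x y = h.e x 0 * h.e 0 y := by rw [← h.e_add, add_zero, zero_add]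
    have e2 : f * f * h.e x y * (f * f)⁻¹ = f * (f * h.e x 0 * f⁻¹) * f⁻¹ * (f * (f * h.e 0 y * f⁻¹) * f⁻¹) := by
      rw [e1]; group
    have e3 : h.e x' y = h.e x' 0 * h.e 0 y := by rw [← h.e_add, add_zero, zero_add]
    have e4 : f * h.e x' y * f⁻¹ = f * h.e x' 0 * f⁻¹ * (f * h.e 0 y * f⁻¹) := by rw [e3]; group
    rw [e2, hfz, hfz, hx', e4, hfz, hx', ← h.e_add, ← h.e_add]
    congr 1
    · rw [← add_assoc, add_comm x x', add_assoc, add_comm x, ← add_assoc, CharTwo.add_self_eq_zero, zero_add]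
    · rw [zero_add, zero_add]
  obtain ⟨m, hm, hfm⟩ := exists_odd_pow f
  have hmV : f ^ m ∈ centralizer (V : Set G) := by
    refine h.one.pl.two_line hfm (pow_mem hfC m) (pow_mem hfV m) (h.e_memV 0 1) ?_
      (Commute.pow_left (show Commute f (h.e 0 1) from hf1) m)
    rw [h.e_memZ_iff]
    exact one_ne_zero
  obtain ⟨j, rfl⟩ := hm
  have e : f = f ^ (2 * j + 1) * ((f * f) ^ j)⁻¹ := by
    rw [pow_succ', pow_mul, pow_two, mul_inv_cancel_right]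
  rw [e]
  exact mul_mem hmV (inv_mem (pow_mem hff j))

end Co

end Cfsg.Agent.Omega.NO3S.OneQ

end

section


set_option autoImplicit false

namespace Cfsg.Agent.Omega.NO3S.OneQ.DualAbs

/-- a nonzero additive functional of a field -/
theorem exists_tt (F : Type*) [Field F] [CharP F 2] : ∃ t : F →+ ZMod 2, ∃ x, t x ≠ 0 := by
  let _ := ZMod.algebra F 2
  by_contra hcon
  push Not at hcon
  refine one_ne_zero ((Module.forall_dual_apply_eq_zero_iff (ZMod 2) (1 : F)).1 fun φ => ?_)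
  exact hcon φ.toAddMonoidHom 1

theorem eq_zero_of_tt {F : Type*} [Field F] {t : F →+ ZMod 2} {x : F} (hx : t x ≠ 0) {y : F}
    (hy : ∀ c : F, t (c * y) = 0) : y = 0 := by
  by_contra hne
  apply hx
  have := hy (x * y⁻¹)
  rwa [mul_assoc, inv_mul_cancel₀ hne, mul_one] at this

/-- **duality over `F_2` of `F`-linear functionals** -/
theorem mem_of_dual {F M : Type*} [Field F] [CharP F 2] [AddCommGroup M] [Module F M] [Finite M]
    (A : AddSubgroup (M →ₗ[F] F)) {t : F →+ ZMod 2} {x : F} (hx : t x ≠ 0) (f : M →ₗ[F] F)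
    (hf : ∀ m, (∀ a ∈ A, t (a m) = 0) → f m = 0) : f ∈ A := by
  have h2 : ∀ m : M, 2 • m = 0 := fun m => by
    rw [← Nat.cast_smul_eq_nsmul F, Nat.cast_ofNat, CharTwo.two_eq_zero, zero_smul]
  let _ : Module (ZMod 2) M := AddCommGroup.zmodModule h2
  let tr : (M →ₗ[F] F) → Module.Dual (ZMod 2) M := fun a => (t.comp a.toAddMonoidHom).toZModLinearMap 2
  have htr : ∀ a m, tr a m = t (a m) := fun _ _ => rfl
  let E : Submodule (ZMod 2) (Module.Dual (ZMod 2) M) :=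
    AddSubgroup.toZModSubmodule 2
      { carrier := {φ | ∃ a ∈ A, tr a = φ}
        zero_mem' := ⟨0, zero_mem _, LinearMap.ext fun m => by rw [htr]; simp⟩
        add_mem' := by
          rintro _ _ ⟨a, ha, rfl⟩ ⟨b, hb, rfl⟩
          exact ⟨a + b, add_mem ha hb, LinearMap.ext fun m => by
            rw [LinearMap.add_apply, htr, htr, htr, LinearMap.add_apply, map_add]⟩
        neg_mem' := by
          rintro _ ⟨a, ha, rfl⟩
          exact ⟨-a, neg_mem ha, LinearMap.ext fun m => by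
            rw [LinearMap.neg_apply, htr, htr, LinearMap.neg_apply, map_neg]⟩ }
  have h3 : tr f ∈ E.dualCoannihilator.dualAnnihilator := by
    rw [Submodule.mem_dualAnnihilator]
    intro m hm
    rw [Submodule.mem_dualCoannihilator] at hm
    rw [htr, hf m fun a ha => by rw [← htr]; exact hm _ ⟨a, ha, rfl⟩, map_zero]
  have : Module.Finite (ZMod 2) M := Module.Finite.of_finite
  rw [Subspace.dualCoannihilator_dualAnnihilator_eq] at h3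
  obtain ⟨a, ha, hae⟩ := h3
  have h4 : f = a := by
    refine LinearMap.ext fun m => sub_eq_zero.1 (eq_zero_of_tt hx fun c => ?_)
    have h5 := congrArg (fun φ => φ (c • m)) hae
    simp only [htr] at h5
    rw [mul_sub, map_sub, ← smul_eq_mul, ← smul_eq_mul, ← map_smul, ← map_smul, h5, sub_self]
  rw [h4]
  exact ha

/-- a functional vanishing on the common kernel of a subspace of functionals -/
theorem mem_of_coker {F M : Type*} [Field F] [AddCommGroup M] [Module F M] [FiniteDimensional F M]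
    (W : Submodule F (Module.Dual F M)) (f : Module.Dual F M) (hf : ∀ m, (∀ a ∈ W, a m = 0) → f m = 0) : f ∈ W := by
  rw [← Subspace.dualCoannihilator_dualAnnihilator_eq (W := W), Submodule.mem_dualAnnihilator]
  intro m hm
  exact hf m ((Submodule.mem_dualCoannihilator _).1 hm)

/-- a subspace is the common kernel of its annihilator -/
theorem mem_of_ann {F M : Type*} [Field F] [AddCommGroup M] [Module F M] 
    (N : Submodule F M) (m : M) (hm : ∀ a : M →ₗ[F] F, (∀ n ∈ N, a n = 0) → a m = 0) : m ∈ N := by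
  rw [← Subspace.dualAnnihilator_dualCoannihilator_eq (W := N), Submodule.mem_dualCoannihilator]
  intro a ha
  exact hm a ((Submodule.mem_dualAnnihilator _).1 ha)

/-- extension of a functional from `N` by zero on `M₁` -/
theorem exists_ext {F M : Type*} [Field F] [AddCommGroup M] [Module F M] (M₁ N : Submodule F M)
    (h : Disjoint M₁ N) (f : M →ₗ[F] F) : ∃ g : M →ₗ[F] F, (∀ m ∈ M₁, g m = 0) ∧ ∀ n ∈ N, g n = f n := by
  obtain ⟨N', hN, hc⟩ := h.symm.exists_isCompl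
  refine ⟨f ∘ₗ N'.subtype ∘ₗ Submodule.projectionOnto N' M₁ hc, fun m hm => ?_, fun n hn => ?_⟩
  · rw [LinearMap.comp_apply, LinearMap.comp_apply, (Submodule.projectionOnto_apply_eq_zero_iff hc).2 hm, map_zero, map_zero]
  · rw [LinearMap.comp_apply, LinearMap.comp_apply]
    have := Submodule.projectionOnto_apply_left hc ⟨n, hN hn⟩
    rw [this]
    rfl

end Cfsg.Agent.Omega.NO3S.OneQ.DualAbs

end

section


/-!
# NO-3S, `OneQ`: EXACT DUALITY (bb OMEGA #17833 (1))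

* `lx_le` : `L_Z` is generated by the `C_G(Z)`-conjugates of the `W_Y`, `Y ≠ Z` a point of `V`;
* `Co.m1` = `{w ∈ W_Z | [L_Z, w] ≤ rd}`; `Co.m1_inf_I` : `m1 ∩ I ≤ Z`;
* `Co.kappa` : every `F`-linear `f : MF → F` vanishing on `m1` is `w ↦ [k, w]` for some `k ∈ K_Z`;
* `Co.dual_E` : every `F`-linear `f : MF → F` vanishing on `n0 V Z Z` is `w ↦ [e, w]` for some `e ∈ E_Y`;
* `Co.dual_N` : in case (N) every `f` vanishing on `E_Z` is `w ↦ [e, w]`, `e ∈ E_Y`; `Co.cent_N` : `C_MF(A) = D_Z`.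
-/

set_option autoImplicit false
set_option linter.unusedSectionVars false

namespace Cfsg.Agent.Omega.NO3S.OneQ

open Subgroup Cfsg.Agent.Omega.NO3S.PT Cfsg.Agent.Omega.NoFF.Basic
open scoped Pointwise

universe u

variable {G : Type u} [Group G]

namespace Co

variable [Finite G] {F : Type*} [Field F] [CharP F 2] {S : Sylow 2 G} {B P V Z : Subgroup G} (h : Co F S B P V Z)

include h in
/-- `L_Z` is generated by the `C_G(Z)`-conjugates of the `W_Y` -/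
theorem lx_le {D : Subgroup G}
    (hD : ∀ c ∈ centralizer (Z : Set G), ∀ Y, Pnt V Z Y → Y ≠ Z → ∀ u ∈ ws V Y, c * u * c⁻¹ ∈ D) : lx V Z Z ≤ D := by
  refine (closure_le _).2 ?_
  rintro a ⟨n, hn, Y, hY, hne, ha⟩
  have hnZ : PT.cj n Z = Z := cj_eq_iff.2 hn
  have h1 : Z ≤ PT.cj n V := by
    rw [← hnZ]
    exact cj_le_cj.2 h.one.pl.ZV
  obtain ⟨c, hc, hcV⟩ := h.line_eq ⟨n, rfl⟩ h1
  have hcZ : PT.cj c Z = Z := cj_eq_iff.2 (centralizer_le_normalizer _ hc)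
  have hcZ' : PT.cj c⁻¹ Z = Z := cj_eq_iff.2 (centralizer_le_normalizer _ (inv_mem hc))
  have h2 : Pnt V Z (PT.cj (c⁻¹ * n) Y) := by
    refine ⟨hY.cj.cj _, ?_⟩
    rw [← cj_cj, cj_le_iff, inv_inv, ← hcV]
    exact cj_le_cj.2 hY.le
  have h3 : PT.cj (c⁻¹ * n) Y ≠ Z := by
    intro e
    apply hne
    have h4 : PT.cj (c⁻¹ * n) Y = PT.cj (c⁻¹ * n) Z := by rw [e, ← cj_cj, hnZ, hcZ']
    exact cj_inj.1 h4
  have h4 : c⁻¹ * a * c ∈ ws V (PT.cj (c⁻¹ * n) Y) := by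
    rw [ws_cj, mem_cj]
    have e : (c⁻¹ * n)⁻¹ * (c⁻¹ * a * c) * (c⁻¹ * n) = n⁻¹ * a * n := by group
    rw [e]
    exact ha
  have h5 := hD c hc _ h2 h3 _ h4
  have e : c * (c⁻¹ * a * c) * c⁻¹ = a := by group
  rwa [e] at h5

/-- `{w ∈ W_Z | [L_Z, w] ≤ rd}` -/
def m1 : Subgroup G where
  carrier := {w | w ∈ ws V Z ∧ ∀ g ∈ lx V Z Z, g * w * g⁻¹ * w⁻¹ ∈ rd V Z}
  one_mem' := ⟨one_mem _, fun g _ => by
    have : g * 1 * g⁻¹ * 1⁻¹ = 1 := by group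
    rw [this]; exact one_mem _⟩
  mul_mem' := by
    rintro a b ⟨ha, ha'⟩ ⟨hb, hb'⟩
    refine ⟨mul_mem ha hb, fun g hg => ?_⟩
    have e : g * (a * b) * g⁻¹ * (a * b)⁻¹ = (g * a * g⁻¹ * a⁻¹) * (a * (g * b * g⁻¹ * b⁻¹) * a⁻¹) := by group
    have h1 := rd_le (hb' g hg)
    rw [e, h.one.comm_W h.one.self.cj ha h1, mul_inv_cancel_right]
    exact mul_mem (ha' g hg) (hb' g hg)
  inv_mem' := by
    rintro a ⟨ha, ha'⟩
    refine ⟨inv_mem ha, fun g hg => ?_⟩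
    rw [h.one.inv_eq_W h.one.self ha]
    exact ha' g hg

theorem mem_m1 {w : G} : w ∈ h.m1 ↔ w ∈ ws V Z ∧ ∀ g ∈ lx V Z Z, g * w * g⁻¹ * w⁻¹ ∈ rd V Z := Iff.rfl

theorem m1_le : h.m1 ≤ ws V Z := fun _ hw => hw.1

theorem rd_le_m1 : rd V Z ≤ h.m1 := by
  intro w hw
  refine ⟨rd_le hw, fun g hg => ?_⟩
  have h1 := norm_rd V Z (centralizer_le_normalizer _ (h.one.lx_le_C h.one.self hg))
  exact mul_mem ((mem_normalizer_iff.1 h1 w).1 hw) (inv_mem hw)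

theorem Z_le_m1 : Z ≤ h.m1 := h.Z_le_rd.trans h.rd_le_m1

theorem norm_m1 : normalizer (Z : Set G) ≤ normalizer ((h.m1 : Subgroup G) : Set G) := by
  refine QAbs.norm_of fun n hn w hw => ⟨h.W_conj hn hw.1, fun g hg => ?_⟩
  have h1 : n⁻¹ * g * n ∈ lx V Z Z := by
    have := (mem_normalizer_iff.1 (norm_lx V Z Z (inv_mem hn)) g).1 hg
    rwa [inv_inv] at this
  have h2 := (mem_normalizer_iff.1 (norm_rd V Z hn) _).1 (hw.2 _ h1)
  have e : n * (n⁻¹ * g * n * w * (n⁻¹ * g * n)⁻¹ * w⁻¹) * n⁻¹ = g * (n * w * n⁻¹) * g⁻¹ * (n * w * n⁻¹)⁻¹ := by group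
  rwa [e] at h2

theorem inv_m1 : h.Inv h.m1 := Inv.of_normZ h.Z_le_m1 h.norm_m1

/-- `L_Z` is not trivial on `MF` -/
theorem not_W_le_m1 : ¬ ws V Z ≤ h.m1 := by
  intro h1
  refine h.V_not_le_rd (h.V_le_of_comm h.inv_rd h.pY h.Yp_ne fun w hw u hu => ?_)
  have h2 := (h1 hw).2 u (W_le_lx h.pY h.Yp_ne hu)
  have h3 := inv_mem h2
  have e : (u * w * u⁻¹ * w⁻¹)⁻¹ = w * u * w⁻¹ * u⁻¹ := by group
  rwa [e] at h3

theorem V_not_le_m1 : ¬ V ≤ h.m1 := fun h1 =>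
  h.not_W_le_m1 (h.W_le_of_V h1 ((centralizer_le_normalizer _).trans h.norm_m1))

theorem m1_inf_I : h.m1 ⊓ IV V Z ≤ Z := h.inv_m1.sub h.V_not_le_m1

/-- `[L_Z, w] ≤ rd` in terms of `fn` -/
theorem m1_fn {w g k : G} (hw : w ∈ h.m1) (hg : g ∈ lx V Z Z) (hk : k ∈ kx V Z) : h.fn (g * w * g⁻¹) k = h.fn w k := by
  have hgC := h.one.lx_le_C h.one.self hg
  have h1 := (h.mem_rd_iff (mul_mem (h.W_conj (centralizer_le_normalizer _ hgC) hw.1) (inv_mem hw.1))).1 (hw.2 g hg) k hk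
  rw [h.fn_mul (h.W_conj (centralizer_le_normalizer _ hgC) hw.1) (inv_mem hw.1) hk, h.fn_inv hw.1] at h1
  rw [← add_left_inj (h.fn w k), h1, CharTwo.add_self_eq_zero]

theorem fn_inv' {w k : G} (hw : w ∈ ws V Z) (hk : k ∈ kx V Z) : h.fn w k⁻¹ = h.fn w k := by
  have h1 := h.fn_mul' hw hk (inv_mem hk)
  rw [mul_inv_cancel, h.fn_one' hw] at h1
  rw [← add_left_inj (h.fn w k), CharTwo.add_self_eq_zero, add_comm]
  exact h1.symm

/-- evaluation at `k` -/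
noncomputable def evl (k : kx V Z) : h.MF →ₗ[F] F := (LinearMap.proj k).comp h.MF.subtype

theorem evl_fm (k : kx V Z) (w : ws V Z) : h.evl k (h.fm w) = h.fn w k := rfl

/-- the elements of `K_Z` which centralise `m1` -/
def k0 : Subgroup G where
  carrier := {k | k ∈ kx V Z ∧ ∀ w ∈ h.m1, h.fn w k = 0}
  one_mem' := ⟨one_mem _, fun w hw => h.fn_one' hw.1⟩
  mul_mem' := by
    rintro a b ⟨ha, ha'⟩ ⟨hb, hb'⟩
    exact ⟨mul_mem ha hb, fun w hw => by rw [h.fn_mul' hw.1 ha hb, ha' w hw, hb' w hw, add_zero]⟩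
  inv_mem' := by
    rintro a ⟨ha, ha'⟩
    exact ⟨inv_mem ha, fun w hw => by rw [h.fn_inv' hw.1 ha, ha' w hw]⟩

theorem k0_conj {n k : G} (hn : n ∈ h.hat) (hk : k ∈ h.k0) : n⁻¹ * k * n ∈ h.k0 := by
  refine ⟨h.K_conj (h.hat_norm hn) hk.1, fun w hw => ?_⟩
  have h1 := h.fn_conj' (h.chi_spec ⟨n, hn⟩) (h.hat_norm hn) hw.1 hk.1
  rw [hk.2 _ ((mem_normalizer_iff.1 (h.norm_m1 (h.hat_norm hn)) w).1 hw)] at h1
  exact (mul_eq_zero.1 h1.symm).resolve_left (Units.ne_zero _)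

/-- `[K_Z, L_Z] ≤ k0` -/
theorem comm_k0 {k g : G} (hk : k ∈ kx V Z) (hg : g ∈ lx V Z Z) : k * (g * k⁻¹ * g⁻¹) ∈ h.k0 := by
  have hgC := h.one.lx_le_C h.one.self hg
  have hk' : g * k⁻¹ * g⁻¹ ∈ kx V Z :=
    (mem_normalizer_iff.1 (normalizer_le_kx V Z (centralizer_le_normalizer _ hgC)) _).1 (inv_mem hk)
  refine ⟨mul_mem hk hk', fun w hw => ?_⟩
  have h1 := h.fn_conj (inv_mem hgC) hw.1 (inv_mem hk)
  rw [inv_inv] at h1
  rw [h.fn_mul' hw.1 hk hk', ← h1]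
  have h2 := h.m1_fn hw (inv_mem hg) (inv_mem hk)
  rw [inv_inv] at h2
  rw [h2, h.fn_inv' hw.1 hk, CharTwo.add_self_eq_zero]

section

variable (t : F →+ ZMod 2)

/-- the annihilator of `k0` -/
def d0 : Subgroup G where
  carrier := {w | w ∈ ws V Z ∧ ∀ k ∈ h.k0, t (h.fn w k) = 0}
  one_mem' := ⟨one_mem _, fun k hk => by rw [h.fn_one hk.1, map_zero]⟩
  mul_mem' := by
    rintro a b ⟨ha, ha'⟩ ⟨hb, hb'⟩
    exact ⟨mul_mem ha hb, fun k hk => by rw [h.fn_mul ha hb hk.1, map_add, ha' k hk, hb' k hk, add_zero]⟩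
  inv_mem' := by
    rintro a ⟨ha, ha'⟩
    exact ⟨inv_mem ha, fun k hk => by rw [h.fn_inv ha, ha' k hk]⟩

theorem Z_le_d0 : Z ≤ h.d0 t := fun z hz => ⟨h.one.pl.Z_le_ws hz, fun k hk => by rw [h.fn_Z hz hk.1, map_zero]⟩

theorem d0_norm : centralizer (Z : Set G) ≤ normalizer ((h.d0 t : Subgroup G) : Set G) := by
  refine QAbs.norm_of fun n hn w hw => ⟨h.W_conj (centralizer_le_normalizer _ hn) hw.1, fun k hk => ?_⟩
  rw [h.fn_conj hn hw.1 hk.1]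
  exact hw.2 _ (h.k0_conj (h.C_le_hat hn) hk)

/-- the twisted torus -/
theorem V_le_d0 [Finite F] {v : G} (hv : v ∈ h.d0 t) (hvV : v ∈ V) (hvZ : v ∉ Z) : V ≤ h.d0 t := by
  obtain ⟨a, b, rfl⟩ := (h.mem_V v).1 hvV
  have hb : b ≠ 0 := fun e => hvZ (h.e_memZ_iff.2 e)
  intro u hu
  obtain ⟨x, y, rfl⟩ := (h.mem_V u).1 hu
  refine ⟨h.W_V x y, fun k hk => ?_⟩
  by_cases hy : y = 0
  · rw [hy]
    rw [h.fn_Z (h.e_memZ x) hk.1, map_zero]
  obtain ⟨ζ, hζ⟩ : ∃ ζ : F, ζ * ζ = b * y⁻¹ := by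
    obtain ⟨ζ, hζ⟩ := (frobeniusEquiv F 2).surjective (b * y⁻¹)
    exact ⟨ζ, by rw [← hζ, frobeniusEquiv_apply, frobenius_def, pow_two]⟩
  have hζ0 : ζ ≠ 0 := by
    rintro rfl
    rw [mul_zero] at hζ
    exact mul_ne_zero hb (inv_ne_zero hy) hζ.symm
  obtain ⟨τ, hτ⟩ := h.exists_tor hζ0
  have h1 := h.fn_tor hτ hζ0 (h.W_V a b) hk.1
  rw [hτ.act, h.fn_V _ _ hk.1] at h1
  have h2 := hv.2 _ (h.k0_conj (hτ.hat hζ0) hk)
  have h3 : h.fn (h.e x y) k = h.fn (h.e a b) (τ⁻¹ * k * τ) := by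
    rw [h.fn_V x y hk.1]
    apply mul_left_cancel₀ hζ0
    rw [← h1]
    have h4 : y * (ζ * ζ) = b := by rw [hζ, mul_comm, mul_assoc, inv_mul_cancel₀ hy, mul_one]
    have h5 : ζ * y = ζ⁻¹ * b := by
      rw [← h4]
      field_simp
    rw [← mul_assoc, h5]
  rw [h3]
  exact h2

/-- **(κ is everything)** : the annihilator of `k0` is `m1` -/
theorem d0_le [Finite F] {x : F} (hx : t x ≠ 0) : h.d0 t ≤ h.m1 := by
  by_contra hcon
  have hV : V ≤ h.d0 t := by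
    obtain ⟨w, hw, hwm⟩ := SetLike.not_le_iff_exists.1 hcon
    -- some `[u, w] ∉ rd`
    obtain ⟨w, hw, Y, hY, hne, u, hu, huw⟩ : ∃ w ∈ h.d0 t, ∃ Y, Pnt V Z Y ∧ Y ≠ Z ∧ ∃ u ∈ ws V Y,
        u * w * u⁻¹ * w⁻¹ ∉ rd V Z := by
      by_contra hc
      push Not at hc
      apply hwm
      refine ⟨hw.1, fun g hg => ?_⟩
      let D : Subgroup G :=
        { carrier := {g | g ∈ centralizer (Z : Set G) ∧ ∀ w ∈ h.d0 t, g * w * g⁻¹ * w⁻¹ ∈ rd V Z}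
          one_mem' := ⟨one_mem _, fun w _ => by
            have : 1 * w * (1 : G)⁻¹ * w⁻¹ = 1 := by group
            rw [this]; exact one_mem _⟩
          mul_mem' := by
            rintro a b ⟨ha, ha'⟩ ⟨hb, hb'⟩
            refine ⟨mul_mem ha hb, fun w hw => ?_⟩
            have e : a * b * w * (a * b)⁻¹ * w⁻¹ =
                (a * (b * w * b⁻¹) * a⁻¹ * (b * w * b⁻¹)⁻¹) * (b * w * b⁻¹ * w⁻¹) := by group
            rw [e]
            exact mul_mem (ha' _ ((mem_normalizer_iff.1 (h.d0_norm t hb) w).1 hw)) (hb' w hw)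
          inv_mem' := by
            rintro a ⟨ha, ha'⟩
            refine ⟨inv_mem ha, fun w hw => ?_⟩
            have h1 := ha' _ ((mem_normalizer_iff.1 (h.d0_norm t (inv_mem ha)) w).1 hw)
            have h2 := inv_mem h1
            have e : (a * (a⁻¹ * w * a⁻¹⁻¹) * a⁻¹ * (a⁻¹ * w * a⁻¹⁻¹)⁻¹)⁻¹ = a⁻¹ * w * a⁻¹⁻¹ * w⁻¹ := by group
            rwa [e] at h2 }
      have h1 : lx V Z Z ≤ D := by
        refine h.lx_le fun c hc' Y hY hne u hu => ⟨?_, fun w hw => ?_⟩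
        · exact mul_mem (mul_mem hc' (h.one.W_le_C hY hu)) (inv_mem hc')
        · have h2 := (mem_normalizer_iff.1 (h.d0_norm t (inv_mem hc')) w).1 hw
          have h3 := hc _ h2 Y hY hne u hu
          have h4 := (mem_normalizer_iff.1 (norm_rd V Z (centralizer_le_normalizer _ hc')) _).1 h3
          have e : c * (u * (c⁻¹ * w * c⁻¹⁻¹) * u⁻¹ * (c⁻¹ * w * c⁻¹⁻¹)⁻¹) * c⁻¹ = c * u * c⁻¹ * w * (c * u * c⁻¹)⁻¹ * w⁻¹ := by
            group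
          rwa [e] at h4
      exact (h1 hg).2 w hw
    have huC := h.one.W_le_C hY hu
    have h1 : u * w * u⁻¹ * w⁻¹ ∈ h.d0 t ⊓ IV V Z := by
      have h2 : u * w * u⁻¹ ∈ h.d0 t := (mem_normalizer_iff.1 (h.d0_norm t huC) w).1 hw
      exact ⟨(h.d0 t).mul_mem h2 ((h.d0 t).inv_mem hw), h.one.comm_mem hY h.one.self hne hu hw.1⟩
    have hn : B ≤ normalizer ((h.d0 t ⊓ IV V Z : Subgroup G) : Set G) := by
      intro s hs
      rw [← cj_eq_iff, cj_inf, cj_eq_iff.2 (h.d0_norm t (h.one.B_le_C hs)),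
        cj_eq_iff.2 (normalizer_le_IV V Z (h.one.B_norm_V hs))]
    obtain ⟨v, hv, hvV, hvZ⟩ := h.one.fix_sub inf_le_right hn fun e => huw (h.Z_le_rd (e h1))
    exact h.V_le_d0 t hv.1 hvV hvZ
  have hW := h.W_le_of_V hV (h.d0_norm t)
  have h0 : ∀ w ∈ ws V Z, ∀ k ∈ h.k0, h.fn w k = 0 := by
    intro w hw k hk
    refine DualAbs.eq_zero_of_tt hx fun c => ?_
    obtain ⟨w', hw', he⟩ := h.exists_smul c hw
    rw [← he k hk.1]
    exact (hW hw').2 k hk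
  apply h.not_W_le_m1
  intro w hw
  refine ⟨hw, fun g hg => ?_⟩
  have hgC := h.one.lx_le_C h.one.self hg
  have hwg : g * w * g⁻¹ ∈ ws V Z := h.W_conj (centralizer_le_normalizer _ hgC) hw
  rw [h.mem_rd_iff (mul_mem hwg (inv_mem hw))]
  intro k hk
  have h1 := h0 w hw _ (h.comm_k0 hk (inv_mem hg))
  have hk' : g⁻¹ * k⁻¹ * g⁻¹⁻¹ ∈ kx V Z :=
    (mem_normalizer_iff.1 (normalizer_le_kx V Z (centralizer_le_normalizer _ (inv_mem hgC))) _).1 (inv_mem hk)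
  rw [h.fn_mul' hw hk hk', inv_inv, ← h.fn_conj hgC hw (inv_mem hk)] at h1
  rw [h.fn_mul (h.W_conj (centralizer_le_normalizer _ hgC) hw) (inv_mem hw) hk, h.fn_inv hw]
  rw [h.fn_inv' (h.W_conj (centralizer_le_normalizer _ hgC) hw) hk] at h1
  rw [add_comm]
  exact h1

end

/-- **EXACT DUALITY, (κ)** -/
theorem kappa [Finite F] (f : h.MF →ₗ[F] F) (hf : ∀ w (hw : w ∈ h.m1), f (h.fm ⟨w, hw.1⟩) = 0) :
    ∃ k ∈ h.k0, ∀ w : ws V Z, f (h.fm w) = h.fn w k := by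
  have hfin : Finite h.MF := Finite.of_surjective h.fm h.fm_surj
  obtain ⟨t, x, hx⟩ := DualAbs.exists_tt F
  let A : AddSubgroup (h.MF →ₗ[F] F) :=
    { carrier := {a | ∃ k, ∃ hk : k ∈ h.k0, a = h.evl ⟨k, hk.1⟩}
      zero_mem' := ⟨1, one_mem _, by
        refine LinearMap.ext fun m => ?_
        obtain ⟨w, rfl⟩ := h.fm_surj m
        rw [h.evl_fm, LinearMap.zero_apply, h.fn_one' w.2]⟩
      add_mem' := by
        rintro _ _ ⟨k, hk, rfl⟩ ⟨l, hl, rfl⟩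
        refine ⟨k * l, mul_mem hk hl, LinearMap.ext fun m => ?_⟩
        obtain ⟨w, rfl⟩ := h.fm_surj m
        rw [LinearMap.add_apply, h.evl_fm, h.evl_fm, h.evl_fm, ← h.fn_mul' w.2 hk.1 hl.1]
      neg_mem' := by
        rintro _ ⟨k, hk, rfl⟩
        refine ⟨k, hk, LinearMap.ext fun m => ?_⟩
        rw [LinearMap.neg_apply, CharTwo.neg_eq] }
  have h1 : f ∈ A := by
    refine DualAbs.mem_of_dual A hx f fun m hm => ?_
    obtain ⟨w, rfl⟩ := h.fm_surj m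
    refine hf w (h.d0_le t hx ⟨w.2, fun k hk => ?_⟩)
    rw [← h.evl_fm ⟨k, hk.1⟩ w]
    exact hm _ ⟨k, hk, rfl⟩
  obtain ⟨k, hk, rfl⟩ := h1
  exact ⟨k, hk, fun w => h.evl_fm _ w⟩

/-! ### `E_Y` -/

/-- `M₁ = C_MF(L_Z)` -/
noncomputable def M1 : Submodule F h.MF :=
  ⨅ g : lx V Z Z, LinearMap.ker (h.rp ⟨g, h.C_le_hat (h.one.lx_le_C h.one.self g.2)⟩ - 1)

theorem mem_M1 (w : ws V Z) : h.fm w ∈ h.M1 ↔ (w : G) ∈ h.m1 := by
  rw [M1, Submodule.mem_iInf]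
  have key : ∀ g (hg : g ∈ lx V Z Z), h.fm w ∈ LinearMap.ker (h.rp ⟨g, h.C_le_hat (h.one.lx_le_C h.one.self hg)⟩ - 1) ↔
      g * w * g⁻¹ * (w : G)⁻¹ ∈ rd V Z := by
    intro g hg
    rw [LinearMap.mem_ker, LinearMap.sub_apply, Module.End.one_apply, sub_eq_zero]
    have e : h.rp ⟨g, h.C_le_hat (h.one.lx_le_C h.one.self hg)⟩ (h.fm w) = _ := h.rp_fm _ w
    rw [e]
    exact h.fm_eq _ w.2
  constructor
  · intro h1
    exact ⟨w.2, fun g hg => (key g hg).1 (h1 ⟨g, hg⟩)⟩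
  · intro h1 g
    exact (key g g.2).2 (h1.2 g g.2)

/-- `w ∈ n0 V Z Z` in `MF` -/
theorem mem_n0_iff {Y : Subgroup G} (hY : Pnt V Z Y) (hne : Y ≠ Z) (w : ws V Z) :
    (w : G) ∈ n0 V Z Z ↔ ∀ u (hu : u ∈ ws V Y), h.rp ⟨u, h.W_hat hY hu⟩ (h.fm w) - h.fm w ∈ h.lam := by
  constructor
  · intro h1 u hu
    obtain ⟨u', hu', he, e⟩ := h.rp_W hY hne hu w
    rw [e, h.fm_mem_lam_I hu', he]
    have h2 := inv_mem (h1.2.2 Y hY u hu)
    have e2 : ((w : G) * u * (w : G)⁻¹ * u⁻¹)⁻¹ = u * w * u⁻¹ * (w : G)⁻¹ := by group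
    rwa [e2] at h2
  · intro h1
    refine h.one.n0_eq h.one.self hY hne w.2 fun u hu => ?_
    obtain ⟨u', hu', he, e⟩ := h.rp_W hY hne hu w
    have h2 := h1 u hu
    rw [e, h.fm_mem_lam_I hu', he] at h2
    have h3 := inv_mem h2
    have e2 : (u * w * u⁻¹ * (w : G)⁻¹)⁻¹ = (w : G) * u * (w : G)⁻¹ * u⁻¹ := by group
    rwa [e2] at h3

/-- `n0 V Z Z` is closed under scalars -/
theorem n0_smul {w w' : ws V Z} {c : F} (hw : (w : G) ∈ n0 V Z Z) (he : h.fm w' = c • h.fm w) : (w' : G) ∈ n0 V Z Z := by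
  rw [h.mem_n0_iff h.pY h.Yp_ne] at hw ⊢
  intro u hu
  have h1 := Submodule.smul_mem _ c (hw u hu)
  rw [he, map_smul]
  rwa [smul_sub] at h1

include h in
theorem ee_le_kx {Y : Subgroup G} (hne : Y ≠ Z) {e : G} (he : e ∈ ee V Z Y) : e ∈ kx V Z :=
  (mem_ee.1 he).2 Z h.one.self hne.symm

/-- **EXACT DUALITY, (E)** : every functional vanishing on `{w | [w, W_Y] ≤ V}` is `w ↦ [e, w]`, `e ∈ E_Y` -/
theorem dual_E [Finite F] {Y : Subgroup G} (hY : Pnt V Z Y) (hne : Y ≠ Z) (f : h.MF →ₗ[F] F)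
    (hf : ∀ w : ws V Z, (w : G) ∈ n0 V Z Z → f (h.fm w) = 0) : ∃ e ∈ ee V Z Y, ∀ w : ws V Z, f (h.fm w) = h.fn w e := by
  have hfin : Finite h.MF := Finite.of_surjective h.fm h.fm_surj
  let U : Set (Module.Dual F h.MF) := {a | ∃ f' : h.MF →ₗ[F] F, (∀ m ∈ h.M1 ⊔ h.lam, f' m = 0) ∧
    ∃ u, ∃ hu : u ∈ ws V Y, a = f' ∘ₗ (h.rp ⟨u, h.W_hat hY hu⟩ - 1)}
  have hU : ∀ a ∈ U, ∃ e ∈ ee V Z Y, ∀ w : ws V Z, a (h.fm w) = h.fn w e := by
    rintro _ ⟨f', hf', u, hu, rfl⟩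
    obtain ⟨k, hk, hke⟩ := h.kappa f' fun w hw => hf' _ (Submodule.mem_sup_left ((h.mem_M1 _).2 hw))
    have hkV : k ∈ centralizer (V : Set G) := by
      rw [mem_centralizer_iff]
      intro v hv
      have hvW := h.one.V_le_W' hv
      have h1 : h.fn v k = 0 := by
        rw [← hke ⟨v, hvW⟩]
        exact hf' _ (Submodule.mem_sup_right ((h.fm_mem_lam hvW).2 (mem_sup_left hv)))
      exact ((h.fn_eq_zero hvW hk.1).1 h1).symm
    have h1 := h.one.kx_ee hY h.one.self hk.1 hkV hu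
    have h2 := h.one.n_ee hY (inv_mem (h.one.W_le_cent hY hu)) h1
    have e1 : u⁻¹ * (k * u * k⁻¹ * u⁻¹) * u⁻¹⁻¹ = u⁻¹ * k * u * k⁻¹ := by group
    rw [e1] at h2
    refine ⟨_, h2, fun w => ?_⟩
    have huC := h.one.W_le_C hY hu
    have e2 : h.rp ⟨u, h.W_hat hY hu⟩ (h.fm w) = _ := h.rp_fm' (h.W_hat hY hu) w.2
    rw [LinearMap.comp_apply, LinearMap.sub_apply, Module.End.one_apply, map_sub, e2, hke, hke,
      h.fn_mul' w.2 (h.K_conj (centralizer_le_normalizer _ huC) hk.1) (inv_mem hk.1), h.fn_inv' w.2 hk.1, ← h.fn_conj huC w.2 hk.1,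
      CharTwo.sub_eq_add]
  have hW : ∀ a ∈ Submodule.span F U, ∀ c : F, ∃ e ∈ ee V Z Y, ∀ w : ws V Z, (c • a) (h.fm w) = h.fn w e := by
    intro a ha
    induction ha using Submodule.span_induction with
    | mem a ha =>
      intro c
      refine hU _ ?_
      obtain ⟨f', hf', u, hu, rfl⟩ := ha
      exact ⟨c • f', fun m hm => by rw [LinearMap.smul_apply, hf' m hm, smul_zero], u, hu, rfl⟩
    | zero =>
      intro c
      exact ⟨1, one_mem _, fun w => by rw [smul_zero, LinearMap.zero_apply, h.fn_one' w.2]⟩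
    | add a b _ _ ha hb =>
      intro c
      obtain ⟨e, he, hee⟩ := ha c
      obtain ⟨e', he', hee'⟩ := hb c
      refine ⟨e * e', mul_mem he he', fun w => ?_⟩
      rw [h.fn_mul' w.2 (h.ee_le_kx hne he) (h.ee_le_kx hne he'), smul_add, LinearMap.add_apply, hee, hee']
    | smul c' a _ ha =>
      intro c
      rw [smul_smul]
      exact ha _
  have hfW : f ∈ Submodule.span F U := by
    refine DualAbs.mem_of_coker _ f fun m hm => ?_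
    obtain ⟨w, rfl⟩ := h.fm_surj m
    refine hf w ((h.mem_n0_iff hY hne w).2 fun u hu => ?_)
    have h1 : h.rp ⟨u, h.W_hat hY hu⟩ (h.fm w) - h.fm w ∈ h.M1 ⊔ h.lam := by
      refine DualAbs.mem_of_ann _ _ fun f' hf' => ?_
      exact hm _ (Submodule.subset_span ⟨f', hf', u, hu, rfl⟩)
    obtain ⟨u', hu', he, e⟩ := h.rp_W hY hne hu w
    rw [e] at h1 ⊢
    obtain ⟨m', hm', l, hl, hml⟩ := Submodule.mem_sup.1 h1
    obtain ⟨v, hv, rfl⟩ := h.mem_lam.1 hl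
    have h2 : m' = h.fm (⟨u', h.one.I_le_W' hu'⟩ * v⁻¹) := by
      rw [h.fm_mul, h.fm_inv, ← hml, add_assoc]
      have h3 : h.fm v + h.fm v = 0 := by
        rw [← h.fm_mul]
        have e3 : v * v = 1 := Subtype.ext (h.one.sq_W h.one.self v.2)
        rw [e3, h.fm_one]
      rw [h3, add_zero]
    rw [h2, h.mem_M1] at hm'
    have h4 : u' * (v : G)⁻¹ ∈ Z :=
      h.m1_inf_I ⟨hm', (IV V Z).mul_mem hu' ((IV V Z).inv_mem (h.one.pl.V_le_IV hv))⟩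
    rw [h.fm_mem_lam_I hu']
    have e4 : u' = u' * (v : G)⁻¹ * v := by group
    rw [e4]
    exact mul_mem (h.one.pl.ZV h4) hv
  obtain ⟨e, he, hee⟩ := hW f hfW 1
  refine ⟨e, he, fun w => ?_⟩
  rw [← hee w, one_smul]

/-! ### case (N) -/

section

variable {Y : Subgroup G} (hY : Pnt V Z Y) (hne : Y ≠ Z)
  (hN : ∀ u ∈ ws V Y, (∀ w ∈ ws V Z, u * w * u⁻¹ * w⁻¹ ∈ V) → u ∈ kx V Z)
include hY hne hN

include h in
/-- case (N) : `n0 = ee` -/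
theorem n0_le_ee : n0 V Z Z ≤ ee V Z Z := by
  have h1 : n0 V Z Y ≤ ee V Z Y := by
    intro u hu
    rw [h.one.ee_eq hY h.one.self hne.symm]
    exact ⟨hu.1, hN u hu.1 fun w hw => hu.2.2 Z h.one.self w hw⟩
  obtain ⟨g, hg, -, -, hgY⟩ := h.one.pl.swap h.one.hf h.one.self.cj h.one.self.le hY.cj hY.le
  have hgN := h.one.pl.XV_le_N hg
  have e1 : n0 V Z Z = cj g (n0 V Z Y) := by rw [cj_n0 hgN, hgY]
  have e2 : ee V Z Z = cj g (ee V Z Y) := by rw [cj_ee hgN, hgY]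
  rw [e1, e2]
  exact cj_le_cj.2 h1

include h in
theorem n0_eq_ee : n0 V Z Z = ee V Z Z := le_antisymm (h.n0_le_ee hY hne hN) (h.one.ee_le_n0 h.one.self)

/-- case (N) : `E_Z` is closed under scalars -/
theorem ee_smul {w w' : ws V Z} {c : F} (hw : (w : G) ∈ ee V Z Z) (he : h.fm w' = c • h.fm w) : (w' : G) ∈ ee V Z Z := by
  rw [← h.n0_eq_ee hY hne hN] at hw ⊢
  exact h.n0_smul hw he

/-- **EXACT DUALITY, case (N)** : `E_Y → Hom_F(MF / Ē_Z, F)` is onto -/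
theorem dual_N [Finite F] (f : h.MF →ₗ[F] F) (hf : ∀ w (hw : w ∈ ee V Z Z), f (h.fm ⟨w, ee_le hw⟩) = 0) :
    ∃ e ∈ ee V Z Y, ∀ w : ws V Z, f (h.fm w) = h.fn w e :=
  h.dual_E hY hne f fun w hw => hf w (h.n0_le_ee hY hne hN hw)

/-- case (N) : `C_MF(A) = D_Z` -/
theorem cent_N (w : ws V Z) :
    (w : G) ∈ dd V Z Z ↔ ∀ u (hu : u ∈ ws V Y), h.rp ⟨u, h.W_hat hY hu⟩ (h.fm w) = h.fm w := by
  constructor
  · intro h1 u hu
    have e : h.rp ⟨u, h.W_hat hY hu⟩ (h.fm w) = _ := h.rp_fm' (h.W_hat hY hu) w.2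
    rw [e]
    congr 1
    apply Subtype.ext
    show u * w * u⁻¹ = w
    rw [← h.one.dd_comm hY hne h1 hu, mul_inv_cancel_right]
  · intro h1
    have h2 : (w : G) ∈ ee V Z Z := by
      rw [← h.n0_eq_ee hY hne hN, h.mem_n0_iff hY hne]
      intro u hu
      rw [h1 u hu, sub_self]
      exact zero_mem _
    refine h.one.mem_dd_of h.one.self hY hne w.2 fun u hu => ?_
    obtain ⟨u', hu', he, e⟩ := h.rp_W hY hne hu w
    rw [h1 u hu, sub_self] at e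
    have h3 : u' ∈ Z := h.rd_inf_I ⟨(h.fm_eq_zero _).1 e.symm, hu'⟩
    have h4 := h.one.ee_act' hY hne h2 hu
    rw [he] at h3
    have h5 : u * w * u⁻¹ * (w : G)⁻¹ ∈ Z ⊓ Y := ⟨h3, h4⟩
    rw [h.one.pl.pts_inf h.one.self.cj hY.cj hne.symm, mem_bot, mul_inv_eq_one, mul_inv_eq_iff_eq_mul] at h5
    exact h5.symm

include h in
/-- case (N) : `rd ≤ D_Z` -/
theorem rd_le_dd_N : rd V Z ≤ dd V Z Z := by
  intro w hw
  have hwW := rd_le hw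
  refine (h.cent_N hY hne hN ⟨w, hwW⟩).2 fun u hu => ?_
  rw [(h.fm_eq_zero ⟨w, hwW⟩).2 hw, map_zero]

end

end Co

end Cfsg.Agent.Omega.NO3S.OneQ

end

section


/-!
# NO-3S, `OneQ`, case (TR), the end (bb OMEGA #20607 (3.5), #20975 (III), #21079): the commutator formula

`Dat h` : `E = D`, `W_Z / D_Z` is one-dimensional (`φ`), torus weight `1 + θ`, `θ² = Frobenius`,
`[w, w'^n] = e(κ φ(w') θ(φ w), κ φ(w) θ(φ w'))`.

* `Dat.lab` : `Lab (a, b) w` : `w = g w₀ g⁻¹`, `g ∈ X_l`, `g (1, 0) = (a, b)`, `φ w₀ = 1`;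
* `Lab.com` : `[w, w'] = e(κ δ θ(δ) (a + a'), κ δ θ(δ) (b + b'))`, `δ = a b' + b a'`;
* `Dat.exists_n` : some `n ∈ C_G(W_Z)` has `n² ∈ V - Z`;
* `Dat.exists_b` : some `b ∈ C_G(W_Y)` has `b² ∈ W_Y - E_Y`.
-/

set_option autoImplicit false
set_option linter.unusedSectionVars false

namespace Cfsg.Agent.Omega.NO3S.OneQ.TrE

open Subgroup Cfsg.Agent.Omega.NO3S.PT Cfsg.Agent.Omega.NoFF.Basic
open scoped Pointwise

universe u

variable {G : Type u} [Group G]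

/-- the data of the end of (TR) -/
structure Dat [Finite G] {F : Type*} [Field F] [CharP F 2] {S : Sylow 2 G} {B P V Z : Subgroup G}
    (h : Co F S B P V Z) where
  θ : F →+* F
  κ : F
  φ : G → F
  θθ : ∀ a, θ (θ a) = a * a
  κ0 : κ ≠ 0
  mul : ∀ {w w'}, w ∈ ws V Z → w' ∈ ws V Z → φ (w * w') = φ w + φ w'
  zero : ∀ {w}, w ∈ ws V Z → (φ w = 0 ↔ w ∈ dd V Z Z)
  surj : ∀ a, ∃ w ∈ ws V Z, φ w = a
  lin : ∀ {w w' c}, w ∈ ws V Z → w' ∈ ws V Z → (∀ k ∈ kx V Z, h.fn w' k = c * h.fn w k) → φ w' = c * φ w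
  tor : ∀ {τ w ζ}, h.Tor τ ζ → ζ ≠ 0 → w ∈ ws V Z → φ (τ * w * τ⁻¹) = ζ * θ ζ * φ w
  ee_dd : ee V Z Z = dd V Z Z
  com : ∀ {w w'}, w ∈ ws V Z → w' ∈ ws V Z →
    w * (h.sw * w' * h.sw⁻¹) * w⁻¹ * (h.sw * w' * h.sw⁻¹)⁻¹ =
      h.e (κ * φ w' * θ (φ w)) (κ * φ w * θ (φ w'))

namespace Dat

variable [Finite G] {F : Type*} [Field F] [CharP F 2] {S : Sylow 2 G} {B P V Z : Subgroup G}
  {h : Co F S B P V Z} (D : Dat h)
include D

theorem φ_dd {w d : G} (hw : w ∈ ws V Z) (hd : d ∈ dd V Z Z) : D.φ (d * w) = D.φ w := by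
  rw [D.mul (dd_le hd) hw, (D.zero (dd_le hd)).2 hd, zero_add]

theorem φ_K {k w : G} (hk : k ∈ kx V Z) (hw : w ∈ ws V Z) : D.φ (k * w * k⁻¹) = D.φ w := by
  have h1 := h.one.X_le_dd h.one.self ((mem_kx.1 hk).2 w hw)
  have e : k * w * k⁻¹ = k * w * k⁻¹ * w⁻¹ * w := by group
  rw [e, D.φ_dd hw h1]

theorem φ_yl {k w : G} (hk : k ∈ yl V Z) (hw : w ∈ ws V Z) : D.φ (k * w * k⁻¹) = D.φ w := by
  have h1 := h.one.yl_ee h.one.self hk hw
  rw [D.ee_dd] at h1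
  have e : k * w * k⁻¹ = k * w * k⁻¹ * w⁻¹ * w := by group
  rw [e, D.φ_dd hw h1]

/-- an element of `X_l` which fixes `(1, 0)` acts trivially on `W_Z / D_Z` -/
theorem φ_stab {g w : G} (hg : g ∈ XV V Z) (hg1 : g * h.e 1 0 * g⁻¹ = h.e 1 0) (hw : w ∈ ws V Z) :
    g * w * g⁻¹ ∈ ws V Z ∧ D.φ (g * w * g⁻¹) = D.φ w := by
  obtain ⟨a, b, c, d, hdet, hact⟩ := h.XV_mat hg
  have h1 := hact 1 0
  rw [hg1] at h1
  obtain ⟨ha, hc⟩ := h.e_inj h1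
  rw [mul_one, mul_zero, add_zero] at ha hc
  have hd : d = 1 := by
    rw [← ha, ← hc, one_mul, mul_zero, add_zero] at hdet
    exact hdet
  have hact' : ∀ x y, g * h.e x y * g⁻¹ = h.e (x + b * y) y := by
    intro x y
    rw [hact, ← ha, ← hc, hd]
    congr 1 <;> ring
  have hk := h.kp_mem b
  have hy : (h.kp b)⁻¹ * g ∈ yl V Z := by
    rw [← h.XV_cent]
    refine ⟨(XV V Z).mul_mem ((XV V Z).inv_mem (h.kp_XV b)) hg, h.mem_cent fun x y => ?_⟩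
    have e : (h.kp b)⁻¹ * g * h.e x y * ((h.kp b)⁻¹ * g)⁻¹ = (h.kp b)⁻¹ * (g * h.e x y * g⁻¹) * h.kp b := by group
    rw [e, hact', ← h.kp_act b x y]
    group
  set y := (h.kp b)⁻¹ * g with hydef
  have hgy : g = h.kp b * y := by rw [hydef]; group
  have hyW : y * w * y⁻¹ ∈ ws V Z :=
    (mem_normalizer_iff.1 (h.one.cent_norm_W h.one.self (yl_le_cent V Z hy)) _).1 hw
  have e : g * w * g⁻¹ = h.kp b * (y * w * y⁻¹) * (h.kp b)⁻¹ := by rw [hgy]; group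
  rw [e]
  refine ⟨?_, ?_⟩
  · exact h.W_conj (centralizer_le_normalizer _ (kx_le_cent hk)) hyW
  · rw [D.φ_K hk hyW, D.φ_yl hy hw]

/-- `[w, k w' k⁻¹]` for `k ∈ X_l`, `k (1, 0) = (r, δ)` -/
theorem com_k {k w w' : G} {r δ : F} (hk : k ∈ XV V Z) (hk1 : k * h.e 1 0 * k⁻¹ = h.e r δ) (hw : w ∈ ws V Z)
    (hw' : w' ∈ ws V Z) (h1 : D.φ w = 1) (h1' : D.φ w' = 1) :
    w * (k * w' * k⁻¹) * w⁻¹ * (k * w' * k⁻¹)⁻¹ =
      h.e (D.κ * (δ * D.θ δ) * (1 + r)) (D.κ * (δ * D.θ δ) * δ) := by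
  by_cases hδ : δ = 0
  · -- `k` fixes `Z`
    subst hδ
    obtain ⟨a, b, c, d, hdet, hact⟩ := h.XV_mat hk
    have h2 := hact 1 0
    rw [hk1] at h2
    obtain ⟨ha, hc⟩ := h.e_inj h2
    rw [mul_one, mul_zero, add_zero] at ha hc
    have hr : r ≠ 0 := by
      rintro rfl
      rw [← ha, ← hc, zero_mul, mul_zero, add_zero] at hdet
      exact zero_ne_one hdet
    have hkZ : PT.cj k Z = Z := by
      refine h.cj_Z_of (f := fun x => r * x) (fun x => ⟨r⁻¹ * x, mul_inv_cancel_left₀ hr x⟩) fun x => ?_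
      rw [hact, ← ha, ← hc]
      congr 1 <;> ring
    have h3 : k * w' * k⁻¹ ∈ ws V Z := by
      have := conj_mem_cj (g := k) hw'
      rwa [← ws_cj, hkZ] at this
    rw [h.one.comm_W h.one.self.cj hw h3, mul_inv_cancel_right, mul_inv_cancel, zero_mul, mul_zero, zero_mul, mul_zero,
      h.e_zero]
  · obtain ⟨τ, hτ⟩ := h.exists_tor hδ
    set s := r * δ⁻¹ with hs
    have hsδ : s * δ = r := by rw [hs, mul_assoc, inv_mul_cancel₀ hδ, mul_one]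
    have hkp := h.kp_mem s
    have hkpX := h.kp_XV s
    -- `m`
    have hmX : τ⁻¹ * h.sw⁻¹ * (h.kp s)⁻¹ * k ∈ XV V Z :=
      mul_mem (mul_mem (mul_mem (inv_mem hτ.mem) (inv_mem h.sw_XV)) (inv_mem hkpX)) hk
    have hm1 : τ⁻¹ * h.sw⁻¹ * (h.kp s)⁻¹ * k * h.e 1 0 * (τ⁻¹ * h.sw⁻¹ * (h.kp s)⁻¹ * k)⁻¹ = h.e 1 0 := by
      have e : τ⁻¹ * h.sw⁻¹ * (h.kp s)⁻¹ * k * h.e 1 0 * (τ⁻¹ * h.sw⁻¹ * (h.kp s)⁻¹ * k)⁻¹ =
          τ⁻¹ * (h.sw⁻¹ * ((h.kp s)⁻¹ * (k * h.e 1 0 * k⁻¹) * h.kp s) * h.sw) * τ := by group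
      have e1 : (h.kp s)⁻¹ * h.e r δ * h.kp s = h.e 0 δ := by
        have h2 := h.kp_act s 0 δ
        rw [zero_add, hsδ] at h2
        rw [← h2]; group
      have e2 : τ⁻¹ * h.e δ 0 * τ = h.e 1 0 := by
        have h2 := hτ.act 1 0
        rw [mul_one, mul_zero] at h2
        rw [← h2]; group
      rw [e, hk1, e1, h.sw_act', e2]
    obtain ⟨hmW, hmφ⟩ := D.φ_stab hmX hm1 hw'
    set m := τ⁻¹ * h.sw⁻¹ * (h.kp s)⁻¹ * k with hm
    set w₂ := τ * (m * w' * m⁻¹) * τ⁻¹ with hw₂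
    have hw₂W : w₂ ∈ ws V Z := h.W_conj (hτ.norm_Z hδ) hmW
    have hw₂φ : D.φ w₂ = δ * D.θ δ := by rw [hw₂, D.tor hτ hδ hmW, hmφ, h1', mul_one]
    have hkw : k * w' * k⁻¹ = h.kp s * (h.sw * w₂ * h.sw⁻¹) * (h.kp s)⁻¹ := by rw [hw₂, hm]; group
    have hkinv := inv_mem hkp
    have hwk : (h.kp s)⁻¹ * w * h.kp s ∈ ws V Z := by
      have := h.W_conj (centralizer_le_normalizer _ (kx_le_cent hkinv)) hw
      rwa [inv_inv] at this
    have hwkφ : D.φ ((h.kp s)⁻¹ * w * h.kp s) = 1 := by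
      have := D.φ_K hkinv hw
      rw [inv_inv] at this
      rw [this, h1]
    have h5 := D.com hwk hw₂W
    rw [hwkφ, hw₂φ, map_one, map_mul, D.θθ] at h5
    have e : w * (k * w' * k⁻¹) * w⁻¹ * (k * w' * k⁻¹)⁻¹ =
        h.kp s * ((h.kp s)⁻¹ * w * h.kp s * (h.sw * w₂ * h.sw⁻¹) * ((h.kp s)⁻¹ * w * h.kp s)⁻¹ *
          (h.sw * w₂ * h.sw⁻¹)⁻¹) * (h.kp s)⁻¹ := by rw [hkw]; group
    rw [e, h5, h.kp_act]
    congr 1
    · rw [← hsδ]
      ring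
    · ring

/-- `w = g w₀ g⁻¹` with `g (1, 0) = (a, b)` -/
def Lab (a b : F) (w : G) : Prop :=
  ∃ g ∈ XV V Z, ∃ w₀ ∈ ws V Z, D.φ w₀ = 1 ∧ g * h.e 1 0 * g⁻¹ = h.e a b ∧ w = g * w₀ * g⁻¹

end Dat

variable [Finite G] {F : Type*} [Field F] [CharP F 2] {S : Sylow 2 G} {B P V Z : Subgroup G}
  {h : Co F S B P V Z} {D : Dat h}

/-- **the commutator formula** -/
theorem Dat.Lab.com {a b a' b' : F} {w w' : G} (hw : D.Lab a b w) (hw' : D.Lab a' b' w') :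
    w * w' * w⁻¹ * w'⁻¹ = h.e (D.κ * ((a * b' + b * a') * D.θ (a * b' + b * a')) * (a + a'))
      (D.κ * ((a * b' + b * a') * D.θ (a * b' + b * a')) * (b + b')) := by
  obtain ⟨g, hg, w₀, hw₀, hφ, hg1, rfl⟩ := hw
  obtain ⟨g', hg', w₀', hw₀', hφ', hg1', rfl⟩ := hw'
  obtain ⟨x, p, y, q, hdet, hact⟩ := h.XV_mat hg
  have h1 := hact 1 0
  rw [hg1] at h1
  obtain ⟨ha, hb⟩ := h.e_inj h1
  rw [mul_one, mul_zero, add_zero] at ha hb
  subst ha hb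
  have hinv : ∀ u v, g⁻¹ * h.e u v * g = h.e (q * u + p * v) (b * u + a * v) := by
    intro u v
    have h2 := hact (q * u + p * v) (b * u + a * v)
    have e1 : a * (q * u + p * v) + p * (b * u + a * v) = u := by
      have : a * (q * u + p * v) + p * (b * u + a * v) = (a * q + p * b) * u + (a * p * v + a * p * v) := by ring
      rw [this, hdet, CharTwo.add_self_eq_zero, one_mul, add_zero]
    have e2 : b * (q * u + p * v) + q * (b * u + a * v) = v := by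
      have : b * (q * u + p * v) + q * (b * u + a * v) = (a * q + p * b) * v + (b * q * u + b * q * u) := by ring
      rw [this, hdet, CharTwo.add_self_eq_zero, one_mul, add_zero]
    rw [e1, e2] at h2
    rw [← h2]; group
  have hk : g⁻¹ * g' ∈ XV V Z := mul_mem (inv_mem hg) hg'
  have hk1 : g⁻¹ * g' * h.e 1 0 * (g⁻¹ * g')⁻¹ = h.e (q * a' + p * b') (b * a' + a * b') := by
    have e : g⁻¹ * g' * h.e 1 0 * (g⁻¹ * g')⁻¹ = g⁻¹ * (g' * h.e 1 0 * g'⁻¹) * g := by group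
    rw [e, hg1', hinv]
  have h5 := D.com_k hk hk1 hw₀ hw₀' hφ hφ'
  have e : g * w₀ * g⁻¹ * (g' * w₀' * g'⁻¹) * (g * w₀ * g⁻¹)⁻¹ * (g' * w₀' * g'⁻¹)⁻¹ =
      g * (w₀ * (g⁻¹ * g' * w₀' * (g⁻¹ * g')⁻¹) * w₀⁻¹ * (g⁻¹ * g' * w₀' * (g⁻¹ * g')⁻¹)⁻¹) * g⁻¹ := by group
  rw [e, h5, hact]
  set δ := b * a' + a * b' with hδ
  have hδ' : a * b' + b * a' = δ := by rw [hδ, add_comm]
  rw [hδ']
  congr 1
  · have h6 : a * (q * a' + p * b') + p * δ = a' := by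
      have : a * (q * a' + p * b') + p * δ = (a * q + p * b) * a' + (a * p * b' + a * p * b') := by rw [hδ]; ring
      rw [this, hdet, CharTwo.add_self_eq_zero, one_mul, add_zero]
    have h7 : a * (D.κ * (δ * D.θ δ) * (1 + (q * a' + p * b'))) + p * (D.κ * (δ * D.θ δ) * δ) =
        D.κ * (δ * D.θ δ) * (a + (a * (q * a' + p * b') + p * δ)) := by ring
    rw [h7, h6]
  · have h6 : b * (q * a' + p * b') + q * δ = b' := by
      have : b * (q * a' + p * b') + q * δ = (a * q + p * b) * b' + (b * q * a' + b * q * a') := by rw [hδ]; ring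
      rw [this, hdet, CharTwo.add_self_eq_zero, one_mul, add_zero]
    have h7 : b * (D.κ * (δ * D.θ δ) * (1 + (q * a' + p * b'))) + q * (D.κ * (δ * D.θ δ) * δ) =
        D.κ * (δ * D.θ δ) * (b + (b * (q * a' + p * b') + q * δ)) := by ring
    rw [h7, h6]

end Cfsg.Agent.Omega.NO3S.OneQ.TrE

end
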