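import Cfsg.Agent.Mrg.Omega.NO3S.OneQ.InstB
import Cfsg.Agent.Mrg.Omega.NO3S.OneQ.TIq.CoEnd


/-!
# NO-3S, `OneQ`, case (N), `D_x = I`, TI: `W_Z / Z` is natural for `Sz(q)`

* **`Co.szMod`** `(hG) (hN : NTr V Z) (hD : dd V Z Z ≤ IV V Z) (hTI : TIw V Z) (hF : 4 ≤ |F|)`.
-/

set_option autoImplicit false
set_option linter.unusedSectionVars false

namespace Cfsg.Agent.Omega.NO3S.OneQ

open Subgroup Cfsg Cfsg.Agent.Omega.NO3S.PT Cfsg.Agent.Omega.NoFF.Basic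
open Cfsg.Agent.WeakTI.FlatBorel (CritAll BenderAll)
open scoped Pointwise

universe u

variable {G : Type u} [Group G]

namespace Co

variable [Finite G] {F : Type} [Field F] [CharP F 2] {S : Sylow 2 G} {B P V Z : Subgroup G} (h : Co F S B P V Z)

theorem v0_LL : h.v0 ∈ h.LL := ⟨1, 1, one_ne_zero, by rw [one_smul, one_smul]⟩

theorem At_v0 (hrd : rd V Z = Z) : h.At h.v0 = h.Ar h.hm.rangeRestrict := by
  ext x
  rw [h.mem_At hrd (x := 1) (c := 1) one_ne_zero (by rw [one_smul, one_smul]), inv_one, one_mul, mul_one, h.mem_AI,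
    h.mem_Ar]
  constructor
  · rintro ⟨a, ha, rfl⟩
    exact ⟨⟨a, h.one.W_le_C h.pY ha⟩, ha, (h.ph_eq _).symm⟩
  · rintro ⟨⟨a, haC⟩, ha, rfl⟩
    exact ⟨a, ha, h.ph_eq haC⟩

include h in
/-- **case (N), `D_x = I`, TI** -/
theorem szMod (hcrit : CritAll.{u}) (hbend : BenderAll.{u}) (hG : IsCharacteristicTwoType G) (hN : NTr V Z)
    (hD : dd V Z Z ≤ IV V Z) (hTI : TIw V Z) (hF : 4 ≤ Nat.card F) :
    ∃ (θ : F →+* F) (e m : ℕ) (T : Cfsg.Agent.LieRecognition.SzMatrix.Good F θ e), 1 ≤ m ∧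
      Nat.card F = 2 ^ (2 * m + 1) ∧
      Nonempty (Cfsg.Agent.Omega.TwoFFour.SzMod T (normalizer (Z : Set G)) (ws V Z) Z) := by
  have := h.finF
  have := h.finMF
  exact h.szMod_of_genK h.hm.rangeRestrict hcrit hbend (fun g m => rfl) h.hm.rangeRestrict_surjective (h.rd_eq hN hD)
    (h.genK hN hD hG hTI) h.v0_LL (h.At_v0 (h.rd_eq hN hD)) hF

end Co

end Cfsg.Agent.Omega.NO3S.OneQ
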