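import Cfsg.Agent.Mrg.Omega.NO3S.OneQ.POne
import Cfsg.Agent.Mrg.Omega.NO3S.OneQ.TIq.Base
import Cfsg.Agent.Mrg.Omega.NO3S.OneQ.Fix

section


/-!
# NO-3S, `OneQ`, case (N), `D_x = I`: the instance of `TIq.Gen`, part 1

* `Co.HI` : the group induced by `C_G(Z)` on `MF`; `Co.ph : G → HI` (used on `C_G(Z)`); `ph_mul`, `ph_smul`, `ph_fm`;
* `Co.ah m : HI` : the element with operator `al m`; `Co.AI`, `Co.KI` : the images of `W_Y`, `Y_l`.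
-/

set_option autoImplicit false
set_option linter.unusedSectionVars false

namespace Cfsg.Agent.Omega.NO3S.OneQ

open Subgroup Cfsg.Agent.Omega.NO3S.PT Cfsg.Agent.Omega.NoFF.Basic
open scoped Pointwise

universe u

variable {G : Type u} [Group G]

namespace Co

variable [Finite G] {F : Type*} [Field F] [CharP F 2] {S : Sylow 2 G} {B P V Z : Subgroup G} (h : Co F S B P V Z)

/-- the representation of `C_G(Z)` in the units -/
noncomputable def hm : centralizer (Z : Set G) →* (Module.End F h.MF)ˣ := MonoidHom.toHomUnits h.rep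

/-- the group induced by `C_G(Z)` on `MF` -/
abbrev HI : Type _ := h.hm.range

theorem finMF : Finite h.MF := by
  have : Finite F := h.finF
  infer_instance

instance finHH : Finite h.HI := by
  have : Finite h.MF := h.finMF
  have h1 : Finite (Module.End F h.MF) := Finite.of_injective (fun f : Module.End F h.MF => (f : h.MF → h.MF)) DFunLike.coe_injective
  infer_instance

open Classical in
/-- the image of `g ∈ C_G(Z)` -/
noncomputable def ph (g : G) : h.HI := if hg : g ∈ centralizer (Z : Set G) then h.hm.rangeRestrict ⟨g, hg⟩ else 1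

theorem ph_eq {g : G} (hg : g ∈ centralizer (Z : Set G)) : h.ph g = h.hm.rangeRestrict ⟨g, hg⟩ := dif_pos hg

theorem ph_mul {a b : G} (ha : a ∈ centralizer (Z : Set G)) (hb : b ∈ centralizer (Z : Set G)) :
    h.ph (a * b) = h.ph a * h.ph b := by
  rw [h.ph_eq ha, h.ph_eq hb, h.ph_eq (mul_mem ha hb), ← map_mul]
  rfl

theorem ph_one : h.ph 1 = 1 := by
  rw [h.ph_eq (one_mem _)]
  exact map_one h.hm.rangeRestrict

theorem ph_inv {a : G} (ha : a ∈ centralizer (Z : Set G)) : h.ph a⁻¹ = (h.ph a)⁻¹ := by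
  rw [eq_inv_iff_mul_eq_one, ← h.ph_mul (inv_mem ha) ha, inv_mul_cancel, h.ph_one]

theorem ph_surj (x : h.HI) : ∃ c ∈ centralizer (Z : Set G), h.ph c = x := by
  obtain ⟨c, hc⟩ := h.hm.rangeRestrict_surjective x
  exact ⟨c, c.2, by rw [h.ph_eq c.2]; exact hc⟩

theorem hh_smul (x : h.HI) (m : h.MF) : x • m = ((x : (Module.End F h.MF)ˣ) : Module.End F h.MF) m := rfl

theorem hh_lin (x : h.HI) (c : F) (m : h.MF) : x • (c • m) = c • (x • m) := by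
  rw [h.hh_smul, h.hh_smul]
  exact map_smul _ c m

theorem faith {x y : h.HI} (hxy : ∀ m : h.MF, x • m = y • m) : x = y := by
  apply Subtype.ext
  apply Units.ext
  exact LinearMap.ext hxy

theorem ph_smul {c : G} (hc : c ∈ centralizer (Z : Set G)) (m : h.MF) : h.ph c • m = h.rp ⟨c, h.C_le_hat hc⟩ m := by
  obtain ⟨w, rfl⟩ := h.fm_surj m
  rw [h.ph_eq hc]
  have e : h.hm.rangeRestrict ⟨c, hc⟩ • h.fm w = h.rep ⟨c, hc⟩ (h.fm w) := rfl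
  rw [e, h.rep_fm, h.rp_fm]

include h in
theorem C_W {c w : G} (hc : c ∈ centralizer (Z : Set G)) (hw : w ∈ ws V Z) : c * w * c⁻¹ ∈ ws V Z :=
  h.W_conj (centralizer_le_normalizer _ hc) hw

theorem ph_fm {c : G} (hc : c ∈ centralizer (Z : Set G)) {w : G} (hw : w ∈ ws V Z) :
    h.ph c • h.fm ⟨w, hw⟩ = h.fm ⟨c * w * c⁻¹, h.C_W hc hw⟩ := by
  rw [h.ph_smul hc]
  exact h.rp_fm' (h.C_le_hat hc) hw

theorem ph_K {k : G} (hk : k ∈ kx V Z) : h.ph k = 1 := by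
  refine h.faith fun m => ?_
  rw [h.ph_smul (kx_le_cent hk), one_smul]
  exact h.rp_K hk m

theorem ph_eq_one (hrd : rd V Z = Z) {c : G} (hc : c ∈ centralizer (Z : Set G)) : h.ph c = 1 ↔ c ∈ kx V Z := by
  refine ⟨fun h1 => mem_kx.2 ⟨fun z hz => (mem_centralizer_iff.1 hc z hz).symm, fun w hw => ?_⟩, h.ph_K⟩
  have h2 := h.ph_fm hc hw
  rw [h1, one_smul, eq_comm, h.fm_eq, hrd] at h2
  exact h2

/-! ### `A`, `K~` at `V` -/

/-- the image of a subgroup of `C_G(Z)` -/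
noncomputable def im (K : Subgroup G) (hK : K ≤ centralizer (Z : Set G)) : Subgroup h.HI where
  carrier := {x | ∃ k ∈ K, h.ph k = x}
  one_mem' := ⟨1, one_mem _, h.ph_one⟩
  mul_mem' := by
    rintro _ _ ⟨a, ha, rfl⟩ ⟨b, hb, rfl⟩
    exact ⟨a * b, mul_mem ha hb, h.ph_mul (hK ha) (hK hb)⟩
  inv_mem' := by
    rintro _ ⟨a, ha, rfl⟩
    exact ⟨a⁻¹, inv_mem ha, h.ph_inv (hK ha)⟩

theorem mem_im {K : Subgroup G} {hK : K ≤ centralizer (Z : Set G)} {x : h.HI} : x ∈ h.im K hK ↔ ∃ k ∈ K, h.ph k = x := Iff.rfl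

/-- `A` -/
noncomputable def AI : Subgroup h.HI := h.im (ws V h.Yp) (h.one.W_le_C h.pY)

theorem mem_AI {x : h.HI} : x ∈ h.AI ↔ ∃ a ∈ ws V h.Yp, h.ph a = x := Iff.rfl

/-- `K~` -/
noncomputable def KI : Subgroup h.HI := h.im (yl V Z) h.yl_C

theorem mem_KI {x : h.HI} : x ∈ h.KI ↔ ∃ a ∈ yl V Z, h.ph a = x := Iff.rfl

/-- the element of `H` with operator `al m` -/
noncomputable def ah (m : h.MF) : h.HI := h.ph (h.sw * (h.fm_surj m).choose * h.sw⁻¹)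

theorem ah_smul (m x : h.MF) : h.ah m • x = h.al m x :=
  h.ph_smul (h.one.W_le_C h.pY (h.sw_W (h.fm_surj m).choose.2)) x

theorem ah_eq {m n : h.MF} : h.ah m = h.ah n ↔ h.al m = h.al n := by
  constructor
  · intro e
    refine LinearMap.ext fun x => ?_
    rw [← h.ah_smul, e, h.ah_smul]
  · intro e
    refine h.faith fun x => ?_
    rw [h.ah_smul, e, h.ah_smul]

theorem ah_eq_one (hN : NTr V Z) {m : h.MF} : h.ah m = 1 ↔ m ∈ h.Eb := by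
  rw [← h.al_eq_one hN]
  constructor
  · intro e
    refine LinearMap.ext fun x => ?_
    rw [← h.ah_smul, e, one_smul]; rfl
  · intro e
    refine h.faith fun x => ?_
    rw [h.ah_smul, e, one_smul]; rfl

theorem ah_add (hN : NTr V Z) (m n : h.MF) : h.ah (m + n) = h.ah m * h.ah n := by
  refine h.faith fun x => ?_
  rw [mul_smul, h.ah_smul, h.ah_smul, h.ah_smul, h.al_add hN]
  rfl

theorem ah_mem (m : h.MF) : h.ah m ∈ h.AI := ⟨_, h.sw_W (h.fm_surj m).choose.2, rfl⟩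

theorem ah_surj (hN : NTr V Z) {x : h.HI} (hx : x ∈ h.AI) : ∃ m, h.ah m = x := by
  obtain ⟨a, ha, rfl⟩ := hx
  obtain ⟨m, hm⟩ := h.al_surj hN ha
  refine ⟨m, h.faith fun x => ?_⟩
  rw [h.ah_smul, hm, h.ph_smul (h.one.W_le_C h.pY ha)]

theorem ah_fm (hN : NTr V Z) (w : ws V Z) : h.ah (h.fm w) = h.ph (h.sw * w * h.sw⁻¹) := by
  refine h.faith fun x => ?_
  rw [h.ah_smul, h.al_fm hN, h.ph_smul (h.one.W_le_C h.pY (h.sw_W w.2))]
  rfl

theorem AI_sq {x : h.HI} (hx : x ∈ h.AI) : x * x = 1 := by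
  obtain ⟨a, ha, rfl⟩ := hx
  rw [← h.ph_mul (h.one.W_le_C h.pY ha) (h.one.W_le_C h.pY ha), h.one.sq_W h.pY ha, h.ph_one]

theorem exists_AI (hrd : rd V Z = Z) : ∃ x ∈ h.AI, x ≠ 1 := by
  by_contra hcon
  push Not at hcon
  apply h.one.ee_ne h.pY
  refine le_antisymm ee_le fun a ha => ?_
  rw [h.one.ee_eq h.pY h.one.self h.Yp_ne.symm]
  exact ⟨ha, (h.ph_eq_one hrd (h.one.W_le_C h.pY ha)).1 (hcon _ ⟨a, ha, rfl⟩)⟩

theorem AI_sub_Ib {x : h.HI} (hx : x ∈ h.AI) (m : h.MF) : x • m - m ∈ h.Ib := by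
  obtain ⟨a, ha, rfl⟩ := hx
  rw [h.ph_smul (h.one.W_le_C h.pY ha)]
  exact h.Rb_le_Ib h.pY h.Yp_ne (h.mem_Rb h.pY ha m)

theorem AI_fix {x : h.HI} (hx : x ∈ h.AI) {m : h.MF} (hm : m ∈ h.Ib) : x • m = m := by
  obtain ⟨a, ha, rfl⟩ := hx
  rw [h.ph_smul (h.one.W_le_C h.pY ha)]
  obtain ⟨u, hu, rfl⟩ := hm
  exact h.rp_W_I h.pY ha hu

/-- `C_M(A) = Ī` if `D_Z = I` -/
theorem fix_AI (hN : NTr V Z) (hD : dd V Z Z ≤ IV V Z) {m : h.MF} (hm : ∀ x ∈ h.AI, x • m = m) : m ∈ h.Ib := by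
  have hrd := h.rd_eq hN hD
  obtain ⟨w, rfl⟩ := h.fm_surj m
  have h1 : ∀ u ∈ ws V h.Yp, u * w * u⁻¹ * (w : G)⁻¹ ∈ Z := by
    intro u hu
    have h2 := hm _ ⟨u, hu, rfl⟩
    have huC := h.one.W_le_C h.pY hu
    have h3 : h.ph u • h.fm ⟨w, w.2⟩ = _ := h.ph_fm huC w.2
    rw [show (⟨(w : G), w.2⟩ : ws V Z) = w from rfl, h2, eq_comm] at h3
    have h4 := (h.fm_eq (h.C_W huC w.2) w.2).1 h3
    rwa [hrd] at h4
  have h2 : (w : G) ∈ ee V Z Z := by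
    refine hN.mem_ee h.one h.pY h.Yp_ne w.2 fun u hu => h.one.pl.ZV ?_
    have := inv_mem (h1 u hu)
    have e : (u * w * u⁻¹ * (w : G)⁻¹)⁻¹ = w * u * (w : G)⁻¹ * u⁻¹ := by group
    rwa [e] at this
  have h3 : (w : G) ∈ dd V Z Z := by
    refine h.one.mem_dd_of h.one.self h.pY h.Yp_ne w.2 fun u hu => ?_
    have h4 : u * w * u⁻¹ * (w : G)⁻¹ ∈ Z ⊓ h.Yp := ⟨h1 u hu, h.one.ee_act' h.pY h.Yp_ne h2 hu⟩
    rw [h.one.pl.pts_inf h.one.self.cj h.pY.cj h.Yp_ne.symm, mem_bot, mul_inv_eq_one, mul_inv_eq_iff_eq_mul] at h4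
    exact h4.symm
  exact ⟨w, hD h3, rfl⟩

/-- `Ī` as a submodule -/
noncomputable def IS (hN : NTr V Z) (hD : dd V Z Z ≤ IV V Z) : Submodule F h.MF where
  carrier := {m | m ∈ h.Ib}
  zero_mem' := h.Ib.zero_mem
  add_mem' := fun ha hb => h.Ib.add_mem ha hb
  smul_mem' := by
    intro c m hm
    refine h.fix_AI hN hD fun x hx => ?_
    rw [h.hh_lin, h.AI_fix hx hm]

theorem mem_IS {hN : NTr V Z} {hD : dd V Z Z ≤ IV V Z} {m : h.MF} : m ∈ h.IS hN hD ↔ m ∈ h.Ib := Iff.rfl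

/-! ### the stabiliser of `λ` -/

/-- an element of `C_G(Z)` which fixes the point `λ` normalises `V` -/
theorem norm_of_lam (hrd : rd V Z = Z) {c : G} (hc : c ∈ centralizer (Z : Set G)) (hcl : h.ph c • h.v0 ∈ h.lam) :
    c ∈ normalizer (V : Set G) := by
  have h1 : ∀ v ∈ V, c * v * c⁻¹ ∈ V := by
    intro v hv
    obtain ⟨x, y, rfl⟩ := (h.mem_V _).1 hv
    have h2 : h.ph c • h.fm ⟨h.e x y, h.W_V x y⟩ ∈ h.lam := by
      rw [h.fm_e, h.hh_lin]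
      exact h.lam.smul_mem y hcl
    rw [h.ph_fm hc, h.fm_mem_lam, hrd, sup_eq_left.2 h.one.pl.ZV] at h2
    exact h2
  rw [← cj_eq_iff]
  refine eq_of_le_of_card_ge ?_ (by rw [card_cj])
  intro v hv
  rw [mem_cj] at hv
  have := h1 _ hv
  have e : c * (c⁻¹ * v * c) * c⁻¹ = v := by group
  rwa [e] at this

theorem N_lam {n : G} (hn : n ∈ centralizer (Z : Set G)) (hnV : n ∈ normalizer (V : Set G)) {m : h.MF}
    (hm : m ∈ h.lam) : h.ph n • m ∈ h.lam := by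
  obtain ⟨v, hv, rfl⟩ := h.mem_lam.1 hm
  have e : h.ph n • h.fm v = _ := h.ph_fm hn v.2
  rw [e, h.mem_lam]
  exact ⟨⟨_, h.C_W hn v.2⟩, (mem_normalizer_iff.1 hnV _).1 hv, rfl⟩

theorem N_Ib {n : G} (hn : n ∈ centralizer (Z : Set G)) (hnV : n ∈ normalizer (V : Set G)) {m : h.MF}
    (hm : m ∈ h.Ib) : h.ph n • m ∈ h.Ib := by
  obtain ⟨u, hu, rfl⟩ := hm
  rw [h.ph_fm hn]
  exact ⟨n * u * n⁻¹, (mem_normalizer_iff.1 (normalizer_le_IV V Z hnV) _).1 hu, rfl⟩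

theorem N_AI {n : G} (hn : n ∈ centralizer (Z : Set G)) (hnV : n ∈ normalizer (V : Set G)) {x : h.HI}
    (hx : x ∈ h.AI) : h.ph n * x * (h.ph n)⁻¹ ∈ h.AI := by
  obtain ⟨a, ha, rfl⟩ := hx
  have haC := h.one.W_le_C h.pY ha
  obtain ⟨h3, h4⟩ := h.one.conj_pnt (centralizer_le_normalizer _ hn) hnV h.pY h.Yp_ne
  obtain ⟨k, hk, hke⟩ := h.one.move h.one.self h3 h.pY h4 h.Yp_ne
  have hkC := h.one.K_le_C hk
  refine ⟨k * (n * a * n⁻¹) * k⁻¹, ?_, ?_⟩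
  · have h5 : n * a * n⁻¹ ∈ ws V (cj n h.Yp) := by
      rw [ws_cj]; exact conj_mem_cj ha
    have h6 := conj_mem_cj (g := k) h5
    rwa [← ws_cj, hke] at h6
  · have hna : n * a * n⁻¹ ∈ centralizer (Z : Set G) := mul_mem (mul_mem hn haC) (inv_mem hn)
    rw [h.ph_mul (mul_mem hkC hna) (inv_mem hkC), h.ph_mul hkC hna, h.ph_inv hkC, h.ph_K hk,
      h.ph_mul (mul_mem hn haC) (inv_mem hn), h.ph_mul hn haC, h.ph_inv hn, one_mul, inv_one, mul_one]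

theorem N_KI {n : G} (hn : n ∈ centralizer (Z : Set G)) (hnV : n ∈ normalizer (V : Set G)) {x : h.HI}
    (hx : x ∈ h.KI) : h.ph n * x * (h.ph n)⁻¹ ∈ h.KI := by
  obtain ⟨a, ha, rfl⟩ := hx
  have haC := h.yl_C ha
  refine ⟨n * a * n⁻¹, (mem_normalizer_iff.1 (norm_yl V Z hnV) _).1 ha, ?_⟩
  rw [h.ph_mul (mul_mem hn haC) (inv_mem hn), h.ph_mul hn haC, h.ph_inv hn]

/-- equivariance of `α` -/
theorem ah_equi (hN : NTr V Z) (hrd : rd V Z = Z) {x : h.HI} (hx : x • h.v0 = h.v0) (m : h.MF) :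
    h.ah (x • m) = x * h.ah m * x⁻¹ := by
  obtain ⟨d, hd, rfl⟩ := h.ph_surj x
  obtain ⟨k, hk, hkd⟩ := h.fix_v0 hrd hd (by rw [← h.ph_smul hd]; exact hx)
  have hkC := h.one.K_le_C hk
  have hcC := centralizer_le h.one.pl.ZV hkd
  have e : h.ph d = h.ph (k⁻¹ * d) := by
    rw [h.ph_mul (inv_mem hkC) hd, h.ph_inv hkC, h.ph_K hk, inv_one, one_mul]
  rw [e, eq_mul_inv_iff_mul_eq]
  refine h.faith fun y => ?_
  rw [mul_smul, mul_smul, h.ah_smul, h.ah_smul, h.ph_smul hcC, h.ph_smul hcC, h.ph_smul hcC]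
  exact congrArg (fun f : Module.End F h.MF => f y) (h.al_equi hN hkd m)

end Co

end Cfsg.Agent.Omega.NO3S.OneQ

end

section


/-!
# NO-3S, `OneQ`, case (N), `D_x = I`: the instance of `TIq.Gen` and `TIq.GenK`

* `TIw V Z` : `A_l ∩ A_m = 1` for lines `l ≠ m` on `Z`; `Alph V Z` : ALPHA;
* `Co.LL` : the vectors of the points `λ_l`; `Co.At`, `Co.It`, `Co.alt`, `Co.Kt`;
* **`Co.gen`**, **`Co.genK`**.
-/

set_option autoImplicit false
set_option linter.unusedSectionVars false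

namespace Cfsg.Agent.Omega.NO3S.OneQ

open Subgroup Cfsg.Agent.Omega.NO3S.PT Cfsg.Agent.Omega.NoFF.Basic
open scoped Pointwise

universe u

variable {G : Type u} [Group G]

/-- `A_l ∩ A_m = 1` for lines `l ≠ m` on `Z` -/
def TIw (V Z : Subgroup G) : Prop :=
  ∀ Y, Pnt V Z Y → Y ≠ Z → ∀ c ∈ centralizer (Z : Set G), cj c V ≠ V → ∀ a ∈ ws V Y, ∀ b ∈ ws V Y,
    a⁻¹ * (c * b * c⁻¹) ∈ kx V Z → a ∈ kx V Z

/-- ALPHA -/
def Alph (V Z : Subgroup G) : Prop :=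
  ∀ c ∈ centralizer (Z : Set G), cj c V ≠ V → ∀ u ∈ IV V Z, u ∈ cj c (IV V Z) → u ∉ Z → ∀ v ∈ cj c V,
    ∀ g ∈ XV V Z, cj g Z ≠ Z → v * (g * v * g⁻¹) * v⁻¹ * (g * v * g⁻¹)⁻¹ ∈ Z

namespace Co

variable [Finite G] {F : Type*} [Field F] [CharP F 2] {S : Sylow 2 G} {B P V Z : Subgroup G} (h : Co F S B P V Z)

/-- the vectors `≠ 0` of the points `λ_l` -/
def LL : Set h.MF := {m | ∃ (x : h.HI) (c : F), c ≠ 0 ∧ m = c • (x • h.v0)}

/-- a representative -/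
noncomputable def rcl (l : h.MF) : h.HI := open Classical in if hl : l ∈ h.LL then hl.choose else 1

theorem rcl_spec {l : h.MF} (hl : l ∈ h.LL) : ∃ c : F, c ≠ 0 ∧ l = c • (h.rcl l • h.v0) := by
  rw [rcl, dif_pos hl]
  exact hl.choose_spec

theorem rcl_eq (hrd : rd V Z = Z) {l : h.MF} {x : h.HI} {c : F} (hc : c ≠ 0) (hl : l = c • (x • h.v0)) :
    ∃ n ∈ centralizer (Z : Set G), n ∈ normalizer (V : Set G) ∧ h.rcl l = x * h.ph n := by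
  obtain ⟨d, hd, e⟩ := h.rcl_spec ⟨x, c, hc, hl⟩
  obtain ⟨n, hn, hne⟩ := h.ph_surj (x⁻¹ * h.rcl l)
  refine ⟨n, hn, h.norm_of_lam hrd hn ?_, by rw [hne, mul_inv_cancel_left]⟩
  have e0 : d⁻¹ • l = h.rcl l • h.v0 := by
    conv_lhs => rw [e]
    rw [smul_smul, inv_mul_cancel₀ hd, one_smul]
  have e1 : h.rcl l • h.v0 = (d⁻¹ * c) • (x • h.v0) := by
    rw [mul_smul, ← hl, e0]
  rw [hne, mul_smul, e1, h.hh_lin, inv_smul_smul]
  exact h.lam.smul_mem _ (Submodule.mem_span_singleton_self _)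

/-- `A_l` -/
noncomputable def At (l : h.MF) : Subgroup h.HI := h.AI.comap (MulAut.conj (h.rcl l)⁻¹).toMonoidHom

/-- `K~_l` -/
noncomputable def Kt (l : h.MF) : Subgroup h.HI := h.KI.comap (MulAut.conj (h.rcl l)⁻¹).toMonoidHom

theorem mem_At' {l : h.MF} {a : h.HI} : a ∈ h.At l ↔ (h.rcl l)⁻¹ * a * h.rcl l ∈ h.AI := by
  rw [At, mem_comap]
  show (h.rcl l)⁻¹ * a * (h.rcl l)⁻¹⁻¹ ∈ h.AI ↔ _
  rw [inv_inv]

theorem mem_Kt' {l : h.MF} {a : h.HI} : a ∈ h.Kt l ↔ (h.rcl l)⁻¹ * a * h.rcl l ∈ h.KI := by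
  rw [Kt, mem_comap]
  show (h.rcl l)⁻¹ * a * (h.rcl l)⁻¹⁻¹ ∈ h.KI ↔ _
  rw [inv_inv]

theorem ph_inv_mem {n : G} (hn : n ∈ centralizer (Z : Set G)) : (h.ph n)⁻¹ = h.ph n⁻¹ := (h.ph_inv hn).symm

theorem mem_At (hrd : rd V Z = Z) {l : h.MF} {x : h.HI} {c : F} (hc : c ≠ 0) (hl : l = c • (x • h.v0)) {a : h.HI} :
    a ∈ h.At l ↔ x⁻¹ * a * x ∈ h.AI := by
  obtain ⟨n, hn, hnV, e⟩ := h.rcl_eq hrd hc hl
  rw [h.mem_At', e]
  have e1 : (x * h.ph n)⁻¹ * a * (x * h.ph n) = h.ph n⁻¹ * (x⁻¹ * a * x) * (h.ph n⁻¹)⁻¹ := by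
    rw [h.ph_inv hn]; group
  constructor
  · intro h1
    rw [e1] at h1
    have h2 := h.N_AI hn hnV h1
    have e2 : h.ph n * (h.ph n⁻¹ * (x⁻¹ * a * x) * (h.ph n⁻¹)⁻¹) * (h.ph n)⁻¹ = x⁻¹ * a * x := by
      rw [h.ph_inv hn]; group
    rwa [e2] at h2
  · intro h1
    rw [e1]
    exact h.N_AI (inv_mem hn) (inv_mem hnV) h1

theorem mem_Kt (hrd : rd V Z = Z) {l : h.MF} {x : h.HI} {c : F} (hc : c ≠ 0) (hl : l = c • (x • h.v0)) {a : h.HI} :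
    a ∈ h.Kt l ↔ x⁻¹ * a * x ∈ h.KI := by
  obtain ⟨n, hn, hnV, e⟩ := h.rcl_eq hrd hc hl
  rw [h.mem_Kt', e]
  have e1 : (x * h.ph n)⁻¹ * a * (x * h.ph n) = h.ph n⁻¹ * (x⁻¹ * a * x) * (h.ph n⁻¹)⁻¹ := by
    rw [h.ph_inv hn]; group
  constructor
  · intro h1
    rw [e1] at h1
    have h2 := h.N_KI hn hnV h1
    have e2 : h.ph n * (h.ph n⁻¹ * (x⁻¹ * a * x) * (h.ph n⁻¹)⁻¹) * (h.ph n)⁻¹ = x⁻¹ * a * x := by
      rw [h.ph_inv hn]; group
    rwa [e2] at h2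
  · intro h1
    rw [e1]
    exact h.N_KI (inv_mem hn) (inv_mem hnV) h1

variable (hN : NTr V Z) (hD : dd V Z Z ≤ IV V Z)

/-- the operator of an element -/
noncomputable def op (x : h.HI) : Module.End F h.MF := ((x : (Module.End F h.MF)ˣ) : Module.End F h.MF)

theorem op_apply (x : h.HI) (m : h.MF) : h.op x m = x • m := rfl

/-- `Ī_l` -/
noncomputable def It (l : h.MF) : Submodule F h.MF := (h.IS hN hD).comap (h.op (h.rcl l)⁻¹)

theorem mem_It' {l m : h.MF} : m ∈ h.It hN hD l ↔ (h.rcl l)⁻¹ • m ∈ h.Ib := Iff.rfl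

theorem mem_It {l m : h.MF} {x : h.HI} {c : F} (hc : c ≠ 0) (hl : l = c • (x • h.v0)) :
    m ∈ h.It hN hD l ↔ x⁻¹ • m ∈ h.Ib := by
  obtain ⟨n, hn, hnV, e⟩ := h.rcl_eq (h.rd_eq hN hD) hc hl
  rw [h.mem_It', e]
  have e1 : (x * h.ph n)⁻¹ • m = h.ph n⁻¹ • (x⁻¹ • m) := by
    rw [mul_inv_rev, mul_smul, h.ph_inv hn]
  rw [e1]
  constructor
  · intro h1
    have h2 := h.N_Ib hn hnV h1
    rwa [h.ph_inv hn, smul_inv_smul] at h2
  · exact h.N_Ib (inv_mem hn) (inv_mem hnV)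

/-- `α_l` -/
noncomputable def alt (l m : h.MF) : h.HI := h.rcl l * h.ah ((h.rcl l)⁻¹ • m) * (h.rcl l)⁻¹

/-! ### the fields -/

theorem LL_gen : Submodule.span F h.LL = ⊤ := by
  rw [eq_top_iff]
  rintro m -
  obtain ⟨w, rfl⟩ := h.fm_surj m
  let D : Subgroup G :=
    { carrier := {w | ∃ hw : w ∈ ws V Z, h.fm ⟨w, hw⟩ ∈ Submodule.span F h.LL}
      one_mem' := ⟨one_mem _, by
        have e : h.fm ⟨1, one_mem _⟩ = 0 := h.fm_one
        rw [e]; exact zero_mem _⟩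
      mul_mem' := by
        rintro a b ⟨ha, ha'⟩ ⟨hb, hb'⟩
        refine ⟨mul_mem ha hb, ?_⟩
        have e : h.fm ⟨a * b, mul_mem ha hb⟩ = h.fm ⟨a, ha⟩ + h.fm ⟨b, hb⟩ := h.fm_mul ⟨a, ha⟩ ⟨b, hb⟩
        rw [e]; exact add_mem ha' hb'
      inv_mem' := by
        rintro a ⟨ha, ha'⟩
        refine ⟨inv_mem ha, ?_⟩
        have e : h.fm ⟨a⁻¹, inv_mem ha⟩ = h.fm ⟨a, ha⟩ := h.fm_inv ⟨a, ha⟩
        rw [e]; exact ha' }
  have hVD : V ≤ D := by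
    intro v hv
    obtain ⟨x, y, rfl⟩ := (h.mem_V _).1 hv
    refine ⟨h.W_V x y, ?_⟩
    rw [h.fm_e]
    by_cases hy : y = 0
    · rw [hy, zero_smul]; exact zero_mem _
    · exact Submodule.subset_span ⟨1, y, hy, by rw [one_smul]⟩
  have hspan : ∀ (x : h.HI) (m : h.MF), m ∈ Submodule.span F h.LL → x • m ∈ Submodule.span F h.LL := by
    intro x m hm
    have h1 : Submodule.span F h.LL ≤ (Submodule.span F h.LL).comap (h.op x) := by
      rw [Submodule.span_le]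
      rintro _ ⟨y, c, hc, rfl⟩
      refine Submodule.subset_span ⟨x * y, c, hc, ?_⟩
      show x • (c • (y • h.v0)) = _
      rw [h.hh_lin, mul_smul]
    exact h1 hm
  have hDn : centralizer (Z : Set G) ≤ normalizer (D : Set G) := by
    have key : ∀ c ∈ centralizer (Z : Set G), cj c D ≤ D := by
      intro c hc w hw
      rw [mem_cj] at hw
      obtain ⟨hw', hw''⟩ := hw
      have h2 := hspan (h.ph c) _ hw''
      rw [h.ph_fm hc] at h2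
      have e : c * (c⁻¹ * w * c) * c⁻¹ = w := by group
      have h3 : w ∈ ws V Z := by
        have := h.C_W hc hw'
        rwa [e] at this
      refine ⟨h3, ?_⟩
      have e2 : (⟨c * (c⁻¹ * w * c) * c⁻¹, h.C_W hc hw'⟩ : ws V Z) = ⟨w, h3⟩ := Subtype.ext e
      rwa [e2] at h2
    intro c hc
    rw [← cj_eq_iff]
    refine le_antisymm (key c hc) ?_
    rw [le_cj_iff]
    exact key c⁻¹ (inv_mem hc)
  exact (h.W_le_of_V hVD hDn w.2).2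

include h in
/-- a line `cj c V ≤ V` -/
theorem cj_ne {c : G} (hc : c ∉ normalizer (V : Set G)) : cj c V ≠ V := fun e => hc (cj_eq_iff.1 e)

theorem sw_of_swap {m : h.MF} (hm : m ∈ h.Ib) (hml : m ∉ h.lam) (a : F) : ∃ t ∈ h.KI, t • m = m + a • h.v0 := by
  obtain ⟨u, hu, rfl⟩ := hm
  have huV : u ∉ V := fun e => hml ((h.fm_mem_lam_I hu).2 e)
  obtain ⟨k, hk, hku⟩ := h.exists_yl hu huV a
  refine ⟨_, ⟨k, hk, rfl⟩, ?_⟩
  have e : h.ph k • h.fm ⟨u, h.one.I_le_W' hu⟩ = _ := h.ph_fm (h.yl_C hk) (h.one.I_le_W' hu)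
  rw [e, add_comm, ← h.fm_e 0 a, ← h.fm_mul]
  congr 1
  exact Subtype.ext hku

theorem mem_Eb_AI {m : h.MF} : m ∈ h.Eb ↔ ∀ x ∈ h.AI, x • m - m ∈ h.lam := by
  rw [h.mem_Eb]
  constructor
  · rintro h1 _ ⟨a, ha, rfl⟩
    rw [h.ph_smul (h.one.W_le_C h.pY ha)]
    exact h1 a ha
  · intro h1 a ha
    rw [← h.ph_smul (h.one.W_le_C h.pY ha)]
    exact h1 _ ⟨a, ha, rfl⟩

theorem alt_smul (l m x : h.MF) : h.alt l m • x = h.rcl l • (h.ah ((h.rcl l)⁻¹ • m) • ((h.rcl l)⁻¹ • x)) := by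
  rw [alt, mul_smul, mul_smul]

theorem alt_one {l m : h.MF} : h.alt l m = 1 ↔ h.ah ((h.rcl l)⁻¹ • m) = 1 := by
  rw [alt]
  constructor
  · intro e
    calc h.ah ((h.rcl l)⁻¹ • m) = (h.rcl l)⁻¹ * (h.rcl l * h.ah ((h.rcl l)⁻¹ • m) * (h.rcl l)⁻¹) * h.rcl l := by group
      _ = 1 := by rw [e]; group
  · intro e
    rw [e]; group

theorem lam_smul {l : h.MF} {d : F} (hd : d ≠ 0) (e : l = d • (h.rcl l • h.v0)) {y : h.MF} (hy : y ∈ h.lam) :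
    ∃ c : F, h.rcl l • y = c • l := by
  rw [lam, Submodule.mem_span_singleton] at hy
  obtain ⟨b, rfl⟩ := hy
  refine ⟨b * d⁻¹, ?_⟩
  conv_rhs => rw [e]
  rw [h.hh_lin, smul_smul, inv_mul_cancel_right₀ hd]

theorem inv_l {l : h.MF} {d : F} (e : l = d • (h.rcl l • h.v0)) : (h.rcl l)⁻¹ • l = d • h.v0 := by
  rw [inv_smul_eq_iff, h.hh_lin]; exact e

theorem rcl_v0 {l : h.MF} {d : F} (hd : d ≠ 0) (e : l = d • (h.rcl l • h.v0)) : h.rcl l • h.v0 = d⁻¹ • l := by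
  conv_rhs => rw [e]
  rw [smul_smul, inv_mul_cancel₀ hd, one_smul]

/-- `n` normalises `V` : the same point -/
theorem same_of_norm {l m : h.MF} {d d' : F} (hd : d ≠ 0) (e : l = d • (h.rcl l • h.v0))
    (e' : m = d' • (h.rcl m • h.v0)) {n : G} (hn : n ∈ centralizer (Z : Set G)) (hnV : n ∈ normalizer (V : Set G))
    (hne : h.ph n = (h.rcl l)⁻¹ * h.rcl m) : ∃ c : F, m = c • l := by
  have h1 := h.N_lam hn hnV (Submodule.mem_span_singleton_self h.v0 : h.v0 ∈ h.lam)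
  rw [hne, lam, Submodule.mem_span_singleton] at h1
  obtain ⟨b, hb⟩ := h1
  have h2 : h.rcl m • h.v0 = b • (h.rcl l • h.v0) := by
    rw [← h.hh_lin, hb, mul_smul, smul_inv_smul]
  refine ⟨d' * b * d⁻¹, ?_⟩
  rw [h.rcl_v0 hd e] at h2
  conv_lhs => rw [e', h2]
  rw [smul_smul, smul_smul, mul_assoc]

theorem conj_smul (x a : h.HI) (m : h.MF) : (x⁻¹ * a * x) • (x⁻¹ • m) = x⁻¹ • (a • m) := by
  rw [← mul_smul, ← mul_smul]
  congr 1
  group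

theorem conj_smul' (x a : h.HI) (m : h.MF) : a • m = x • ((x⁻¹ * a * x) • (x⁻¹ • m)) := by
  rw [h.conj_smul, smul_inv_smul]

theorem conj_conj (x a : h.HI) : x⁻¹ * (x * a * x⁻¹) * x = a := by group

theorem conj_conj' (x a : h.HI) : x * (x⁻¹ * a * x) * x⁻¹ = a := by group

theorem At_of {l : h.MF} {x : h.HI} (hx : x ∈ h.AI) : h.rcl l * x * (h.rcl l)⁻¹ ∈ h.At l := by
  rw [h.mem_At', h.conj_conj]; exact hx

theorem Kt_of {l : h.MF} {x : h.HI} (hx : x ∈ h.KI) : h.rcl l * x * (h.rcl l)⁻¹ ∈ h.Kt l := by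
  rw [h.mem_Kt', h.conj_conj]; exact hx

theorem LL_zero : (0 : h.MF) ∉ h.LL := by
  rintro ⟨x, c, hc, e⟩
  have h1 := (smul_eq_zero.1 e.symm).resolve_left hc
  apply h.v0_ne
  rw [← inv_smul_smul x h.v0, h1, smul_zero]

theorem LL_smul (x : h.HI) {l : h.MF} (hl : l ∈ h.LL) : x • l ∈ h.LL := by
  obtain ⟨y, c, hc, rfl⟩ := hl
  exact ⟨x * y, c, hc, by rw [h.hh_lin, mul_smul]⟩

theorem LL_fsm {c : F} {l : h.MF} (hc : c ≠ 0) (hl : l ∈ h.LL) : c • l ∈ h.LL := by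
  obtain ⟨y, d, hd, rfl⟩ := hl
  exact ⟨y, c * d, mul_ne_zero hc hd, by rw [smul_smul]⟩

theorem At_sm (hrd : rd V Z = Z) {c : F} {l : h.MF} (hc : c ≠ 0) (hl : l ∈ h.LL) : h.At (c • l) = h.At l := by
  obtain ⟨d, hd, e⟩ := h.rcl_spec hl
  ext a
  rw [h.mem_At hrd hd e, h.mem_At hrd (c := c * d) (mul_ne_zero hc hd) (by rw [mul_smul, ← e])]

theorem Kt_sm (hrd : rd V Z = Z) {c : F} {l : h.MF} (hc : c ≠ 0) (hl : l ∈ h.LL) : h.Kt (c • l) = h.Kt l := by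
  obtain ⟨d, hd, e⟩ := h.rcl_spec hl
  ext a
  rw [h.mem_Kt hrd hd e, h.mem_Kt hrd (c := c * d) (mul_ne_zero hc hd) (by rw [mul_smul, ← e])]

theorem It_sm {c : F} {l : h.MF} (hc : c ≠ 0) (hl : l ∈ h.LL) : h.It hN hD (c • l) = h.It hN hD l := by
  obtain ⟨d, hd, e⟩ := h.rcl_spec hl
  ext a
  rw [h.mem_It hN hD hd e, h.mem_It hN hD (c := c * d) (mul_ne_zero hc hd) (by rw [mul_smul, ← e])]

theorem LL_trans {l m : h.MF} (hl : l ∈ h.LL) (hm : m ∈ h.LL) : ∃ (x : h.HI) (c : F), c ≠ 0 ∧ x • l = c • m := by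
  obtain ⟨x, c, hc, rfl⟩ := hl
  obtain ⟨y, d, hd, rfl⟩ := hm
  refine ⟨y * x⁻¹, c * d⁻¹, mul_ne_zero hc (inv_ne_zero hd), ?_⟩
  rw [h.hh_lin, mul_smul, inv_smul_smul, smul_smul, inv_mul_cancel_right₀ hd]

theorem At_conj (hrd : rd V Z = Z) (x : h.HI) {l : h.MF} {a : h.HI} (hl : l ∈ h.LL) (ha : a ∈ h.At l) :
    x * a * x⁻¹ ∈ h.At (x • l) := by
  obtain ⟨d, hd, e⟩ := h.rcl_spec hl
  rw [h.mem_At hrd (x := x * h.rcl l) hd (by rw [mul_smul, ← h.hh_lin, ← e])]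
  rw [h.mem_At'] at ha
  have e1 : (x * h.rcl l)⁻¹ * (x * a * x⁻¹) * (x * h.rcl l) = (h.rcl l)⁻¹ * a * h.rcl l := by group
  rw [e1]
  exact ha

theorem Kt_conj (hrd : rd V Z = Z) (x : h.HI) {l : h.MF} {a : h.HI} (hl : l ∈ h.LL) (ha : a ∈ h.Kt l) :
    x * a * x⁻¹ ∈ h.Kt (x • l) := by
  obtain ⟨d, hd, e⟩ := h.rcl_spec hl
  rw [h.mem_Kt hrd (x := x * h.rcl l) hd (by rw [mul_smul, ← h.hh_lin, ← e])]
  rw [h.mem_Kt'] at ha
  have e1 : (x * h.rcl l)⁻¹ * (x * a * x⁻¹) * (x * h.rcl l) = (h.rcl l)⁻¹ * a * h.rcl l := by group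
  rw [e1]
  exact ha

theorem It_conj (x : h.HI) {l u : h.MF} (hl : l ∈ h.LL) (hu : u ∈ h.It hN hD l) : x • u ∈ h.It hN hD (x • l) := by
  obtain ⟨d, hd, e⟩ := h.rcl_spec hl
  rw [h.mem_It hN hD (x := x * h.rcl l) hd (by rw [mul_smul, ← h.hh_lin, ← e])]
  rw [h.mem_It'] at hu
  rw [mul_inv_rev, mul_smul, inv_smul_smul]
  exact hu

theorem At_sq {l : h.MF} {a : h.HI} (ha : a ∈ h.At l) : a * a = 1 := by
  rw [h.mem_At'] at ha
  have h1 := h.AI_sq ha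
  have e1 : (h.rcl l)⁻¹ * a * h.rcl l * ((h.rcl l)⁻¹ * a * h.rcl l) = (h.rcl l)⁻¹ * (a * a) * h.rcl l := by group
  rw [e1] at h1
  rw [← h.conj_conj' (h.rcl l) (a * a), h1]
  group

theorem At_ne (hrd : rd V Z = Z) (l : h.MF) : ∃ a ∈ h.At l, a ≠ 1 := by
  obtain ⟨a, ha, ha1⟩ := h.exists_AI hrd
  refine ⟨_, h.At_of ha, fun e => ha1 ?_⟩
  rw [← h.conj_conj (h.rcl l) a, e]
  group

theorem It_self {l : h.MF} (hl : l ∈ h.LL) : l ∈ h.It hN hD l := by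
  obtain ⟨d, hd, e⟩ := h.rcl_spec hl
  rw [h.mem_It', h.inv_l e]
  exact h.lam_le_Ib (h.lam.smul_mem _ (Submodule.mem_span_singleton_self _))

theorem At_comm {l : h.MF} {a : h.HI} (ha : a ∈ h.At l) (m : h.MF) : a • m + m ∈ h.It hN hD l := by
  rw [h.mem_It']
  rw [h.mem_At'] at ha
  have h1 := h.AI_sub_Ib ha ((h.rcl l)⁻¹ • m)
  rw [h.sub_eq, h.conj_smul, ← smul_add] at h1
  exact h1

theorem At_fix {l : h.MF} {a : h.HI} {u : h.MF} (ha : a ∈ h.At l) (hu : u ∈ h.It hN hD l) : a • u = u := by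
  rw [h.mem_It'] at hu
  rw [h.mem_At'] at ha
  rw [h.conj_smul' (h.rcl l), h.AI_fix ha hu, smul_inv_smul]

theorem At_fixI {l u : h.MF} (hu : ∀ a ∈ h.At l, a • u = u) : u ∈ h.It hN hD l := by
  rw [h.mem_It']
  refine h.fix_AI hN hD fun x hx => ?_
  have h1 := hu _ (h.At_of (l := l) hx)
  have h2 := h.conj_smul (h.rcl l) (h.rcl l * x * (h.rcl l)⁻¹) u
  rw [h.conj_conj, h1] at h2
  exact h2

theorem At_ti (hrd : rd V Z = Z) (hTI : TIw V Z) {l m : h.MF} {a : h.HI} (hl : l ∈ h.LL) (hm : m ∈ h.LL) (ha : a ∈ h.At l)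
    (ha' : a ∈ h.At m) (ha1 : a ≠ 1) : ∃ c : F, m = c • l := by
  obtain ⟨d, hd, e⟩ := h.rcl_spec hl
  obtain ⟨d', hd', e'⟩ := h.rcl_spec hm
  rw [h.mem_At'] at ha ha'
  obtain ⟨n, hn, hne⟩ := h.ph_surj ((h.rcl l)⁻¹ * h.rcl m)
  by_cases hnV : n ∈ normalizer (V : Set G)
  · exact h.same_of_norm hd e e' hn hnV hne
  · exfalso
    obtain ⟨b, hb, hbe⟩ := ha
    obtain ⟨b', hb', hbe'⟩ := ha'
    have hbC := h.one.W_le_C h.pY hb
    have hbC' := h.one.W_le_C h.pY hb'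
    have h1 : h.ph (b⁻¹ * (n * b' * n⁻¹)) = 1 := by
      rw [h.ph_mul (inv_mem hbC) (mul_mem (mul_mem hn hbC') (inv_mem hn)), h.ph_mul (mul_mem hn hbC') (inv_mem hn),
        h.ph_mul hn hbC', h.ph_inv hbC, h.ph_inv hn, hbe, hbe', hne]
      group
    have h2 := (h.ph_eq_one hrd (mul_mem (inv_mem hbC) (mul_mem (mul_mem hn hbC') (inv_mem hn)))).1 h1
    have h3 := hTI _ h.pY h.Yp_ne n hn (h.cj_ne hnV) b hb b' hb' h2
    apply ha1
    have h4 := h.ph_K h3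
    rw [hbe] at h4
    rw [← h.conj_conj' (h.rcl l) a, h4]
    group

theorem LL_plane {l m : h.MF} (hl : l ∈ h.LL) (hm : m ∈ h.LL) (hml : m ∈ h.It hN hD l) (c : F) :
    l + c • m = 0 ∨ l + c • m ∈ h.LL := by
  obtain ⟨d, hd, e⟩ := h.rcl_spec hl
  by_cases h0 : l + c • m = 0
  · exact Or.inl h0
  right
  rw [h.mem_It'] at hml
  by_cases h1 : (h.rcl l)⁻¹ • m ∈ h.lam
  · rw [lam, Submodule.mem_span_singleton] at h1
    obtain ⟨b, hb⟩ := h1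
    have h2 : l + c • m = (d + c * b) • (h.rcl l • h.v0) := by
      rw [add_smul, ← e, mul_smul]
      congr 2
      rw [← h.hh_lin, hb, smul_inv_smul]
    refine ⟨h.rcl l, d + c * b, fun e1 => h0 ?_, h2⟩
    rw [h2, e1, zero_smul]
  · by_cases hc : c = 0
    · rw [hc, zero_smul, add_zero]; exact hl
    obtain ⟨t, -, ht⟩ := h.sw_of_swap hml h1 (c⁻¹ * d)
    have h2 : l + c • m = c • (h.rcl l • (t • ((h.rcl l)⁻¹ • m))) := by
      rw [ht, smul_add, smul_inv_smul, smul_add, add_comm]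
      congr 1
      rw [h.hh_lin, smul_smul, mul_inv_cancel_left₀ hc, ← e]
    rw [h2]
    exact h.LL_fsm hc (h.LL_smul _ (h.LL_smul _ (h.LL_smul _ hm)))

theorem alt_conj (l m : h.MF) : (h.rcl l)⁻¹ * h.alt l m * h.rcl l = h.ah ((h.rcl l)⁻¹ • m) := by
  rw [alt, h.conj_conj]

theorem alt_mem (l m : h.MF) : h.alt l m ∈ h.At l := by
  rw [h.mem_At', h.alt_conj]
  exact h.ah_mem _

include hN in
theorem alt_add (l m m' : h.MF) : h.alt l (m + m') = h.alt l m * h.alt l m' := by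
  rw [alt, alt, alt, smul_add, h.ah_add hN]
  group

include hN in
theorem alt_surj {l : h.MF} {a : h.HI} (ha : a ∈ h.At l) : ∃ m, h.alt l m = a := by
  rw [h.mem_At'] at ha
  obtain ⟨m, hm⟩ := h.ah_surj hN ha
  refine ⟨h.rcl l • m, ?_⟩
  rw [alt, inv_smul_smul, hm, h.conj_conj']

include hN in
theorem alt_equi (hrd : rd V Z = Z) {l : h.MF} {x : h.HI} (hl : l ∈ h.LL) (hx : x • l = l) (m : h.MF) :
    h.alt l (x • m) = x * h.alt l m * x⁻¹ := by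
  obtain ⟨d, hd, e⟩ := h.rcl_spec hl
  have h1 : ((h.rcl l)⁻¹ * x * h.rcl l) • h.v0 = h.v0 := by
    rw [mul_smul, h.rcl_v0 hd e, h.hh_lin, mul_smul, hx, ← h.hh_lin, ← h.rcl_v0 hd e, inv_smul_smul]
  have h2 := h.ah_equi hN hrd h1 ((h.rcl l)⁻¹ • m)
  rw [h.conj_smul] at h2
  rw [alt, alt, h2]
  group

include hN in
theorem alt_ker {l : h.MF} (hl : l ∈ h.LL) (m : h.MF) : h.alt l m = 1 ↔ ∀ a ∈ h.At l, ∃ c : F, a • m = m + c • l := by
  obtain ⟨d, hd, e⟩ := h.rcl_spec hl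
  rw [h.alt_one, h.ah_eq_one hN, h.mem_Eb_AI]
  constructor
  · intro h1 a ha
    rw [h.mem_At'] at ha
    obtain ⟨c, hc⟩ := h.lam_smul hd e (h1 _ ha)
    refine ⟨c, ?_⟩
    rw [← hc, smul_sub, smul_inv_smul, ← h.conj_smul' (h.rcl l)]
    abel
  · intro h1 x hx
    obtain ⟨c, hc⟩ := h1 _ (h.At_of (l := l) hx)
    have h2 := h.conj_smul (h.rcl l) (h.rcl l * x * (h.rcl l)⁻¹) m
    rw [h.conj_conj, hc] at h2
    rw [h2, smul_add, h.hh_lin, h.inv_l e, add_sub_cancel_left]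
    exact h.lam.smul_mem _ (h.lam.smul_mem _ (Submodule.mem_span_singleton_self _))

/-- the value of `alt l m • x + x` -/
theorem alt_add_self (l m x : h.MF) :
    h.alt l m • x + x = h.rcl l • (h.al ((h.rcl l)⁻¹ • m) ((h.rcl l)⁻¹ • x) - (h.rcl l)⁻¹ • x) := by
  rw [h.alt_smul, h.ah_smul, smul_sub, smul_inv_smul, h.sub_eq]

include hN in
theorem alt_sy {l : h.MF} (hl : l ∈ h.LL) (m m' : h.MF) :
    ∃ c : F, h.alt l m' • m + m + (h.alt l m • m' + m') = c • l := by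
  obtain ⟨d, hd, e⟩ := h.rcl_spec hl
  have h1 := h.al_symm hN ((h.rcl l)⁻¹ • m) ((h.rcl l)⁻¹ • m')
  obtain ⟨c, hc⟩ := h.lam_smul hd e h1
  refine ⟨c, ?_⟩
  rw [← hc, smul_sub, h.alt_add_self, h.alt_add_self, ← h.sub_eq]

include hN in
theorem alt_phl {l : h.MF} (c : F) (y x : h.MF) (hy : h.alt l y = 1) :
    h.alt l (c • x) • y + y = c • (h.alt l x • y + y) := by
  rw [h.alt_one, h.ah_eq_one hN] at hy
  have h1 := h.al_smul_Eb hN c ((h.rcl l)⁻¹ • x) hy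
  rw [h.alt_add_self, h.alt_add_self, h.hh_lin, h1, h.hh_lin]

include hN in
theorem alt_bl {l : h.MF} (hl : l ∈ h.LL) (c : F) (m x : h.MF) :
    ∃ d : F, h.alt l (c • x) • m + m = c • (h.alt l x • m + m) + d • l := by
  obtain ⟨d, hd, e⟩ := h.rcl_spec hl
  have h1 := h.al_smul hN c ((h.rcl l)⁻¹ • x) ((h.rcl l)⁻¹ • m)
  obtain ⟨b, hb⟩ := h.lam_smul hd e h1
  refine ⟨b, ?_⟩
  have h2 : (h.rcl l)⁻¹ • (c • x) = c • ((h.rcl l)⁻¹ • x) := h.hh_lin _ _ _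
  rw [h.alt_add_self, h.alt_add_self, h2, ← hb, smul_sub (h.rcl l) _ (c • _), h.hh_lin, add_sub_cancel]

end Co

end Cfsg.Agent.Omega.NO3S.OneQ

end

section


/-!
# NO-3S, `OneQ`: `TIw V Z` from its form at the point `Yp`

* `Co.tiw_of` : from `Y = Yp` to all points; `Co.tiw_of_rp` : from TI for the operators `rp`.
-/

set_option autoImplicit false
set_option linter.unusedSectionVars false

namespace Cfsg.Agent.Omega.NO3S.OneQ

open Subgroup Cfsg.Agent.Omega.NO3S.PT Cfsg.Agent.Omega.NoFF.Basic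
open scoped Pointwise

universe u

variable {G : Type u} [Group G]

namespace Co

variable [Finite G] {F : Type*} [Field F] [CharP F 2] {S : Sylow 2 G} {B P V Z : Subgroup G} (h : Co F S B P V Z)

include h in
/-- `k x k⁻¹ x⁻¹ ∈ K_Z` for `k ∈ K_Z`, `x ∈ C_G(Z)` -/
theorem kx_comm {k x : G} (hk : k ∈ kx V Z) (hx : x ∈ centralizer (Z : Set G)) : k * x * k⁻¹ * x⁻¹ ∈ kx V Z := by
  have h1 : x * k⁻¹ * x⁻¹ ∈ kx V Z :=
    (mem_normalizer_iff.1 (normalizer_le_kx V Z (centralizer_le_normalizer _ hx)) _).1 (inv_mem hk)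
  have e : k * x * k⁻¹ * x⁻¹ = k * (x * k⁻¹ * x⁻¹) := by group
  rw [e]; exact mul_mem hk h1

/-- from the point `Yp` to all points -/
theorem tiw_of (hti : ∀ c ∈ centralizer (Z : Set G), PT.cj c V ≠ V → ∀ a ∈ ws V h.Yp, ∀ b ∈ ws V h.Yp,
    a⁻¹ * (c * b * c⁻¹) ∈ kx V Z → a ∈ kx V Z) : TIw V Z := by
  intro Y hY hYZ c hc hcV a ha b hb hab
  obtain ⟨k, hk, hkY⟩ := h.one.move h.one.self h.pY hY h.Yp_ne hYZ
  have hkC : k ∈ centralizer (Z : Set G) := kx_le_cent hk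
  have hN : ∀ {x y : G}, x ∈ centralizer (Z : Set G) → y ∈ kx V Z → x * y * x⁻¹ ∈ kx V Z := fun hx hy =>
    (mem_normalizer_iff.1 (normalizer_le_kx V Z (centralizer_le_normalizer _ hx)) _).1 hy
  rw [← hkY, ws_cj, mem_cj] at ha hb
  obtain ⟨a', ha', rfl⟩ : ∃ a', a' ∈ ws V h.Yp ∧ a = k * a' * k⁻¹ := ⟨_, ha, by group⟩
  obtain ⟨b', hb', rfl⟩ : ∃ b', b' ∈ ws V h.Yp ∧ b = k * b' * k⁻¹ := ⟨_, hb, by group⟩
  have haC := h.one.W_le_C h.pY ha'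
  have hbC := h.one.W_le_C h.pY hb'
  have h1 := h.kx_comm hk haC
  have h2 := h.kx_comm hk hbC
  have h3 : a'⁻¹ * (c * b' * c⁻¹) ∈ kx V Z := by
    have e : a'⁻¹ * (c * b' * c⁻¹) = (a'⁻¹ * (k * a' * k⁻¹ * a'⁻¹) * a'⁻¹⁻¹) *
        ((k * a' * k⁻¹)⁻¹ * (c * (k * b' * k⁻¹) * c⁻¹)) *
        (c * b'⁻¹ * (k * b' * k⁻¹ * b'⁻¹)⁻¹ * (c * b'⁻¹)⁻¹) := by group
    rw [e]
    exact mul_mem (mul_mem (hN (inv_mem haC) h1) hab) (hN (mul_mem hc (inv_mem hbC)) (inv_mem h2))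
  have h4 := hti c hc hcV a' ha' b' hb' h3
  exact mul_mem (mul_mem hk h4) (inv_mem hk)

end Co

end Cfsg.Agent.Omega.NO3S.OneQ

end
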