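import Cfsg.Agent.Mrg.Omega.NO3S.OneQ.Fix
import Cfsg.Agent.Mrg.Omega.NO3S.OneQ.Rep
import Cfsg.Agent.Omega.NO3S.OneQ.QuadNat

section


/-!
# NO-3S, `OneQ`: quadratic sections for `X_l` (bb OMEGA #18875, WEIGHT THEOREM)

* `Co.Sec W R` : `W / R` is an elementary abelian section, normalised by `X_l`, on which `K_T ∩ C_G(V)` is trivial and the
  root group is quadratic;
* `Co.Sec.add_of` : if `[e, K_Z] ≤ R`, and `a`, `b`, `c ∈ X_l` map `e(1,0)` to `e(s,0)`, `e(t,0)`, `e(s+t,0)`, then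
  `e^c ≡ e^a e^b` modulo `R` and elements fixed by `X_l`;
* `EL V Z = ⟨E_T⟩`, `DL V Z = ⟨D_T⟩` : `EL` is elementary abelian, `DL` commutes with all `W_T`;
* `quad_line` (0), (1) : `[EL V, E_Y', E_Y'] = 1` for every line `L` on `Z` and `Y' ∈ L - Z`;
* `Co.weight` : **WEIGHT THEOREM**.
-/

set_option autoImplicit false
set_option linter.unusedSectionVars false

namespace Cfsg.Agent.Omega.NO3S.OneQ

open Subgroup Cfsg.Agent.Omega.NO3S.PT Cfsg.Agent.Omega.NoFF.Basic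
open Cfsg.Agent.ZN.Block (conj_mem_of_normalizer)
open scoped Pointwise

universe u

variable {G : Type u} [Group G]

namespace Co

variable [Finite G] {F : Type*} [Field F] [CharP F 2] {S : Sylow 2 G} {B P V Z : Subgroup G} (h : Co F S B P V Z)

/-! ### The action on coordinates -/

open Classical in
/-- coordinates of an element of `V` -/
noncomputable def pq (g : G) : F × F := if hg : ∃ p : F × F, h.e p.1 p.2 = g then hg.choose else 0

theorem pq_e (p : F × F) : h.pq (h.e p.1 p.2) = p := by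
  have hg : ∃ q : F × F, h.e q.1 q.2 = h.e p.1 p.2 := ⟨p, rfl⟩
  rw [pq, dif_pos hg]
  obtain ⟨h1, h2⟩ := h.e_inj hg.choose_spec
  exact Prod.ext h1 h2

theorem e_pq {g : G} (hg : g ∈ V) : h.e (h.pq g).1 (h.pq g).2 = g := by
  obtain ⟨a, b, rfl⟩ := (h.mem_V g).1 hg
  rw [h.pq_e (a, b)]

/-- the action of `X_l` on coordinates -/
noncomputable def wrho (g : XV V Z) (p : F × F) : F × F := h.pq ((g : G) * h.e p.1 p.2 * (g : G)⁻¹)

theorem e_wrho (g : XV V Z) (p : F × F) : h.e (h.wrho g p).1 (h.wrho g p).2 = (g : G) * h.e p.1 p.2 * (g : G)⁻¹ :=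
  h.e_pq ((mem_normalizer_iff.1 (h.one.pl.XV_le_N g.2) _).1 (h.e_memV _ _))

theorem wrho_eq {g : XV V Z} {p q : F × F} (hg : (g : G) * h.e p.1 p.2 * (g : G)⁻¹ = h.e q.1 q.2) : h.wrho g p = q := by
  rw [wrho, hg, h.pq_e]

theorem wrho_mul (g g' : XV V Z) (p : F × F) : h.wrho (g * g') p = h.wrho g (h.wrho g' p) := by
  apply h.wrho_eq
  rw [h.e_wrho, h.e_wrho, Subgroup.coe_mul]
  group

theorem wrho_one (p : F × F) : h.wrho 1 p = p := by
  apply h.wrho_eq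
  rw [Subgroup.coe_one, one_mul, inv_one, mul_one]

include h in
/-- `g` maps the point `X` onto the point `Y` -/
theorem cj_Z_Y {g : G} (hgN : g ∈ normalizer (V : Set G)) {X Y : Subgroup G} (hX : Pnt V Z X) (hY : Pnt V Z Y)
    (hg : ∀ z ∈ X, g * z * g⁻¹ ∈ Y) : PT.cj g X = Y := by
  obtain ⟨z, hz, hz1⟩ := h.one.pl.pt_ne_bot hX.cj
  have h1 := hX.conj hgN
  refine h.one.pl.pts_eq h1.cj hY.cj (conj_mem_cj hz) (hg z hz) ?_
  intro e
  apply hz1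
  rw [mul_inv_eq_one, mul_eq_left] at e
  exact e

theorem closure_K (g : XV V Z) :
    g ∈ Subgroup.closure ((((kx V Z).subgroupOf (XV V Z) : Subgroup (XV V Z)) : Set (XV V Z)) ∪
      (((kx V h.Yp).subgroupOf (XV V Z) : Subgroup (XV V Z)) : Set (XV V Z))) := by
  have hZ := h.one.self
  have hY := h.pY
  have key : XV V Z ≤ (Subgroup.closure ((((kx V Z).subgroupOf (XV V Z) : Subgroup (XV V Z)) : Set (XV V Z)) ∪
      (((kx V h.Yp).subgroupOf (XV V Z) : Subgroup (XV V Z)) : Set (XV V Z)))).map (XV V Z).subtype := by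
    set C := (Subgroup.closure ((((kx V Z).subgroupOf (XV V Z) : Subgroup (XV V Z)) : Set (XV V Z)) ∪
      (((kx V h.Yp).subgroupOf (XV V Z) : Subgroup (XV V Z)) : Set (XV V Z)))).map (XV V Z).subtype with hC
    have hZC : kx V Z ≤ C := by
      intro k hk
      refine ⟨⟨k, le_XV hZ.cj hZ.le hk⟩, subset_closure (Or.inl ?_), rfl⟩
      exact mem_subgroupOf.2 hk
    have hYC : kx V h.Yp ≤ C := by
      intro k hk
      refine ⟨⟨k, le_XV hY.cj hY.le hk⟩, subset_closure (Or.inr ?_), rfl⟩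
      exact mem_subgroupOf.2 hk
    refine sSup_le ?_
    rintro _ ⟨T, hT, hTV, rfl⟩
    by_cases hTZ : T = Z
    · subst hTZ
      exact hZC
    obtain ⟨k, hk, rfl⟩ := h.one.move hZ hY ⟨hT, hTV⟩ h.Yp_ne hTZ
    rw [kx_cj]
    intro x hx
    rw [mem_cj] at hx
    have h1 := mul_mem (mul_mem (hZC hk) (hYC hx)) (inv_mem (hZC hk))
    have e : k * (k⁻¹ * x * k) * k⁻¹ = x := by group
    rwa [e] at h1
  obtain ⟨x, hx, hxg⟩ := key g.2
  rwa [show x = g from Subtype.ext hxg] at hx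

/-- a quadratic section for `X_l` -/
structure Sec (W R : Subgroup G) : Prop where
  ab : ∀ a ∈ W, ∀ b ∈ W, a * b = b * a
  sq : ∀ a ∈ W, a * a = 1
  RW : R ≤ W
  NW : XV V Z ≤ normalizer (W : Set G)
  NR : XV V Z ≤ normalizer (R : Set G)
  triv : ∀ T, Pnt V Z T → ∀ k ∈ kx V T, k ∈ centralizer (V : Set G) → ∀ w ∈ W, k * w * k⁻¹ * w⁻¹ ∈ R
  quad : ∀ t t' : F, ∃ k ∈ kx V Z, ∃ k' ∈ kx V Z, (∀ x y, k * h.e x y * k⁻¹ = h.e (x + t * y) y) ∧
    (∀ x y, k' * h.e x y * k'⁻¹ = h.e (x + t' * y) y) ∧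
    ∀ w ∈ W, k' * (k * w * k⁻¹ * w⁻¹) * k'⁻¹ * (k * w * k⁻¹ * w⁻¹)⁻¹ ∈ R

variable {h}

theorem Sec.ok {W R : Subgroup G} (s : h.Sec W R) : WRep.Ok W R (XV V Z) := ⟨s.ab, s.RW, s.NW⟩

/-- the abstract quadratic module -/
theorem Sec.toQuad {W R : Subgroup G} (s : h.Sec W R) {M H : Type u} [AddCommGroup M] [Group H]
    [DistribMulAction H M] (r : WRep W R (XV V Z) M H) :
    letI := DistribMulAction.compHom M r.hom
    QuadNat.Quad F M h.wrho ((kx V Z).subgroupOf (XV V Z)) ((kx V h.Yp).subgroupOf (XV V Z)) := by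
  let _ := DistribMulAction.compHom M r.hom
  have hZ := h.one.self
  have hY := h.pY
  have hsm : ∀ (g : XV V Z) (w : G), w ∈ W → g • r.pi w = r.pi ((g : G) * w * (g : G)⁻¹) := fun g w hw =>
    r.act _ g.2 w hw
  have hcw : ∀ (g : XV V Z) (w : G), w ∈ W → (g : G) * w * (g : G)⁻¹ ∈ W := fun g w hw =>
    (mem_normalizer_iff.1 (s.NW g.2) w).1 hw
  -- elements of `K_T` centralising `V` are trivial
  have heq : ∀ T, Pnt V Z T → ∀ k : XV V Z, (k : G) ∈ kx V T → (∀ p, h.wrho k p = p) → ∀ a : M, k • a = a := by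
    intro T hT k hk hp a
    obtain ⟨w, hw, rfl⟩ := r.pi_surj a
    rw [hsm k w hw, r.pi_eq (hcw k w hw) hw]
    refine s.triv T hT k hk (h.mem_cent fun x y => ?_) w hw
    have := h.e_wrho k (x, y)
    rw [hp] at this
    exact this.symm
  -- `K_Z` is quadratic
  have hq : ∀ k k' : XV V Z, (k : G) ∈ kx V Z → (k' : G) ∈ kx V Z → ∀ a : M, k' • (k • a - a) = k • a - a := by
    intro k k' hk hk' a
    obtain ⟨t, ht⟩ := h.K_tv hk
    obtain ⟨t', ht'⟩ := h.K_tv hk'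
    obtain ⟨l, hl, l', hl', hlt, hlt', hll⟩ := s.quad t t'
    have hlX := le_XV hZ.cj hZ.le hl
    have hlX' := le_XV hZ.cj hZ.le hl'
    have same : ∀ (k l : G) (hk : k ∈ XV V Z) (hl : l ∈ XV V Z) (hkZ : k ∈ kx V Z) (hlZ : l ∈ kx V Z) (t : F),
        (∀ x y, k * h.e x y * k⁻¹ = h.e (x + t * y) y) → (∀ x y, l * h.e x y * l⁻¹ = h.e (x + t * y) y) →
        ∀ a : M, (⟨k, hk⟩ : XV V Z) • a = (⟨l, hl⟩ : XV V Z) • a := by
      intro k l hk hl hkZ hlZ t hkt hlt a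
      have h1 := heq Z hZ ((⟨l, hl⟩ : XV V Z)⁻¹ * ⟨k, hk⟩) (mul_mem (inv_mem hlZ) hkZ) (fun p => by
        apply h.wrho_eq
        have e : ((((⟨l, hl⟩ : XV V Z)⁻¹ * ⟨k, hk⟩ : XV V Z) : G)) = l⁻¹ * k := rfl
        rw [e]
        have e1 : l⁻¹ * k * h.e p.1 p.2 * (l⁻¹ * k)⁻¹ = l⁻¹ * (k * h.e p.1 p.2 * k⁻¹) * l := by group
        rw [e1, hkt, ← hlt]
        group) a
      rw [mul_smul, inv_smul_eq_iff] at h1
      exact h1
    have e1 := fun a => same k l k.2 hlX hk hl t ht hlt a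
    have e2 := fun a => same k' l' k'.2 hlX' hk' hl' t' ht' hlt' a
    have e1' : ∀ a : M, k • a = (⟨l, hlX⟩ : XV V Z) • a := e1
    have e2' : ∀ a : M, k' • a = (⟨l', hlX'⟩ : XV V Z) • a := e2
    rw [e1' a, e2']
    obtain ⟨w, hw, rfl⟩ := r.pi_surj a
    have h3 : (⟨l, hlX⟩ : XV V Z) • r.pi w - r.pi w = r.pi (l * w * l⁻¹ * w⁻¹) := by
      rw [r.pi_comm s.ok hlX hw]
      rfl
    have h4 : l * w * l⁻¹ * w⁻¹ ∈ W := mul_mem (hcw ⟨l, hlX⟩ w hw) (inv_mem hw)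
    rw [h3, hsm _ _ h4, r.pi_eq (hcw ⟨l', hlX'⟩ _ h4) h4]
    exact hll w hw
  obtain ⟨n, hn, hne⟩ := h.exists_n (one_ne_zero (α := F))
  have hne' : ∀ x y, n * h.e x y * n⁻¹ = h.e y x := fun x y => by rw [hne, one_mul, inv_one, one_mul]
  have hnZ : PT.cj n Z = h.Yp := h.cj_swap hne'
  exact
    { mul := h.wrho_mul
      one := h.wrho_one
      tv₁ := by
        intro k hk
        obtain ⟨t, ht⟩ := h.K_tv (mem_subgroupOf.1 hk)
        exact ⟨t, fun x y => h.wrho_eq (ht x y)⟩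
      tv₂ := by
        intro k hk
        obtain ⟨t, ht⟩ := h.K_tv' (mem_subgroupOf.1 hk)
        exact ⟨t, fun x y => h.wrho_eq (ht x y)⟩
      ex₁ := by
        intro t
        obtain ⟨k, hk, -, hke⟩ := h.exists_K t
        exact ⟨⟨k, le_XV hZ.cj hZ.le hk⟩, mem_subgroupOf.2 hk, fun x y => h.wrho_eq (hke x y)⟩
      ex₂ := by
        intro t
        obtain ⟨k, hk, hke⟩ := h.exists_K' t
        exact ⟨⟨k, le_XV hY.cj hY.le hk⟩, mem_subgroupOf.2 hk, fun x y => h.wrho_eq (hke x y)⟩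
      norm₁ := by
        intro g hg k hk
        have h1 : PT.cj (g : G) Z = Z := by
          refine h.cj_Z_Y (h.one.pl.XV_le_N g.2) hZ hZ fun z hz => ?_
          obtain ⟨a, rfl⟩ := (h.mem_Z z).1 hz
          rw [← h.e_wrho g (a, 0), h.e_memZ_iff]
          exact hg a
        have h2 := conj_mem_cj (g := (g : G)) (mem_subgroupOf.1 hk)
        rw [← kx_cj, h1] at h2
        exact mem_subgroupOf.2 h2
      swap₂ := by
        intro g hg k hk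
        have h1 : PT.cj (g : G) h.Yp = Z := by
          refine h.cj_Z_Y (h.one.pl.XV_le_N g.2) hY hZ fun z hz => ?_
          obtain ⟨a, rfl⟩ := h.mem_Yp.1 hz
          rw [← h.e_wrho g (0, a), h.e_memZ_iff]
          exact hg a
        have h2 := conj_mem_cj (g := (g : G)) (mem_subgroupOf.1 hk)
        rw [← kx_cj, h1] at h2
        exact mem_subgroupOf.2 h2
      swap₁ := by
        intro g hg k hk
        have h1 : PT.cj (g : G) Z = h.Yp := by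
          refine h.cj_Z_Y (h.one.pl.XV_le_N g.2) hZ hY fun z hz => ?_
          obtain ⟨a, rfl⟩ := (h.mem_Z z).1 hz
          have h2 := h.e_wrho g (a, 0)
          have h3 := hg a
          rw [← h2, h.mem_Yp]
          exact ⟨_, by rw [h3]⟩
        have h2 := conj_mem_cj (g := (g : G)) (mem_subgroupOf.1 hk)
        rw [← kx_cj, h1] at h2
        exact mem_subgroupOf.2 h2
      gen := h.closure_K
      eq₁ := fun k hk => heq Z hZ k (mem_subgroupOf.1 hk)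
      eq₂ := fun k hk => heq h.Yp hY k (mem_subgroupOf.1 hk)
      quad₁ := fun k hk k' hk' => hq k k' (mem_subgroupOf.1 hk) (mem_subgroupOf.1 hk')
      quad₂ := by
        intro k hk k' hk' a
        have hc : ∀ k : XV V Z, k ∈ (kx V h.Yp).subgroupOf (XV V Z) →
            (((⟨n, hn⟩ : XV V Z)⁻¹ * k * ⟨n, hn⟩ : XV V Z) : G) ∈ kx V Z := by
          intro k hk
          change n⁻¹ * (k : G) * n ∈ kx V Z
          rw [← mem_cj, ← kx_cj, hnZ]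
          exact mem_subgroupOf.1 hk
        have h1 := hq _ _ (hc k hk) (hc k' hk') ((⟨n, hn⟩ : XV V Z)⁻¹ • a)
        have h2 := congrArg (fun b : M => (⟨n, hn⟩ : XV V Z) • b) h1
        simp only [mul_smul, smul_sub, smul_inv_smul] at h2
        rw [smul_sub]
        exact h2
      two := by
        intro a
        obtain ⟨w, hw, rfl⟩ := r.pi_surj a
        rw [← r.pi_mul w hw w hw, s.sq w hw, r.pi_one] }

/-- **sections on which the root groups are quadratic** -/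
theorem Sec.add_of [Finite F] {W R : Subgroup G} (s : h.Sec W R) {e : G} (he : e ∈ W)
    (heK : ∀ k ∈ kx V Z, k * e * k⁻¹ * e⁻¹ ∈ R) {a b c : G} (ha : a ∈ XV V Z) (hb : b ∈ XV V Z) (hc : c ∈ XV V Z)
    {x y : F} (hax : a * h.e 1 0 * a⁻¹ = h.e x 0) (hby : b * h.e 1 0 * b⁻¹ = h.e y 0)
    (hcz : c * h.e 1 0 * c⁻¹ = h.e (x + y) 0) {g : G} (hg : g ∈ XV V Z) :
    g * (c * e * c⁻¹ * (a * e * a⁻¹) * (b * e * b⁻¹)) * g⁻¹ * (c * e * c⁻¹ * (a * e * a⁻¹) * (b * e * b⁻¹))⁻¹ ∈ R := by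
  obtain ⟨M, H, iM, -, iH, -, iA, -, ⟨r⟩⟩ := exists_wrep s.ab s.NW s.NR
  let _ := DistribMulAction.compHom M r.hom
  have hQ := s.toQuad r
  have hsm : ∀ (g : XV V Z) (w : G), w ∈ W → g • r.pi w = r.pi ((g : G) * w * (g : G)⁻¹) := fun g w hw =>
    r.act _ g.2 w hw
  have hcw : ∀ (g : G), g ∈ XV V Z → ∀ (w : G), w ∈ W → g * w * g⁻¹ ∈ W := fun g hg w hw =>
    (mem_normalizer_iff.1 (s.NW hg) w).1 hw
  have h1 := hQ.add_of (e := r.pi e) (a := ⟨a, ha⟩) (b := ⟨b, hb⟩) (c := ⟨c, hc⟩) (s := x) (t := y) (fun k hk => by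
    rw [hsm _ _ he, r.pi_eq (hcw _ k.2 _ he) he]
    exact heK k (mem_subgroupOf.1 hk)) (h.wrho_eq hax) (h.wrho_eq hby) (h.wrho_eq hcz)
  have h2 : r.pi (c * e * c⁻¹ * (a * e * a⁻¹) * (b * e * b⁻¹)) =
      (⟨c, hc⟩ : XV V Z) • r.pi e - ((⟨a, ha⟩ : XV V Z) • r.pi e + (⟨b, hb⟩ : XV V Z) • r.pi e) := by
    rw [hQ.sub_eq, hsm _ _ he, hsm _ _ he, hsm _ _ he, r.pi_mul _ (mul_mem (hcw c hc e he) (hcw a ha e he)) _
      (hcw b hb e he), r.pi_mul _ (hcw c hc e he) _ (hcw a ha e he), add_assoc]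
  have hw : c * e * c⁻¹ * (a * e * a⁻¹) * (b * e * b⁻¹) ∈ W :=
    mul_mem (mul_mem (hcw c hc e he) (hcw a ha e he)) (hcw b hb e he)
  rw [← r.pi_eq (hcw g hg _ hw) hw, ← hsm ⟨g, hg⟩ _ hw, h2]
  exact h1 ⟨g, hg⟩

end Co

end Cfsg.Agent.Omega.NO3S.OneQ

end

section


/-!
# NO-3S, `OneQ`: the WEIGHT THEOREM for `E_Z / D_Z` (bb OMEGA #18875 (0), (1), (3), (4))

* `EL V Z = ⟨E_T⟩`, `DL V Z = ⟨D_T⟩` (`T` a point of `V`): `EL` is elementary abelian, `DL ≤ EL` commutes with all `W_T`;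
* `One.quad_line` : `[EL V, E_Y', E_Y'] = 1` for every line `L` on `Z` and `Y' ∈ L - Z`;
* `One.full` : if `[v, W_Y'] ≰ L` for some `v ∈ V`, then `{[v, k] | k ∈ E_Y'} = Z`;
* `Co.secE` : `EL / DL` is a quadratic section for `X_l` unless `[W_Z, W_Y] ≤ V`;
* `Co.weight` : **WEIGHT THEOREM** : `e ∈ E_Z`, `[W_Z, W_Y] ≰ V` ==> `e^{h(s+t)} ≡ e^{h(s)} e^{h(t)}` modulo `D_Z`;
* `Co.secD`, `Co.weightD` : the same for `D_Z / I`, if `⟨K_T ∩ C_G(V)⟩` is trivial on `DL / I`.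
-/

set_option autoImplicit false
set_option linter.unusedSectionVars false

namespace Cfsg.Agent.Omega.NO3S.OneQ

open Subgroup Cfsg.Agent.Omega.NO3S.PT Cfsg.Agent.Omega.NoFF.Basic
open scoped Pointwise

universe u

variable {G : Type u} [Group G]

/-- `⟨E_T⟩` -/
def EL (V Z : Subgroup G) : Subgroup G := sSup {K | ∃ T, Pnt V Z T ∧ K = ee V Z T}

/-- `⟨D_T⟩` -/
def DL (V Z : Subgroup G) : Subgroup G := sSup {K | ∃ T, Pnt V Z T ∧ K = dd V Z T}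

theorem ee_le_EL {V Z T : Subgroup G} (hT : Pnt V Z T) : ee V Z T ≤ EL V Z := le_sSup ⟨T, hT, rfl⟩

theorem dd_le_DL {V Z T : Subgroup G} (hT : Pnt V Z T) : dd V Z T ≤ DL V Z := le_sSup ⟨T, hT, rfl⟩

theorem norm_EL (V Z : Subgroup G) : normalizer (V : Set G) ≤ normalizer ((EL V Z : Subgroup G) : Set G) := by
  have key : ∀ g ∈ normalizer (V : Set G), PT.cj g (EL V Z) ≤ EL V Z := by
    intro g hg
    rw [cj_le_iff]
    refine sSup_le ?_
    rintro _ ⟨T, hT, rfl⟩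
    rw [le_cj_iff, inv_inv, cj_ee hg]
    exact ee_le_EL (hT.conj hg)
  intro g hg
  rw [← cj_eq_iff]
  refine le_antisymm (key g hg) ?_
  rw [le_cj_iff]
  exact key _ (inv_mem hg)

theorem norm_DL (V Z : Subgroup G) : normalizer (V : Set G) ≤ normalizer ((DL V Z : Subgroup G) : Set G) := by
  have key : ∀ g ∈ normalizer (V : Set G), PT.cj g (DL V Z) ≤ DL V Z := by
    intro g hg
    rw [cj_le_iff]
    refine sSup_le ?_
    rintro _ ⟨T, hT, rfl⟩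
    rw [le_cj_iff, inv_inv, cj_dd hg]
    exact dd_le_DL (hT.conj hg)
  intro g hg
  rw [← cj_eq_iff]
  refine le_antisymm (key g hg) ?_
  rw [le_cj_iff]
  exact key _ (inv_mem hg)

/-- `{w ∈ W | [k, w] ∈ R}`, `W` abelian, `k ∈ N(W)` -/
def cR (k : G) (W R : Subgroup G) (hab : ∀ a ∈ W, ∀ b ∈ W, a * b = b * a) (hk : k ∈ normalizer (W : Set G)) :
    Subgroup G where
  carrier := {w | w ∈ W ∧ k * w * k⁻¹ * w⁻¹ ∈ R}
  one_mem' := ⟨one_mem _, by simp⟩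
  mul_mem' := by
    rintro a b ⟨ha, ha1⟩ ⟨hb, hb1⟩
    refine ⟨mul_mem ha hb, ?_⟩
    have h1 : k * b * k⁻¹ * b⁻¹ ∈ W := mul_mem ((mem_normalizer_iff.1 hk b).1 hb) (inv_mem hb)
    have e : k * (a * b) * k⁻¹ * (a * b)⁻¹ = k * a * k⁻¹ * a⁻¹ * (a * (k * b * k⁻¹ * b⁻¹) * a⁻¹) := by group
    rw [e, hab a ha _ h1, mul_inv_cancel_right]
    exact mul_mem ha1 hb1
  inv_mem' := by
    rintro a ⟨ha, ha1⟩
    refine ⟨inv_mem ha, ?_⟩
    have h1 : k * a * k⁻¹ * a⁻¹ ∈ W := mul_mem ((mem_normalizer_iff.1 hk a).1 ha) (inv_mem ha)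
    have e : k * a⁻¹ * k⁻¹ * a⁻¹⁻¹ = a⁻¹ * (k * a * k⁻¹ * a⁻¹)⁻¹ * a := by group
    rw [e, hab _ (inv_mem ha) _ (inv_mem h1), inv_mul_cancel_right]
    exact inv_mem ha1

namespace One

variable [Finite G] {S : Sylow 2 G} {B P V Z : Subgroup G} (h : One S B P V Z)
include h

theorem EL_ab : ∀ a ∈ EL V Z, ∀ b ∈ EL V Z, a * b = b * a := by
  have key : EL V Z ≤ centralizer ((EL V Z : Subgroup G) : Set G) := by
    refine sSup_le ?_
    rintro _ ⟨T, hT, rfl⟩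
    rw [le_centralizer_iff]
    refine sSup_le ?_
    rintro _ ⟨T', hT', rfl⟩
    intro a ha
    rw [mem_centralizer_iff]
    intro b hb
    by_cases e : T' = T
    · subst e
      exact h.comm_W hT.cj hb.1 ha.1
    · exact (h.ee_comm hT' hT e ha hb).symm
  intro a ha b hb
  exact ((mem_centralizer_iff.1 (key ha)) b hb).symm

theorem EL_sq : ∀ a ∈ EL V Z, a * a = 1 := by
  let Q : Subgroup G :=
    { carrier := {a | a ∈ EL V Z ∧ a * a = 1}
      one_mem' := ⟨one_mem _, one_mul _⟩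
      mul_mem' := by
        rintro a b ⟨ha, ha1⟩ ⟨hb, hb1⟩
        refine ⟨mul_mem ha hb, ?_⟩
        have e : a * b * (a * b) = a * (b * a) * b := by group
        rw [e, ← h.EL_ab a ha b hb]
        have e1 : a * (a * b) * b = a * a * (b * b) := by group
        rw [e1, ha1, hb1, one_mul]
      inv_mem' := by
        rintro a ⟨ha, ha1⟩
        refine ⟨inv_mem ha, ?_⟩
        rw [← mul_inv_rev, ha1, inv_one] }
  have key : EL V Z ≤ Q := by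
    refine sSup_le ?_
    rintro _ ⟨T, hT, rfl⟩
    exact fun a ha => ⟨ee_le_EL hT ha, h.sq_W hT ha.1⟩
  exact fun a ha => (key ha).2

theorem DL_le : DL V Z ≤ EL V Z := by
  refine sSup_le ?_
  rintro _ ⟨T, hT, rfl⟩
  exact (h.dd_le_ee hT).trans (ee_le_EL hT)

theorem V_le_DL : V ≤ DL V Z := (h.pl.V_le_IV.trans (h.I_le_dd h.self)).trans (dd_le_DL h.self)

/-- `DL` commutes with all `W_T` -/
theorem DL_comm {T : Subgroup G} (hT : Pnt V Z T) {d w : G} (hd : d ∈ DL V Z) (hw : w ∈ ws V T) : d * w = w * d := by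
  have key : DL V Z ≤ centralizer ((ws V T : Subgroup G) : Set G) := by
    refine sSup_le ?_
    rintro _ ⟨T', hT', rfl⟩
    intro a ha
    rw [mem_centralizer_iff]
    intro b hb
    by_cases e : T' = T
    · subst e
      exact h.comm_W hT.cj hb ha.1
    · exact (h.dd_comm hT (fun e' => e e'.symm) ha hb).symm
  exact ((mem_centralizer_iff.1 (key hd)) w hw).symm

/-- `K_T ∩ C_G(V)` is trivial on `EL / DL` -/
theorem triv_E {T : Subgroup G} (hT : Pnt V Z T) {k : G} (hk : k ∈ kx V T) (hkV : k ∈ centralizer (V : Set G)) :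
    ∀ w ∈ EL V Z, k * w * k⁻¹ * w⁻¹ ∈ DL V Z := by
  have hkN : k ∈ normalizer ((EL V Z : Subgroup G) : Set G) :=
    norm_EL V Z (centralizer_le_normalizer _ hkV)
  have key : EL V Z ≤ cR k (EL V Z) (DL V Z) h.EL_ab hkN := by
    refine sSup_le ?_
    rintro _ ⟨X, hX, rfl⟩
    exact fun w hw => ⟨ee_le_EL hX hw, dd_le_DL hX (h.kx_dd hX hT hk hkV hw)⟩
  exact fun w hw => (key hw).2

/-- **(1)** -/
theorem quad_line {L Y : Subgroup G} (hL : IsCj V L) (hZL : Z ≤ L) (hY : Pnt L Z Y) (hne : Y ≠ Z) {k : G}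
    (hk : k ∈ ee L Z Y) : ∀ w ∈ EL V Z, k * w * k⁻¹ * w⁻¹ ∈ EL L Z := by
  obtain ⟨T, C, Q, h'⟩ := h.flag hL h.pl.isCj_self hZL
  have hkZ : k ∈ kx V Z := by
    have := (mem_ee.1 hk).2 Z h'.self hne.symm
    rwa [kx_line hL] at this
  have hkN : k ∈ normalizer ((EL V Z : Subgroup G) : Set G) := norm_EL V Z (h.K_norm h.self hkZ)
  have hkL : k ∈ EL L Z := ee_le_EL hY hk
  have key : EL V Z ≤ cR k (EL V Z) (EL L Z) h.EL_ab hkN := by
    refine sSup_le ?_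
    rintro _ ⟨X, hX, rfl⟩
    intro w hw
    refine ⟨ee_le_EL hX hw, ?_⟩
    by_cases hXZ : X = Z
    · subst hXZ
      exact h'.DL_le (h'.V_le_DL (hZL ((mem_kx.1 hkZ).2 w hw.1)))
    · have hwZ : w ∈ kx V Z := (mem_ee.1 hw).2 Z h.self (fun e => hXZ e.symm)
      have hwL : w ∈ normalizer ((EL L Z : Subgroup G) : Set G) := by
        refine norm_EL L Z (h'.K_norm h'.self ?_)
        rw [kx_line hL]
        exact hwZ
      have e : k * w * k⁻¹ * w⁻¹ = k * (w * k⁻¹ * w⁻¹) := by group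
      rw [e]
      exact mul_mem hkL ((mem_normalizer_iff.1 hwL _).1 (inv_mem hkL))
  exact fun w hw => (key hw).2

/-- **(3)** -/
theorem full {L Y : Subgroup G} (hL : IsCj V L) (hZL : Z ≤ L) (hY : Pnt L Z Y) (hne : Y ≠ Z) {v : G} (hv : v ∈ V)
    {w : G} (hw : w ∈ ws V Y) (hvw : v * w * v⁻¹ * w⁻¹ ∉ L) {z : G} (hz : z ∈ Z) :
    ∃ k ∈ ee L Z Y, k * v * k⁻¹ * v⁻¹ = z := by
  obtain ⟨T, C, Q, h'⟩ := h.flag hL h.pl.isCj_self hZL
  have hvW : v ∈ ws L Z := by rw [ws_line hL]; exact h.V_le_W h.self hv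
  have hwW : w ∈ ws L Y := by rw [ws_line hL]; exact hw
  have hcI := h'.comm_mem h'.self hY hne.symm hvW hwW
  obtain ⟨d, hd, hdL, hdc⟩ := h'.pl.F2' h'.hf h'.hO hcI hvw h'.self.cj h'.self.le (Z.inv_mem hz)
  -- `c = [v, w]`, `d v d⁻¹ = x v`, `d w d⁻¹ = k w`
  set c := v * w * v⁻¹ * w⁻¹ with hc
  have hx : d * v * d⁻¹ * v⁻¹ ∈ Z := (mem_kx.1 hd).2 v hvW
  have hk : d * w * d⁻¹ * w⁻¹ ∈ ee L Z Y := h'.kx_ee hY h'.self hd hdL hwW
  refine ⟨d * w * d⁻¹ * w⁻¹, hk, ?_⟩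
  set x := d * v * d⁻¹ * v⁻¹ with hxd
  set k := d * w * d⁻¹ * w⁻¹ with hkd
  have e1 : d * v * d⁻¹ = x * v := by rw [hxd]; group
  have e2 : d * w * d⁻¹ = k * w := by rw [hkd]; group
  -- `x` commutes with everything in sight
  have hkW : k ∈ ws L Y := hk.1
  have hxL : x ∈ L := hZL hx
  have hxw : ∀ u ∈ ws L Y, x * u = u * x := fun u hu => h'.comm_W hY.cj (h'.V_le_W hY hxL) hu
  have hxc : x * c = c * x := (h'.cent_V (h'.I_le_cent hcI) hxL).symm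
  have hck : c * k = k * c := h'.I_comm_W hY hcI hkW
  have hxv : x * v = v * x := h'.comm_W h'.self.cj (h'.V_le_W h'.self hxL) hvW
  have h1 : d * c * d⁻¹ = x * v * (k * w) * (x * v)⁻¹ * (k * w)⁻¹ := by
    rw [← e1, ← e2, hc]; group
  have h2 : x * v * (k * w) * (x * v)⁻¹ * (k * w)⁻¹ = v * k * v⁻¹ * k⁻¹ * c := by
    have hkw : k * w ∈ ws L Y := mul_mem hkW hwW
    have hxkw := hxw _ hkw
    have a1 : x * v * (k * w) * (x * v)⁻¹ * (k * w)⁻¹ = v * (x * (k * w) * x⁻¹) * v⁻¹ * (k * w)⁻¹ := by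
      rw [hxv]; group
    rw [a1, hxkw, mul_inv_cancel_right]
    have a2 : v * (k * w) * v⁻¹ * (k * w)⁻¹ = v * k * v⁻¹ * (v * w * v⁻¹ * w⁻¹) * k⁻¹ := by group
    rw [a2, ← hc]
    have a3 : v * k * v⁻¹ * c * k⁻¹ = v * k * v⁻¹ * (c * k⁻¹) := by group
    have a4 : c * k⁻¹ = k⁻¹ * c := by
      rw [eq_inv_mul_iff_mul_eq, ← mul_assoc, ← hck, mul_inv_cancel_right]
    rw [a3, a4]
    group
  have h3 : d * c * d⁻¹ * c⁻¹ = v * k * v⁻¹ * k⁻¹ := by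
    rw [h1, h2]; group
  have h4 : v * k * v⁻¹ * k⁻¹ = z⁻¹ := by rw [← h3]; exact hdc
  have h5 := congrArg (·⁻¹) h4
  simp only [inv_inv] at h5
  rw [← h5]
  group

end One

namespace Co

variable [Finite G] {F : Type*} [Field F] [CharP F 2] {S : Sylow 2 G} {B P V Z : Subgroup G} (h : Co F S B P V Z)
include h

/-- some line `L` on `Z` with `[V, W_Y'] ≰ L` -/
theorem exists_line (hNT : ¬ ws V Z ≤ n0 V Z Z) :
    ∃ L Y, IsCj V L ∧ Z ≤ L ∧ Pnt L Z Y ∧ Y ≠ Z ∧ ∃ u ∈ V, ∃ w ∈ ws V Y, u * w * u⁻¹ * w⁻¹ ∉ L := by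
  by_contra hcon
  push Not at hcon
  apply hNT
  obtain ⟨Y, hY, hYZ⟩ := h.one.exists_ne h.one.self
  intro w hw
  refine h.one.n0_eq h.one.self hY hYZ hw fun b hb => ?_
  have hbN : b ∈ normalizer ((ws V Z : Subgroup G) : Set G) :=
    h.one.cent_norm_W h.one.self (h.one.W_le_cent hY hb)
  have hab : ∀ a ∈ ws V Z, ∀ b ∈ ws V Z, a * b = b * a := fun a ha b hb => h.one.comm_W h.one.self.cj ha hb
  have key : ws V Z ≤ cR b (ws V Z) V hab hbN := by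
    refine ws_le fun L hL hZL => ?_
    obtain ⟨c, hc, rfl⟩ := h.line_eq hL hZL
    intro u hu
    refine ⟨le_ws hL hZL hu, ?_⟩
    rw [mem_cj] at hu
    have hcZ : PT.cj c⁻¹ Z = Z := cj_eq_iff.2 (inv_mem (centralizer_le_normalizer _ hc))
    have h1 : Z ≤ PT.cj c⁻¹ V := by
      have := cj_le_cj (g := c⁻¹).2 h.one.pl.ZV
      rwa [hcZ] at this
    have h2 : Pnt (PT.cj c⁻¹ V) Z (PT.cj c⁻¹ Y) := ⟨hY.cj.cj _, cj_le_cj.2 hY.le⟩
    have h3 : PT.cj c⁻¹ Y ≠ Z := by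
      intro e
      rw [← hcZ, cj_inj] at e
      exact hYZ e
    have h4 : c⁻¹ * b * c ∈ ws V (PT.cj c⁻¹ Y) := by
      rw [ws_cj, mem_cj, inv_inv]
      have e : c * (c⁻¹ * b * c) * c⁻¹ = b := by group
      rwa [e]
    have h5 := hcon _ _ ⟨c⁻¹, rfl⟩ h1 h2 h3 _ hu _ h4
    rw [mem_cj, inv_inv] at h5
    have h6 := inv_mem h5
    have e : (c * (c⁻¹ * u * c * (c⁻¹ * b * c) * (c⁻¹ * u * c)⁻¹ * (c⁻¹ * b * c)⁻¹) * c⁻¹)⁻¹ =
      b * u * b⁻¹ * u⁻¹ := by group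
    rwa [e] at h6
  have h1 := inv_mem (key hw).2
  have e : (b * w * b⁻¹ * w⁻¹)⁻¹ = w * b * w⁻¹ * b⁻¹ := by group
  rwa [e] at h1

/-- a line `L` on `Z` and `Y' ∈ L` such that `E_Y'` induces the whole root group on `V` -/
theorem exists_full (hNT : ¬ ws V Z ≤ n0 V Z Z) :
    ∃ L Y, IsCj V L ∧ Z ≤ L ∧ Pnt L Z Y ∧ Y ≠ Z ∧
      ∀ t : F, ∃ k ∈ ee L Z Y, k ∈ kx V Z ∧ ∀ x y, k * h.e x y * k⁻¹ = h.e (x + t * y) y := by
  obtain ⟨L, Y, hL, hZL, hY, hne, u, hu, w, hw, huw⟩ := h.exists_line hNT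
  refine ⟨L, Y, hL, hZL, hY, hne, fun t => ?_⟩
  obtain ⟨T, C, Q, h'⟩ := h.one.flag hL h.one.pl.isCj_self hZL
  obtain ⟨a, b, rfl⟩ := (h.mem_V u).1 hu
  have hb : b ≠ 0 := by
    rintro rfl
    apply huw
    have h1 : h.e a 0 ∈ L := hZL (h.e_memZ a)
    have hwW : w ∈ ws L Y := by rw [ws_line hL]; exact hw
    rw [h'.comm_W hY.cj (h'.V_le_W hY h1) hwW, mul_inv_cancel_right, mul_inv_cancel]
    exact one_mem _
  obtain ⟨k, hk, hkv⟩ := h.one.full hL hZL hY hne hu hw huw (h.e_memZ (t * b))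
  have hkZ : k ∈ kx V Z := by
    have := (mem_ee.1 hk).2 Z h'.self hne.symm
    rwa [kx_line hL] at this
  refine ⟨k, hk, hkZ, ?_⟩
  obtain ⟨s, hs⟩ := h.K_tv hkZ
  rw [hs, h.e_inv, ← h.e_add, CharTwo.add_self_eq_zero, add_right_comm, CharTwo.add_self_eq_zero, zero_add] at hkv
  obtain ⟨h1, -⟩ := h.e_inj hkv
  rw [mul_left_inj' hb] at h1
  rw [← h1]
  exact hs

/-- **`EL / DL` is a quadratic section** -/
theorem secE (hNT : ¬ ws V Z ≤ n0 V Z Z) : h.Sec (EL V Z) (DL V Z) where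
  ab := h.one.EL_ab
  sq := h.one.EL_sq
  RW := h.one.DL_le
  NW := h.one.pl.XV_le_N.trans (norm_EL V Z)
  NR := h.one.pl.XV_le_N.trans (norm_DL V Z)
  triv := fun T hT k hk hkV => h.one.triv_E hT hk hkV
  quad := by
    obtain ⟨L, Y, hL, hZL, hY, hne, hf⟩ := h.exists_full hNT
    obtain ⟨T, C, Q, h'⟩ := h.one.flag hL h.one.pl.isCj_self hZL
    intro t t'
    obtain ⟨k, hk, hkZ, hkt⟩ := hf t
    obtain ⟨k', hk', hkZ', hkt'⟩ := hf t'
    refine ⟨k, hkZ, k', hkZ', hkt, hkt', fun w hw => ?_⟩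
    rw [h'.EL_ab k' (ee_le_EL hY hk') _ (h.one.quad_line hL hZL hY hne hk w hw), mul_inv_cancel_right, mul_inv_cancel]
    exact one_mem _

/-- `DL` is quadratic modulo `I`, if `⟨K_T ∩ C_G(V)⟩` is trivial on `DL / I` -/
theorem secD (hNT : ¬ ws V Z ≤ n0 V Z Z)
    (hJ : ∀ T, Pnt V Z T → ∀ k ∈ kx V T, k ∈ centralizer (V : Set G) → ∀ w ∈ DL V Z, k * w * k⁻¹ * w⁻¹ ∈ IV V Z) :
    h.Sec (DL V Z) (IV V Z) where
  ab := fun a ha b hb => h.one.EL_ab a (h.one.DL_le ha) b (h.one.DL_le hb)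
  sq := fun a ha => h.one.EL_sq a (h.one.DL_le ha)
  RW := (h.one.I_le_dd h.one.self).trans (dd_le_DL h.one.self)
  NW := h.one.pl.XV_le_N.trans (norm_DL V Z)
  NR := h.one.pl.XV_le_N.trans (normalizer_le_IV V Z)
  triv := hJ
  quad := by
    obtain ⟨L, Y, hL, hZL, hY, hne, hf⟩ := h.exists_full hNT
    obtain ⟨T, C, Q, h'⟩ := h.one.flag hL h.one.pl.isCj_self hZL
    intro t t'
    obtain ⟨k, hk, hkZ, hkt⟩ := hf t
    obtain ⟨k', hk', hkZ', hkt'⟩ := hf t'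
    refine ⟨k, hkZ, k', hkZ', hkt, hkt', fun w hw => ?_⟩
    rw [h'.EL_ab k' (ee_le_EL hY hk') _ (h.one.quad_line hL hZL hY hne hk w (h.one.DL_le hw)), mul_inv_cancel_right,
      mul_inv_cancel]
    exact one_mem _

/-- `a e(1,0) a⁻¹ = e(x,0)` implies `Z^a = Z` -/
theorem cj_Z_of_one {a : G} (ha : a ∈ XV V Z) {x : F} (hax : a * h.e 1 0 * a⁻¹ = h.e x 0) : PT.cj a Z = Z := by
  have h1 := h.one.self.conj (h.one.pl.XV_le_N ha)
  refine h.one.pl.pts_eq h1.cj h.one.self.cj (conj_mem_cj (h.e_memZ 1)) (by rw [hax]; exact h.e_memZ x) ?_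
  intro e
  rw [mul_inv_eq_one, mul_eq_left, h.e_eq_one] at e
  exact one_ne_zero e.1

/-- **WEIGHT THEOREM** -/
theorem weight [Finite F] (hNT : ¬ ws V Z ≤ n0 V Z Z) {e : G} (he : e ∈ ee V Z Z) {a b c : G}
    (ha : a ∈ XV V Z) (hb : b ∈ XV V Z) (hc : c ∈ XV V Z) {x y : F} (hax : a * h.e 1 0 * a⁻¹ = h.e x 0)
    (hby : b * h.e 1 0 * b⁻¹ = h.e y 0) (hcz : c * h.e 1 0 * c⁻¹ = h.e (x + y) 0) :
    c * e * c⁻¹ * (a * e * a⁻¹) * (b * e * b⁻¹) ∈ dd V Z Z := by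
  have hZ := h.one.self
  have hY := h.pY
  have hconj : ∀ {g : G} {x : F}, g ∈ XV V Z → g * h.e 1 0 * g⁻¹ = h.e x 0 → g * e * g⁻¹ ∈ ee V Z Z := by
    intro g x hg hgx
    have h1 := conj_mem_cj (g := g) he
    rwa [cj_ee (h.one.pl.XV_le_N hg), h.cj_Z_of_one hg hgx] at h1
  have hr := mul_mem (mul_mem (hconj hc hcz) (hconj ha hax)) (hconj hb hby)
  obtain ⟨n, hn, hne⟩ := h.exists_n (one_ne_zero (α := F))
  have hnZ : PT.cj n Z = h.Yp := h.cj_swap fun x y => by rw [hne, one_mul, inv_one, one_mul]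
  have h1 := (h.secE hNT).add_of (ee_le_EL hZ he)
    (fun k hk => dd_le_DL hZ (h.one.X_le_dd hZ ((mem_kx.1 hk).2 e he.1))) ha hb hc hax hby hcz hn
  set r := c * e * c⁻¹ * (a * e * a⁻¹) * (b * e * b⁻¹) with hrd
  have h2 : n * r * n⁻¹ ∈ ee V Z h.Yp := by
    have h3 := conj_mem_cj (g := n) hr
    rwa [cj_ee (h.one.pl.XV_le_N hn), hnZ] at h3
  have h3 : n * r * n⁻¹ ∈ dd V Z h.Yp := by
    refine h.one.mem_dd_of hY hZ h.Yp_ne.symm h2.1 fun u hu => ?_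
    have e1 : n * r * n⁻¹ = n * r * n⁻¹ * r⁻¹ * r := by group
    rw [e1, mul_assoc, h.one.comm_W hZ.cj hr.1 hu, ← mul_assoc, h.one.DL_comm hZ h1 hu, mul_assoc]
  have h4 : r ∈ DL V Z := by
    have e1 : r = (n * r * n⁻¹ * r⁻¹)⁻¹ * (n * r * n⁻¹) := by group
    rw [e1]
    exact mul_mem (inv_mem h1) (dd_le_DL hY h3)
  exact h.one.mem_dd_of hZ hY h.Yp_ne hr.1 fun u hu => h.one.DL_comm hY h4 hu

/-- the WEIGHT THEOREM for `D_Z / I` -/
theorem weightD [Finite F] (hNT : ¬ ws V Z ≤ n0 V Z Z)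
    (hJ : ∀ T, Pnt V Z T → ∀ k ∈ kx V T, k ∈ centralizer (V : Set G) → ∀ w ∈ DL V Z, k * w * k⁻¹ * w⁻¹ ∈ IV V Z)
    {e : G} (he : e ∈ dd V Z Z) {a b c : G}
    (ha : a ∈ XV V Z) (hb : b ∈ XV V Z) (hc : c ∈ XV V Z) {x y : F} (hax : a * h.e 1 0 * a⁻¹ = h.e x 0)
    (hby : b * h.e 1 0 * b⁻¹ = h.e y 0) (hcz : c * h.e 1 0 * c⁻¹ = h.e (x + y) 0) :
    c * e * c⁻¹ * (a * e * a⁻¹) * (b * e * b⁻¹) ∈ IV V Z := by
  have hZ := h.one.self
  have hY := h.pY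
  have hconj : ∀ {g : G} {x : F}, g ∈ XV V Z → g * h.e 1 0 * g⁻¹ = h.e x 0 → g * e * g⁻¹ ∈ dd V Z Z := by
    intro g x hg hgx
    have h1 := conj_mem_cj (g := g) he
    rwa [cj_dd (h.one.pl.XV_le_N hg), h.cj_Z_of_one hg hgx] at h1
  have hr := mul_mem (mul_mem (hconj hc hcz) (hconj ha hax)) (hconj hb hby)
  obtain ⟨n, hn, hne⟩ := h.exists_n (one_ne_zero (α := F))
  have hnZ : PT.cj n Z = h.Yp := h.cj_swap fun x y => by rw [hne, one_mul, inv_one, one_mul]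
  have h1 := (h.secD hNT hJ).add_of (dd_le_DL hZ he)
    (fun k hk => h.one.pl.V_le_IV (h.one.pl.ZV ((mem_kx.1 hk).2 e he.1))) ha hb hc hax hby hcz hn
  set r := c * e * c⁻¹ * (a * e * a⁻¹) * (b * e * b⁻¹) with hrd
  have h2 : n * r * n⁻¹ ∈ dd V Z h.Yp := by
    have h3 := conj_mem_cj (g := n) hr
    rwa [cj_dd (h.one.pl.XV_le_N hn), hnZ] at h3
  rw [← h.one.pl.IV_eq h.one.hf hZ.cj hZ.le hY.cj hY.le h.Yp_ne.symm]
  have h5 : r ∈ ws V h.Yp := by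
    have e1 : r = (n * r * n⁻¹ * r⁻¹)⁻¹ * (n * r * n⁻¹) := by group
    rw [e1]
    exact (ws V h.Yp).mul_mem ((ws V h.Yp).inv_mem (h.one.I_le_W hY h1)) h2.1
  exact ⟨hr.1, h5⟩

end Co

end Cfsg.Agent.Omega.NO3S.OneQ

end
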