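import Cfsg.Agent.Mrg.Omega.NO3S.OneQ.PlaneEnd
import Cfsg.Agent.Mrg.Omega.NO3S.OneQ.Weight
import Cfsg.Agent.Mrg.Omega.NO3S.OneQ.Fix


/-!
# NO-3S, critical distance 1: S-pairs and `D_X / I` (bb OMEGA #20317 (A))

`SP V Z L M X Y Q` : `L`, `M` are lines on the point `X`, `Y ≠ X` a point of `L`, `Q ≠ X` a point of `M`,
`Q ≰ E_X(L)`, `Y ≰ E_X(M)`. Hypothesis (N): `hN : w1 V Z Z ≤ ee V Z Z`, i.e. `C_{W_X}(E_Y) = E_X`.

* `One.asym` : `Q ≰ E_X(L)` implies `[Y, W_Q] ≠ 1`;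
* `SP.star` : `D_X(L) ≤ I_L (D_X(L) ∩ I_M)`;
* `SP.triv` : `[K_X ∩ C_G(L), D_Y(L)] ≤ I_L`; `SP.hJ` : `[K_T ∩ C_G(V), ⟨D_R⟩] ≤ I` (the hypothesis of `Co.weightD`);
* `SP.semi` : the torus is semiregular on `D_Z / I`;
* **`SP.I_smul`** : the image of `I` in `MF` is closed under scalars.
-/

set_option autoImplicit false
set_option linter.unusedSectionVars false

namespace Cfsg.Agent.Omega.NO3S.OneQ

open Subgroup Cfsg.Agent.Omega.NO3S.PT Cfsg.Agent.Omega.NoFF.Basic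
open scoped Pointwise

variable {G : Type*} [Group G]

/-- an S-pair of lines `L`, `M` on `X` -/
structure SP (V Z L M X Y Q : Subgroup G) : Prop where
  hL : IsCj V L
  hM : IsCj V M
  hX : IsCj Z X
  hXL : X ≤ L
  hXM : X ≤ M
  hY : IsCj Z Y
  hYL : Y ≤ L
  hYX : Y ≠ X
  hQ : IsCj Z Q
  hQM : Q ≤ M
  hQX : Q ≠ X
  s1 : ∃ q ∈ Q, q ∉ ee L Z X
  s2 : ∃ y ∈ Y, y ∉ ee M Z X

theorem SP.symm {V Z L M X Y Q : Subgroup G} (h : SP V Z L M X Y Q) : SP V Z M L X Q Y :=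
  ⟨h.hM, h.hL, h.hX, h.hXM, h.hXL, h.hQ, h.hQM, h.hQX, h.hY, h.hYL, h.hYX, h.s2, h.s1⟩

theorem SP.conj {V Z L M X Y Q : Subgroup G} (h : SP V Z L M X Y Q) (g : G) :
    SP V Z (PT.cj g L) (PT.cj g M) (PT.cj g X) (PT.cj g Y) (PT.cj g Q) where
  hL := h.hL.cj g
  hM := h.hM.cj g
  hX := h.hX.cj g
  hXL := cj_le_cj.2 h.hXL
  hXM := cj_le_cj.2 h.hXM
  hY := h.hY.cj g
  hYL := cj_le_cj.2 h.hYL
  hYX := fun e => h.hYX (cj_inj.1 e)
  hQ := h.hQ.cj g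
  hQM := cj_le_cj.2 h.hQM
  hQX := fun e => h.hQX (cj_inj.1 e)
  s1 := by
    obtain ⟨q, hq, hqE⟩ := h.s1
    refine ⟨g * q * g⁻¹, conj_mem_cj hq, fun e => hqE ?_⟩
    rw [← cj_conj_ee, mem_cj] at e
    have e1 : g⁻¹ * (g * q * g⁻¹) * g = q := by group
    rwa [e1] at e
  s2 := by
    obtain ⟨q, hq, hqE⟩ := h.s2
    refine ⟨g * q * g⁻¹, conj_mem_cj hq, fun e => hqE ?_⟩
    rw [← cj_conj_ee, mem_cj] at e
    have e1 : g⁻¹ * (g * q * g⁻¹) * g = q := by group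
    rwa [e1] at e

namespace One

variable [Finite G] {S : Sylow 2 G} {B P V Z : Subgroup G} (h : One S B P V Z)
include h

/-- `v ∈ W_X - E_X(L)` is moved by `E_Y(L)` -/
theorem exists_mov (hN : w1 V Z Z ≤ ee V Z Z) {L X Y : Subgroup G} (hL : IsCj V L) (hX : IsCj Z X) (hXL : X ≤ L)
    (hY : IsCj Z Y) (hYL : Y ≤ L) (hne : Y ≠ X) {v : G} (hv : v ∈ ws V X) (hvE : v ∉ ee L Z X) :
    ∃ e ∈ ee L Z Y, e ∈ ws V Y ∧ e ∈ kx V X ∧ e * v ≠ v * e := by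
  by_contra hcon
  push Not at hcon
  refine hvE (h.w1_mem hN hL hX hXL hY hYL hne hv fun e he => hcon e he ?_ ?_)
  · rw [← ws_line hL]; exact ee_le he
  · rw [h.ee_line hL hY hYL hX hXL (Ne.symm hne)] at he
    exact he.2

theorem cj_ne {M X Q : Subgroup G} (hM : IsCj V M) (hX : IsCj Z X) (hXM : X ≤ M) (hQ : IsCj Z Q) (hQM : Q ≤ M)
    (hQX : Q ≠ X) {e q : G} (he : e ∈ kx V X) (hq : q ∈ Q) (heq : e * q ≠ q * e) : PT.cj e Q ≠ Q := by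
  intro hcon
  apply heq
  have h1 : e * q * e⁻¹ * q⁻¹ ∈ Q := Q.mul_mem ((mem_normalizer_iff.1 (cj_eq_iff.1 hcon) q).1 hq) (Q.inv_mem hq)
  have h2 : e * q * e⁻¹ * q⁻¹ ∈ X := (mem_kx.1 he).2 q (h.line_le_ws hM hXM (hQM hq))
  have h3 : e * q * e⁻¹ * q⁻¹ ∈ Q ⊓ X := ⟨h1, h2⟩
  rwa [h.pl.pts_inf hQ hX hQX, mem_bot, mul_inv_eq_one, mul_inv_eq_iff_eq_mul] at h3

/-- `E_X(L)` does not centralise `W_Y` -/
theorem ee_not_comm (hN : w1 V Z Z ≤ ee V Z Z) {L X Y : Subgroup G} (hL : IsCj V L) (hX : IsCj Z X) (hXL : X ≤ L)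
    (hY : IsCj Z Y) (hYL : Y ≤ L) (hne : Y ≠ X) : ∃ e ∈ ee L Z Y, ∃ w ∈ ws V X, e * w ≠ w * e := by
  by_contra hcon
  push Not at hcon
  obtain ⟨S', C', Q, h'⟩ := h.flag hL hX hXL
  apply h'.ee_ne h'.self
  refine le_antisymm ee_le ?_
  rw [ws_line hL, ee_of hX]
  intro w hw
  exact h.w1_mem hN hL hX hXL hY hYL hne hw fun e he => hcon e he w hw

/-- **ASYM** -/
theorem asym (hN : w1 V Z Z ≤ ee V Z Z) {L M X Y Q : Subgroup G} (hL : IsCj V L) (hM : IsCj V M) (hX : IsCj Z X)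
    (hXL : X ≤ L) (hXM : X ≤ M) (hY : IsCj Z Y) (hYL : Y ≤ L) (hYX : Y ≠ X) (hQ : IsCj Z Q) (hQM : Q ≤ M)
    (hQX : Q ≠ X) {q : G} (hq : q ∈ Q) (hqE : q ∉ ee L Z X) : ∃ y ∈ Y, ∃ w ∈ ws V Q, w * y ≠ y * w := by
  by_contra hcon
  push Not at hcon
  obtain ⟨e, heE, heY, heX, heq⟩ := h.exists_mov hN hL hX hXL hY hYL hYX (h.line_le_ws hM hXM (hQM hq)) hqE
  have heQ := h.cj_ne hM hX hXM hQ hQM hQX heX hq heq
  have hei : e⁻¹ = e := h.W_inv hY heY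
  have hM' : PT.cj e M = M := cj_eq_iff.2 (h.K_norm_line hM hX hXM heX)
  have hQM' : PT.cj e Q ≤ M := by
    have := cj_le_cj (g := e) |>.2 hQM
    rwa [hM'] at this
  -- `W_Q` normalises `W_Y`
  have hn : ws V Q ≤ normalizer ((ws V Y : Subgroup G) : Set G) := by
    intro w hw
    refine normalizer_le_ws V Y (centralizer_le_normalizer _ (mem_centralizer_iff.2 fun y hy => ?_))
    exact (hcon y hy w hw).symm
  obtain ⟨a, ha, b, hb, hab⟩ := h.ee_not_comm hN hM (hQ.cj e) hQM' hQ hQM (Ne.symm heQ)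
  have haQ : a ∈ ws V Q := by rw [← ws_line hM]; exact ee_le ha
  -- `b = e b' e⁻¹`
  set b' := e⁻¹ * b * e with hb'
  have hbQ : b' ∈ ws V Q := by rw [← mem_cj, ← ws_cj]; exact hb
  have hbe : e * b' * e⁻¹ = b := by rw [hb']; group
  -- the two elements of `W_Y`
  have hk1 : a * e * a⁻¹ * e⁻¹ ∈ ws V Y := (ws V Y).mul_mem ((mem_normalizer_iff.1 (hn haQ) e).1 heY) ((ws V Y).inv_mem heY)
  have hk2 : b' * e * b'⁻¹ * e⁻¹ ∈ ws V Y := (ws V Y).mul_mem ((mem_normalizer_iff.1 (hn hbQ) e).1 heY) ((ws V Y).inv_mem heY)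
  have hai : a⁻¹ = a := h.W_inv hQ haQ
  have hbi : b'⁻¹ = b' := h.W_inv hQ hbQ
  have hbi' : b⁻¹ = b := h.W_inv (hQ.cj e) hb
  set a' := e * a * e⁻¹ with ha'
  have haW : a' ∈ ws V (PT.cj e Q) := by rw [ws_cj]; exact conj_mem_cj haQ
  have hai' : a'⁻¹ = a' := h.W_inv (hQ.cj e) haW
  have e1 : a * e * a⁻¹ * e⁻¹ = a * a' := by rw [ha', hai]; group
  have e2 : b' * e * b'⁻¹ * e⁻¹ = b' * b := by rw [← hbe, hbi]; group
  rw [e1] at hk1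
  rw [e2] at hk2
  have hcomm := h.comm_W hY hk1 hk2
  -- `[a, b] ∈ Q^e`, `[a', b'] ∈ Q`
  have hc1 : a * b * a⁻¹ * b⁻¹ ∈ PT.cj e Q := h.ee_line_act hM hQ hQM (hQ.cj e) hQM' heQ ha hb
  have hc2 : b' * a' * b'⁻¹ * a'⁻¹ ∈ Q := by
    have h1 := h.ee_line_act hM hQ hQM (hQ.cj e) hQM' heQ ha hb
    rw [mem_cj] at h1
    have h2 := Q.inv_mem h1
    have e3 : (e⁻¹ * (a * b * a⁻¹ * b⁻¹) * e)⁻¹ = b' * (e⁻¹ * a * e) * b'⁻¹ * (e⁻¹ * a * e)⁻¹ := by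
      rw [hb']; group
    rw [e3] at h2
    have e4 : e⁻¹ * a * e = a' := by rw [ha', hei]
    rwa [e4] at h2
  have hab' : a * b' = b' * a := h.comm_W hQ haQ hbQ
  have hba' : a' * b = b * a' := h.comm_W (hQ.cj e) haW hb
  set c1 := a * b * a⁻¹ * b⁻¹ with hc1def
  set c2 := b' * a' * b'⁻¹ * a'⁻¹ with hc2def
  -- `c2` commutes with `W_Q`-elements and `W_{Q^e}`-elements
  have hML : ∀ T, IsCj Z T → T ≤ M → ∀ w ∈ ws V T, ∀ c ∈ M, w * c = c * w := fun T hT hTM w hw c hc =>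
    (mem_centralizer_iff.1 (h.ws_le_line hM hT hTM hw) c hc).symm
  -- `a a' b' b = b' b a a'`
  have h5 : a * a' * (b' * b) = c1 * c2 * (b' * b * (a * a')) := by
    have h6 : a * b = c1 * (b * a) := by rw [hc1def]; group
    have h7 : b' * a' = c2 * (a' * b') := by rw [hc2def]; group
    have h8 : a' * b' = c2⁻¹ * (b' * a') := by rw [h7]; group
    have h9 : c2⁻¹ = c2 := by
      have : c2 ∈ ws V Q := h.line_le_ws hM hQM (hQM hc2)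
      exact h.W_inv hQ this
    rw [h9] at h8
    have ha2 : a * c2 = c2 * a := hML Q hQ hQM a haQ c2 (hQM hc2)
    have hb1 : b' * c1 = c1 * b' := hML Q hQ hQM b' hbQ c1 (hQM' hc1)
    calc a * a' * (b' * b) = a * (a' * b') * b := by group
      _ = a * (c2 * (b' * a')) * b := by rw [h8]
      _ = c2 * (a * b') * (a' * b) := by rw [← mul_assoc a c2, ha2]; group
      _ = c2 * b' * (a * b) * a' := by rw [hab', hba']; group
      _ = c2 * (b' * c1) * (b * a) * a' := by rw [h6]; group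
      _ = c2 * c1 * b' * b * a * a' := by rw [hb1]; group
      _ = c1 * c2 * (b' * b * (a * a')) := by
        have : c2 * c1 = c1 * c2 := hML Q hQ hQM c2 (h.line_le_ws hM hQM (hQM hc2)) c1 (hQM' hc1)
        rw [this]; group
  rw [hcomm] at h5
  have h10 : c1 * c2 = 1 := by
    have := right_eq_mul.1 (h5.trans (by group : c1 * c2 * (b' * b * (a * a')) = c1 * c2 * (b' * b * (a * a'))))
    exact this
  have h11 : c1 ∈ PT.cj e Q ⊓ Q := ⟨hc1, by rw [eq_inv_of_mul_eq_one_left h10]; exact Q.inv_mem hc2⟩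
  rw [h.pl.pts_inf (hQ.cj e) hQ heQ, mem_bot, hc1def, mul_inv_eq_one, mul_inv_eq_iff_eq_mul] at h11
  exact hab h11

/-- `E_X(L) ∩ Q ≠ 1` implies `M ≤ E_X(L)` -/
theorem le_ee_of (hN : w1 V Z Z ≤ ee V Z Z) {L M X Y Q : Subgroup G} (hL : IsCj V L) (hM : IsCj V M) (hX : IsCj Z X)
    (hXL : X ≤ L) (hXM : X ≤ M) (hY : IsCj Z Y) (hYL : Y ≤ L) (hYX : Y ≠ X) (hQ : IsCj Z Q) (hQM : Q ≤ M)
    (hQX : Q ≠ X) {q : G} (hq : q ∈ Q) (hq1 : q ≠ 1) (hqE : q ∈ ee L Z X) : M ≤ ee L Z X := by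
  intro m hm
  refine h.w1_mem hN hL hX hXL hY hYL hYX (h.line_le_ws hM hXM hm) fun e he => ?_
  have heK : e ∈ kx V X := by
    rw [h.ee_line hL hY hYL hX hXL (Ne.symm hYX)] at he
    exact he.2
  obtain ⟨S', C', R, h'⟩ := h.flag hL hX hXL
  have h1 : q * e = e * q := by
    have h2 := h'.ee_comm h'.self (h.pnt_line hX hY hYL) (Ne.symm hYX) (a := q) (b := e)
      (by rw [ee_of hX]; exact hqE) (by rw [ee_of hX]; exact he)
    exact h2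
  have h2 := h.lin_fix hM hX hXM hQ hQM (Ne.symm hQX) (kx_le_cent heK) hq hq1 h1.symm
  exact (mem_centralizer_iff.1 h2 m hm).symm

theorem X_le_ee {L X : Subgroup G} (hL : IsCj V L) (hX : IsCj Z X) (hXL : X ≤ L) : X ≤ ee L Z X := by
  obtain ⟨S', C', R, h'⟩ := h.flag hL hX hXL
  have h1 := (h'.X_le_dd h'.self).trans (h'.dd_le_ee h'.self)
  rwa [ee_of hX] at h1

/-- `s2` does not depend on the point -/
theorem change {L M X Y Y' : Subgroup G} (hL : IsCj V L) (hM : IsCj V M) (hX : IsCj Z X) (hXL : X ≤ L) (hXM : X ≤ M)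
    (hYL : Y ≤ L) (hY' : IsCj Z Y') (hYL' : Y' ≤ L) (hYX' : Y' ≠ X)
    (hs : ∃ y ∈ Y, y ∉ ee M Z X) : ∃ y ∈ Y', y ∉ ee M Z X := by
  obtain ⟨y, hy, hyE⟩ := hs
  obtain ⟨x, hx, y', hy', rfl⟩ := h.line_mul hL hX hXL hY' hYL' (Ne.symm hYX') (hYL hy)
  refine ⟨y', hy', fun e => hyE ((ee M Z X).mul_mem (h.X_le_ee hM hX hXM hx) e)⟩

theorem SP_change {L M X Y Y' Q : Subgroup G} (s : SP V Z L M X Y Q) (hY' : IsCj Z Y') (hYL' : Y' ≤ L) (hYX' : Y' ≠ X) :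
    SP V Z L M X Y' Q :=
  { s with hY := hY', hYL := hYL', hYX := hYX',
           s2 := h.change s.hL s.hM s.hX s.hXL s.hXM s.hYL hY' hYL' hYX' s.s2 }

/-- there is a line on `Z` outside of `E_Z(V)` -/
theorem exists_line_out {L X : Subgroup G} (hL : IsCj V L) (hX : IsCj Z X) (hXL : X ≤ L) :
    ∃ M Q, IsCj V M ∧ X ≤ M ∧ IsCj Z Q ∧ Q ≤ M ∧ Q ≠ X ∧ ∃ q ∈ Q, q ∉ ee L Z X := by
  obtain ⟨S', C', R, h'⟩ := h.flag hL hX hXL
  have h1 : ¬ ws V X ≤ ee L Z X := by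
    intro e
    obtain ⟨Y, hY, hYX⟩ := h'.exists_ne h'.self
    apply h'.ee_ne h'.self
    refine le_antisymm ee_le ?_
    rw [ws_line hL, ee_of hX]
    exact e
  obtain ⟨M, hM, hXM, hME⟩ : ∃ M, IsCj V M ∧ X ≤ M ∧ ¬ M ≤ ee L Z X := by
    by_contra hcon
    push Not at hcon
    exact h1 (ws_le fun M hM hXM => hcon M hM hXM)
  obtain ⟨S2, C2, R2, h2⟩ := h.flag hM hX hXM
  obtain ⟨Q, hQ, hQX⟩ := h2.exists_ne h2.self
  have hQ' : IsCj Z Q := ((pnt_iff hX).1 hQ).cj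
  refine ⟨M, Q, hM, hXM, hQ', hQ.le, hQX, ?_⟩
  by_contra hcon
  push Not at hcon
  apply hME
  intro m hm
  obtain ⟨x, hx, q, hq, rfl⟩ := h.line_mul hM hX hXM hQ' hQ.le (Ne.symm hQX) hm
  exact (ee L Z X).mul_mem (h.X_le_ee hL hX hXL hx) (hcon q hq)

/-- **S-pairs exist** -/
theorem exists_SP (hN : w1 V Z Z ≤ ee V Z Z) {L X Y : Subgroup G} (hL : IsCj V L) (hX : IsCj Z X) (hXL : X ≤ L)
    (hY : IsCj Z Y) (hYL : Y ≤ L) (hYX : Y ≠ X) : ∃ M Q, SP V Z L M X Y Q := by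
  obtain ⟨M, Q, hM, hXM, hQ, hQM, hQX, q, hq, hqE⟩ := h.exists_line_out hL hX hXL
  by_cases hs : ∃ y ∈ Y, y ∉ ee M Z X
  · exact ⟨M, Q, hL, hM, hX, hXL, hXM, hY, hYL, hYX, hQ, hQM, hQX, ⟨q, hq, hqE⟩, hs⟩
  push Not at hs
  obtain ⟨y, hy, w, hw, hwy⟩ := h.asym hN hL hM hX hXL hXM hY hYL hYX hQ hQM hQX hq hqE
  have hc : y * w * y⁻¹ * w⁻¹ ∈ Q := h.ee_line_act hM hX hXM hQ hQM hQX (hs y hy) hw
  have hwX : PT.cj w X = X := by
    rw [cj_eq_iff]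
    exact centralizer_le_normalizer _ (centralizer_le hXM (h.ws_le_line hM hQ hQM hw))
  have hwi : w⁻¹ = w := h.W_inv hQ hw
  -- `w y w⁻¹ ∉ E_X(L)`
  have hyE : y ∈ ee L Z X := by
    obtain ⟨S', C', R, h'⟩ := h.flag hL hX hXL
    have h1 := (h'.pl.V_le_IV.trans (h'.I_le_dd h'.self)).trans (h'.dd_le_ee h'.self)
    rw [ee_of hX] at h1
    exact h1 (hYL hy)
  have key : w * y * w⁻¹ ∉ ee L Z X := by
    intro e
    have h1 : y * w * y⁻¹ * w⁻¹ ∈ ee L Z X := by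
      have h2 : y * w * y⁻¹ * w⁻¹ = y * (w * y * w⁻¹)⁻¹ := by group
      rw [h2]
      exact mul_mem hyE (inv_mem e)
    have h3 : y * w * y⁻¹ * w⁻¹ ≠ 1 := by
      intro e1
      rw [mul_inv_eq_one, mul_inv_eq_iff_eq_mul] at e1
      exact hwy e1.symm
    exact hqE (h.le_ee_of hN hL hM hX hXL hXM hY hYL hYX hQ hQM hQX hc h3 h1 (hQM hq))
  refine ⟨PT.cj w L, PT.cj w Y, hL, hL.cj w, hX, hXL, ?_, hY, hYL, hYX, hY.cj w, cj_le_cj.2 hYL, ?_, ?_, ?_⟩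
  · rw [← hwX]; exact cj_le_cj.2 hXL
  · intro e
    rw [← hwX] at e
    exact hYX (cj_inj.1 e)
  · exact ⟨w * y * w⁻¹, conj_mem_cj hy, key⟩
  · refine ⟨y, hy, fun e => key ?_⟩
    have h1 : w⁻¹ * y * w ∈ ee L Z X := by
      have h2 : y ∈ PT.cj w (ee L Z X) := by
        rw [cj_conj_ee, hwX]; exact e
      exact mem_cj.1 h2
    rwa [hwi] at h1 ⊢

end One

namespace SP

variable [Finite G] {S : Sylow 2 G} {B P V Z : Subgroup G} {L M X Y Q : Subgroup G} (s : SP V Z L M X Y Q)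
  (h : One S B P V Z) (hN : w1 V Z Z ≤ ee V Z Z)
include s h hN

/-- `e ∈ E_Q(M)` moves `Y` -/
theorem exists_e : ∃ e ∈ ws V Q, e ∈ kx V X ∧ PT.cj e Y ≠ Y := by
  obtain ⟨y, hy, hyE⟩ := s.s2
  obtain ⟨e, -, h1, h2, h3⟩ := h.exists_mov hN s.hM s.hX s.hXM s.hQ s.hQM s.hQX (h.line_le_ws s.hL s.hXL (s.hYL hy)) hyE
  exact ⟨e, h1, h2, h.cj_ne s.hL s.hX s.hXL s.hY s.hYL s.hYX h2 hy h3⟩

theorem exists_g : ∃ g ∈ kx V X, PT.cj g Q ≠ Q ∧ ∀ T, IsCj Z T → T ≤ L → ∀ d ∈ dd L Z T, g * d = d * g := by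
  obtain ⟨q, hq, hqE⟩ := s.s1
  obtain ⟨e, -, h1, h2, h3⟩ := h.exists_mov hN s.hL s.hX s.hXL s.hY s.hYL s.hYX (h.line_le_ws s.hM s.hXM (s.hQM hq)) hqE
  exact ⟨e, h2, h.cj_ne s.hM s.hX s.hXM s.hQ s.hQM s.hQX h2 hq h3,
    fun T hT hTL d hd => h.dd_cent_line s.hL hT hTL s.hY s.hYL hd h1⟩

/-- (1.1) -/
theorem comm {e d : G} (he : e ∈ ws V Q) (heX : e ∈ kx V X) (hd : d ∈ dd L Z Y) : d * e * d⁻¹ * e⁻¹ ∈ IV M Z := by
  obtain ⟨g, hg, hgQ, hgD⟩ := s.exists_g h hN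
  exact h.star_comm s.hL s.hM s.hX s.hXL s.hXM s.hY s.hYL s.hYX s.hQ s.hQM s.hQX he heX hg hgQ hgD hd

/-- (1.1) -/
theorem comm' {e d : G} (he : e ∈ ws V Q) (heX : e ∈ kx V X) (hd : d ∈ dd L Z Y) :
    d * e * d⁻¹ * e⁻¹ ∈ dd L Z X := by
  have h1 := s.comm h hN he heX hd
  rw [h.dd_line s.hL s.hX s.hXL s.hY s.hYL s.hYX]
  refine ⟨?_, mem_centralizer_iff.2 fun w hw => ?_⟩
  · rw [← h.IV_line s.hM s.hX s.hXM s.hQ s.hQM (Ne.symm s.hQX)] at h1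
    exact h1.1
  · exact h.star_cent s.hL s.hM s.hX s.hXL s.hXM s.hY s.hYL s.hYX s.hQ s.hQM s.hQX heX hd s.hY s.hYL hw

/-- (1.2) -/
theorem star {c : G} (hc : c ∈ dd L Z X) : ∃ i ∈ IV L Z, ∃ j ∈ IV M Z, c = i * j := by
  obtain ⟨g, hg, hgQ, hgD⟩ := s.exists_g h hN
  obtain ⟨e, he, heX, heY⟩ := s.exists_e h hN
  exact h.star s.hL s.hM s.hX s.hXL s.hXM s.hY s.hYL s.hYX s.hQ s.hQM s.hQX he heX heY hg hgQ hgD hc

/-- `[K_X ∩ C_G(L), D_Y(L)] ≤ I_L` -/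
theorem triv {k d : G} (hk : k ∈ kx V X) (hkL : k ∈ centralizer (L : Set G)) (hd : d ∈ dd L Z Y) :
    k * d * k⁻¹ * d⁻¹ ∈ IV L Z := by
  obtain ⟨e, he, heX, heY⟩ := s.exists_e h hN
  have hL1 : PT.cj k L = L := cj_eq_iff.2 (centralizer_le_normalizer _ hkL)
  have hfix : ∀ T ≤ L, PT.cj k T = T := fun T hT => cj_eq_iff.2 (centralizer_le_normalizer _ (centralizer_le hT hkL))
  have heL : PT.cj e Y ≤ L := h.cj_le_line s.hL s.hM s.hX s.hXL s.hXM s.hY s.hYL s.hYX s.hQ s.hQM s.hQX heX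
  have hdW : d ∈ ws V Y := by rw [← ws_line s.hL]; exact dd_le hd
  set d' := k * d * k⁻¹ with hd'
  have hd'D : d' ∈ dd L Z Y := by
    have h1 := conj_mem_cj (g := k) hd
    rwa [cj_conj_dd, hL1, hfix Y s.hYL] at h1
  have hd'W : d' ∈ ws V Y := by rw [← ws_line s.hL]; exact dd_le hd'D
  set c := d * e * d⁻¹ * e⁻¹ with hc
  have hcX : c ∈ ws V X := by rw [← ws_line s.hL]; exact dd_le (s.comm' h hN he heX hd)
  set f := e * d⁻¹ * e⁻¹ with hf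
  have hfD : f ∈ dd L Z (PT.cj e Y) := by
    have h1 := conj_mem_cj (g := e) (inv_mem hd)
    rwa [cj_conj_dd, cj_eq_iff.2 (h.K_norm_line s.hL s.hX s.hXL heX)] at h1
  have hf'D : k * f * k⁻¹ ∈ dd L Z (PT.cj e Y) := by
    have h1 := conj_mem_cj (g := k) hfD
    rwa [cj_conj_dd, hL1, hfix _ heL] at h1
  have hx : k * c * k⁻¹ * c⁻¹ ∈ X := (mem_kx.1 hk).2 c hcX
  set x := k * c * k⁻¹ * c⁻¹ with hxdef
  have hXI : X ≤ IV L Z := by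
    obtain ⟨S', C', R, h'⟩ := h.flag s.hL s.hX s.hXL
    have h1 := h'.pl.V_le_IV
    rw [IV_of s.hX] at h1
    exact s.hXL.trans h1
  have hI := h.IV_line s.hL s.hY s.hYL (s.hY.cj e) heL (Ne.symm heY)
  have h1 : d'⁻¹ * x * d = k * f * k⁻¹ * f⁻¹ := by
    have e1 : c = d * f := by rw [hc, hf]; group
    have e2 : x * c = d' * (k * f * k⁻¹) := by rw [hxdef, e1, hd']; group
    have e3 : x * d = d' * (k * f * k⁻¹) * f⁻¹ := by rw [← e2, e1]; group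
    rw [mul_assoc, e3]; group
  have h2 : d'⁻¹ * x * d ∈ IV L Z := by
    rw [← hI]
    refine ⟨?_, ?_⟩
    · refine (ws V Y).mul_mem ((ws V Y).mul_mem ((ws V Y).inv_mem hd'W) ?_) hdW
      rw [← hI] at hXI
      exact (hXI hx).1
    · rw [h1]
      have h3 : dd L Z (PT.cj e Y) ≤ ws V (PT.cj e Y) := by
        have : dd L Z (PT.cj e Y) ≤ ws L (PT.cj e Y) := dd_le
        rwa [ws_line s.hL] at this
      exact (ws V _).mul_mem (h3 hf'D) ((ws V _).inv_mem (h3 hfD))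
  have hxY : x ∈ ws V Y := by
    rw [← hI] at hXI
    exact (hXI hx).1
  have h3 : d' * d⁻¹ = x * (d'⁻¹ * x * d)⁻¹ := by
    have h4 : d' * d⁻¹ = d⁻¹ * d' := h.comm_W s.hY hd'W ((ws V Y).inv_mem hdW)
    have h5 : x * d⁻¹ = d⁻¹ * x := h.comm_W s.hY hxY ((ws V Y).inv_mem hdW)
    have h6 : x⁻¹ * d' = d' * x⁻¹ := h.comm_W s.hY ((ws V Y).inv_mem hxY) hd'W
    calc d' * d⁻¹ = d⁻¹ * d' := h4
      _ = d⁻¹ * x * (x⁻¹ * d') := by group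
      _ = x * d⁻¹ * (x⁻¹ * d') := by rw [h5]
      _ = x * (d'⁻¹ * x * d)⁻¹ := by group
  rw [h3]
  exact mul_mem (hXI hx) (inv_mem h2)

end SP

namespace One

variable [Finite G] {S : Sylow 2 G} {B P V Z : Subgroup G} (h : One S B P V Z)
include h

/-- `[K_T ∩ C_G(V), ⟨D_R⟩] ≤ I` -/
theorem hJ (hN : w1 V Z Z ≤ ee V Z Z) : ∀ T, Pnt V Z T → ∀ k ∈ kx V T, k ∈ centralizer (V : Set G) →
    ∀ w ∈ DL V Z, k * w * k⁻¹ * w⁻¹ ∈ IV V Z := by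
  intro T hT k hk hkV
  have hV : IsCj V V := ⟨1, (cj_one V).symm⟩
  have hkN : k ∈ normalizer ((DL V Z : Subgroup G) : Set G) := norm_DL V Z (centralizer_le_normalizer _ hkV)
  have key : DL V Z ≤ cR k (DL V Z) (IV V Z) (fun a ha b hb => h.EL_ab a (h.DL_le ha) b (h.DL_le hb)) hkN := by
    refine sSup_le ?_
    rintro _ ⟨R, hR, rfl⟩
    intro w hw
    refine ⟨dd_le_DL hR hw, ?_⟩
    by_cases hRT : R = T
    · subst hRT
      have h1 := (mem_kx.1 hk).2 w (dd_le hw)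
      exact h.pl.V_le_IV (hT.le h1)
    · obtain ⟨M, Q, s⟩ := h.exists_SP hN hV hT.cj hT.le hR.cj hR.le hRT
      exact s.triv h hN hk hkV hw
  exact fun w hw => (key hw).2

end One

namespace Co

variable [Finite G] {F : Type*} [Field F] [CharP F 2] {S : Sylow 2 G} {B P V Z : Subgroup G} (h : Co F S B P V Z)

include h in
theorem not_n0 (hNN : NN V Z) : ¬ ws V Z ≤ n0 V Z Z := fun e =>
  h.one.ee_ne h.one.self (le_antisymm ee_le (e.trans hNN))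

/-- the torus is semiregular on `D_Z / J`, `J ≥ I` -/
theorem semi [Finite F] (hN : w1 V Z Z ≤ ee V Z Z) (hNN : NN V Z) {τ : G} {ζ : F} (hτ : h.Tor τ ζ) (hζ0 : ζ ≠ 0)
    (hζ : ζ ≠ 1) {J : Subgroup G} (hJI : IV V Z ≤ J)
    (hJn : ∀ τ ζ, h.Tor τ ζ → ζ ≠ 0 → τ ∈ normalizer (J : Set G)) {d : G} (hd : d ∈ dd V Z Z)
    (hdτ : τ * d * τ⁻¹ * d⁻¹ ∈ J) : d ∈ J := by
  have hζ1 : (1 : F) + ζ ≠ 0 := by
    intro e
    apply hζ
    have h1 : (1 : F) = ζ := by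
      rwa [← CharTwo.sub_eq_add, sub_eq_zero] at e
    exact h1.symm
  obtain ⟨c, hc⟩ := h.exists_tor hζ1
  have h1 := h.weightD (h.not_n0 hNN) (h.one.hJ hN) hd (one_mem _) hτ.mem hc.mem (x := 1) (y := ζ)
    (by group) (by rw [hτ.act, mul_zero, mul_one]) (by rw [hc.act, mul_zero, mul_one])
  have hdi : d⁻¹ = d := h.one.inv_eq_W h.one.self (dd_le hd)
  have h2 : 1 * d * (1 : G)⁻¹ * (τ * d * τ⁻¹) ∈ J := by
    have hdW : d ∈ ws V Z := dd_le hd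
    have hτd : τ * d * τ⁻¹ ∈ ws V Z := by
      have h3 := conj_mem_cj (g := τ) hdW
      rwa [← ws_cj, cj_eq_iff.2 (hτ.norm_Z hζ0)] at h3
    have h4 : d * (τ * d * τ⁻¹) = τ * d * τ⁻¹ * d := h.one.comm_W h.one.self.cj hdW hτd
    have h5 : 1 * d * (1 : G)⁻¹ * (τ * d * τ⁻¹) = τ * d * τ⁻¹ * d⁻¹ := by
      rw [hdi, ← h4]; group
    rw [h5]
    exact hdτ
  have h3 : c * d * c⁻¹ ∈ J := by
    have h4 := hJI h1
    rw [mul_assoc] at h4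
    exact (J.mul_mem_cancel_right h2).1 h4
  exact (mem_normalizer_iff.1 (hJn c _ hc hζ1) d).2 h3

theorem Tor_norm_I {τ : G} {ζ : F} (hτ : h.Tor τ ζ) : τ ∈ normalizer ((IV V Z : Subgroup G) : Set G) :=
  normalizer_le_IV V Z hτ.norm_V

include h in
/-- `rd ≤ D_Z` -/
theorem rd_le_dd_nn (hNN : NN V Z) : rd V Z ≤ dd V Z Z := by
  intro r hr
  have hV : IsCj V V := ⟨1, (cj_one V).symm⟩
  exact h.one.nn_dd hNN hV h.one.self.cj h.one.self.le h.pY.cj h.pY.le h.Yp_ne hr.1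
    fun u hu => h.rd_comm h.pY h.Yp_ne hr hu

theorem D_smul (hNN : NN V Z) {u : G} (hu : u ∈ dd V Z Z) (c : F) :
    ∃ u' ∈ dd V Z Z, ∀ k ∈ kx V Z, h.fn u' k = c * h.fn u k := by
  have hV : IsCj V V := ⟨1, (cj_one V).symm⟩
  have huW : u ∈ ws V Z := dd_le hu
  obtain ⟨w', hw', hwe⟩ := h.exists_smul c huW
  refine ⟨w', h.one.nn_dd hNN hV h.one.self.cj h.one.self.le h.pY.cj h.pY.le h.Yp_ne hw' fun a ha => ?_, hwe⟩
  have haZ : a ∈ centralizer (Z : Set G) := centralizer_le (by exact_mod_cast h.one.pl.ZV) (h.one.W_le_cent h.pY ha)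
  have haN := centralizer_le_normalizer _ haZ
  have h1 : a * w' * a⁻¹ * w'⁻¹ ∈ rd V Z := by
    have haw : a * w' * a⁻¹ ∈ ws V Z := h.W_conj haN hw'
    rw [h.mem_rd_iff ((ws V Z).mul_mem haw ((ws V Z).inv_mem hw'))]
    intro k hk
    have hk' := h.K_conj haN hk
    rw [h.fn_mul haw ((ws V Z).inv_mem hw') hk, h.fn_inv hw', h.fn_conj haZ hw' hk, hwe _ hk', hwe _ hk,
      ← h.fn_conj haZ huW hk]
    have h2 : a * u * a⁻¹ = u := by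
      rw [← h.one.dd_comm h.pY h.Yp_ne hu ha, mul_inv_cancel_right]
    rw [h2, CharTwo.add_self_eq_zero]
  have h2 : w' * a * w'⁻¹ * a⁻¹ ∈ rd V Z := by
    have := inv_mem h1
    have e : (a * w' * a⁻¹ * w'⁻¹)⁻¹ = w' * a * w'⁻¹ * a⁻¹ := by group
    rwa [e] at this
  exact h.rd_inf_I ⟨h2, h.one.comm_mem h.one.self h.pY h.Yp_ne.symm hw' ha⟩

include h in
theorem mem_I_rd {w : G} (hw : w ∈ IV V Z ⊔ rd V Z) : ∃ i ∈ IV V Z, ∃ r ∈ rd V Z, w = i * r := by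
  have hn : rd V Z ≤ normalizer ((IV V Z : Subgroup G) : Set G) := by
    refine (rd_le.trans ?_ : rd V Z ≤ centralizer ((ws V Z : Subgroup G) : Set G)).trans
      ((centralizer_le (show ((IV V Z : Subgroup G) : Set G) ⊆ ws V Z from h.one.I_le_W h.one.self)).trans
        (centralizer_le_normalizer _))
    exact h.one.pl.ws_comm h.one.self.cj
  rw [sup_comm] at hw
  obtain ⟨r, hr, i, hi, hri⟩ := mem_sup_norm hn hw
  refine ⟨i, hi, r, hr, ?_⟩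
  rw [hri]
  exact h.one.comm_W h.one.self.cj (rd_le hr) (h.one.I_le_W h.one.self hi)

theorem norm_I_rd {τ : G} (h2 : τ ∈ normalizer ((IV V Z : Subgroup G) : Set G))
    (h3 : τ ∈ normalizer ((rd V Z : Subgroup G) : Set G)) :
    τ ∈ normalizer ((IV V Z ⊔ rd V Z : Subgroup G) : Set G) := by
  rw [← cj_eq_iff] at h2 h3 ⊢
  apply le_antisymm
  · rw [cj_le_iff]
    refine sup_le ?_ ?_
    · rw [le_cj_iff, inv_inv, h2]; exact le_sup_left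
    · rw [le_cj_iff, inv_inv, h3]; exact le_sup_right
  · refine sup_le ?_ ?_
    · calc IV V Z = PT.cj τ (IV V Z) := h2.symm
        _ ≤ _ := cj_le_cj.2 le_sup_left
    · calc rd V Z = PT.cj τ (rd V Z) := h3.symm
        _ ≤ _ := cj_le_cj.2 le_sup_right

/-- **the image of `I` in `MF` is an `F`-subspace** -/
theorem I_smul [Finite F] (hN : w1 V Z Z ≤ ee V Z Z) (hNN : NN V Z) {ζ : F} (hζ0 : ζ ≠ 0) (hζ : ζ ≠ 1) {u : G}
    (hu : u ∈ IV V Z) (c : F) : ∃ u' ∈ IV V Z, ∀ k ∈ kx V Z, h.fn u' k = c * h.fn u k := by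
  have huW : u ∈ ws V Z := h.one.I_le_W h.one.self hu
  obtain ⟨w, hw, hwe⟩ := h.D_smul hNN (h.one.I_le_dd h.one.self hu) c
  have hwW : w ∈ ws V Z := dd_le hw
  obtain ⟨τ, hτ⟩ := h.exists_tor hζ0
  have hτN := hτ.norm_Z hζ0
  have hv : τ * u * τ⁻¹ * u⁻¹ ∈ V := h.one.pl.XV_act hτ.mem hu
  obtain ⟨x, y, hxy⟩ := (h.mem_V _).1 hv
  have hτu : τ * u * τ⁻¹ ∈ ws V Z := h.W_conj hτN huW
  have hτw : τ * w * τ⁻¹ ∈ ws V Z := h.W_conj hτN hwW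
  set J := IV V Z ⊔ rd V Z with hJdef
  have h1 : τ * w * τ⁻¹ * w⁻¹ ∈ J := by
    have hm : τ * w * τ⁻¹ * w⁻¹ ∈ ws V Z := (ws V Z).mul_mem hτw ((ws V Z).inv_mem hwW)
    have h2 : τ * w * τ⁻¹ * w⁻¹ * (h.e 0 (c * y))⁻¹ ∈ rd V Z := by
      rw [h.mem_rd_iff ((ws V Z).mul_mem hm ((ws V Z).inv_mem (h.W_V _ _)))]
      intro k hk
      have hk' := h.K_conj hτN hk
      rw [h.fn_mul hm ((ws V Z).inv_mem (h.W_V _ _)) hk, h.fn_inv (h.W_V _ _),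
        h.fn_mul hτw ((ws V Z).inv_mem hwW) hk, h.fn_inv hwW, h.fn_tor hτ hζ0 hwW hk, hwe _ hk', hwe _ hk]
      have h3 : ζ * (c * h.fn u (τ⁻¹ * k * τ)) = c * h.fn (τ * u * τ⁻¹) k := by
        rw [h.fn_tor hτ hζ0 huW hk]; ring
      have h4 : τ * u * τ⁻¹ = h.e x y * u := by rw [hxy]; group
      rw [h3, h4, h.fn_mul (h.W_V _ _) huW hk, h.fn_V x y hk, h.fn_V 0 (c * y) hk]
      have : c * (y * h.fn (h.e 0 1) k + h.fn u k) + c * h.fn u k + c * y * h.fn (h.e 0 1) k =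
          (c * y * h.fn (h.e 0 1) k + c * y * h.fn (h.e 0 1) k) + (c * h.fn u k + c * h.fn u k) := by ring
      rw [this, CharTwo.add_self_eq_zero, CharTwo.add_self_eq_zero, add_zero]
    have h3 : τ * w * τ⁻¹ * w⁻¹ = τ * w * τ⁻¹ * w⁻¹ * (h.e 0 (c * y))⁻¹ * h.e 0 (c * y) := by group
    rw [h3]
    exact J.mul_mem (mem_sup_right h2) (mem_sup_left (h.one.pl.V_le_IV (h.e_memV _ _)))
  have hJn : ∀ τ ζ, h.Tor τ ζ → ζ ≠ 0 → τ ∈ normalizer (J : Set G) := fun τ' ζ' hτ' hζ' =>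
    norm_I_rd (h.Tor_norm_I hτ') (norm_rd V Z (hτ'.norm_Z hζ'))
  have h2 : w ∈ J := h.semi hN hNN hτ hζ0 hζ le_sup_left hJn hw h1
  obtain ⟨i, hi, r, hr, rfl⟩ := h.mem_I_rd h2
  refine ⟨i, hi, fun k hk => ?_⟩
  rw [← hwe k hk, h.fn_mul (h.one.I_le_W h.one.self hi) (rd_le hr) hk, (h.mem_rd_iff (rd_le hr)).1 hr k hk, add_zero]

end Co

end Cfsg.Agent.Omega.NO3S.OneQ
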