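import Cfsg.Agent.Mrg.Omega.NO3S.OneQ.LemKDual
import Cfsg.Agent.Mrg.Omega.NO3S.OneQ.POne
import Cfsg.Agent.Mrg.Omega.NO3S.OneQ.StarA
import Cfsg.Agent.Mrg.Omega.NO3S.OneQ.AlphaDual
import Cfsg.Agent.Mrg.Omega.NO3S.OneQ.TIq.Phi

section


/-!
# NO-3S, `OneQ`: `D_X > I` implies that all S-pairs are partial; `dim MF / Ē = 1` implies `D_X = I`

* `Co.dualN` : duality `Co.Dual` in case (N); `Co.w1_le` : `C_{W_Z}(E_Y) ≤ E_Z`;
* `Co.partial_of` : `D_Z ≰ I`, `M` a line on `Z`, `V ≰ E_Z(M)`, `M ≰ E_Z(V)` imply `[M, W_Y] ≤ E_Z(M)`;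
* `Co.lemK_of` : then `[v, v^g] ∈ Z` for `v ∈ M`, `g ∈ X_V`;
* **`Co.dd_le_of_one`** : if `MF / Ē` has dimension 1 over `F`, then `D_Z ≤ I`.
-/

set_option autoImplicit false
set_option linter.unusedSectionVars false

namespace Cfsg.Agent.Omega.NO3S.OneQ.Co

open Subgroup Cfsg Cfsg.Agent.Omega.NO3S.PT Cfsg.Agent.Omega.NoFF.Basic
open scoped Pointwise

universe u

variable {G : Type u} [Group G] [Finite G] {F : Type*} [Field F] [CharP F 2] {S : Sylow 2 G} {B P V Z : Subgroup G}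
  (h : Co F S B P V Z)

/-- duality in case (N) -/
theorem dualN [Finite F] (hN : NTr V Z) : h.Dual := by
  intro φ hφ
  obtain ⟨e, he, hee⟩ := h.dual_N h.pY h.Yp_ne (hN _ h.pY h.Yp_ne) φ fun w hw =>
    hφ _ (h.fm_Eb (w := ⟨w, ee_le hw⟩) hw)
  exact ⟨e, he, fun w => (hee w).symm⟩

include h in
theorem w1_le_ee [Finite F] (hN : NTr V Z) : w1 V Z Z ≤ ee V Z Z := by
  intro w hw
  have hwW : w ∈ ws V Z := w1_le hw
  by_contra hne
  have h1 : h.fm ⟨w, hwW⟩ ∉ h.Eb := fun e => hne ((h.fm_Eb_iff hN (w := ⟨w, hwW⟩)).1 e)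
  obtain ⟨φ, hφ, hk⟩ := Submodule.exists_le_ker_of_notMem h1
  obtain ⟨e, he, hee⟩ := h.dualN hN φ fun m hm => hk hm
  have h2 : e * w = w * e := (mem_centralizer_iff.1 ((mem_w1.1 hw).2 h.Yp h.pY h.Yp_ne) e he)
  have heK : e ∈ kx V Z := (mem_ee.1 he).2 Z h.one.self h.Yp_ne.symm
  exact hφ ((hee ⟨w, hwW⟩).symm.trans ((h.fn_eq_zero hwW heK).2 h2))

include h in
/-- `D = I` for one line on `Z` implies it for `V` -/
theorem dd_le_of_cj {c : G} (hc : c ∈ centralizer (Z : Set G)) (hd : dd (PT.cj c V) Z Z ≤ IV (PT.cj c V) Z) :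
    dd V Z Z ≤ IV V Z := by
  have hcZ : PT.cj c Z = Z := cj_eq_iff.2 (centralizer_le_normalizer _ hc)
  have h1 : PT.cj c (dd V Z Z) = dd (PT.cj c V) Z Z := by rw [cj_conj_dd, hcZ]
  have h2 : PT.cj c (IV V Z) = IV (PT.cj c V) Z := by
    rw [← PB.Geom.IV_conj h.one.pl h.one.hf, hcZ]
  rwa [← h1, ← h2, cj_le_cj] at hd

include h in
/-- **`D_Z ≰ I`: all S-pairs are partial** -/
theorem partial_of [Finite F] (hN : NTr V Z) (hD : ¬ dd V Z Z ≤ IV V Z) {M : Subgroup G} (hM : IsCj V M) (hZM : Z ≤ M)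
    (hVM : ¬ V ≤ ee M Z Z) {Y : Subgroup G} (hY : Pnt V Z Y) (hYZ : Y ≠ Z) :
    ∀ w ∈ ws V Y, ∀ v ∈ M, w * v * w⁻¹ * v⁻¹ ∈ ee M Z Z := by
  have hVV : IsCj V V := ⟨1, (cj_one V).symm⟩
  have hZ := h.one.pl.isCj_self
  have hw1 := h.w1_le_ee hN
  obtain ⟨c, hc, rfl⟩ := h.line_eq hM hZM
  obtain ⟨T, C, Q', h'⟩ := h.one.flag hM hZ hZM
  obtain ⟨Q, hQ, hQZ⟩ := h'.exists_ne h'.self
  -- a vector of `Y` outside of `E_Z(M)`
  obtain ⟨q, hq, hqE⟩ : ∃ y ∈ Y, y ∉ ee (PT.cj c V) Z Z := by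
    by_contra hcon
    push Not at hcon
    apply hVM
    intro v hv
    obtain ⟨z, hz, y, hy, rfl⟩ := h.one.pl.exists_mul h.one.self.cj h.one.self.le hY.cj hY.le hYZ.symm hv
    exact mul_mem (h.one.X_le_ee hM hZ hZM hz) (hcon y hy)
  intro w hw v hv
  obtain ⟨z, hz, y, hy, rfl⟩ := h'.pl.exists_mul h'.self.cj h'.self.le hQ.cj hQ.le hQZ.symm hv
  have hwC : w ∈ centralizer (Z : Set G) := centralizer_le h.one.pl.ZV (h.one.W_le_cent hY hw)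
  have hwz : w * z * w⁻¹ = z := by rw [(mem_centralizer_iff.1 hwC z hz).symm, mul_inv_cancel_right]
  have hyW : y ∈ ws V Z := h.one.line_le_ws hM hZM (hQ.le hy)
  have hwy : w * y * w⁻¹ ∈ ws V Z := h.W_conj (centralizer_le_normalizer _ hwC) hyW
  have hcW : w * y * w⁻¹ * y⁻¹ ∈ ws V Z := (ws V Z).mul_mem hwy ((ws V Z).inv_mem hyW)
  have e1 : w * (z * y) * w⁻¹ * (z * y)⁻¹ = w * y * w⁻¹ * y⁻¹ := by
    calc w * (z * y) * w⁻¹ * (z * y)⁻¹ = (w * z * w⁻¹) * (w * y * w⁻¹ * y⁻¹) * z⁻¹ := by group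
      _ = w * y * w⁻¹ * y⁻¹ := by
        rw [hwz, h.one.comm_W hZ (h.one.pl.Z_le_ws hz) hcW, mul_inv_cancel_right]
  rw [e1]
  by_contra hcon
  exact hD (h.dd_le_of_cj hc (h.one.n6 hM hVV hZ hZM h.one.pl.ZV hQ.cj hQ.le hQZ hY.cj hY.le hYZ hw1 hw hy hcon hq hqE))

include h in
/-- LEMMA K for `D_Z ≰ I` -/
theorem lemK_of [Finite F] (hN : NTr V Z) (hD : ¬ dd V Z Z ≤ IV V Z) {M : Subgroup G} (hM : IsCj V M) (hZM : Z ≤ M)
    (hVM : ¬ V ≤ ee M Z Z) {g v : G} (hg : g ∈ XV V Z) (hgZ : PT.cj g Z ≠ Z) (hv : v ∈ M) :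
    v * (g * v * g⁻¹) * v⁻¹ * (g * v * g⁻¹)⁻¹ ∈ Z := by
  obtain ⟨c, hc, rfl⟩ := h.line_eq hM hZM
  exact lemK_cj hN (h.dualN hN) hc hVM hg hgZ
    (h.partial_of hN hD hM hZM hVM (h.one.self.conj (h.one.pl.XV_le_N hg)) hgZ) hv

/-- LEMMA K for `D_Z ≰ I`, in `MF` -/
theorem lemKM_of [Finite F] (hN : NTr V Z) (hD : ¬ dd V Z Z ≤ IV V Z) {c : G} (hc : c ∈ centralizer (Z : Set G))
    (hVM : ¬ V ≤ ee (PT.cj c V) Z Z) (a : F) :
    h.al (a • h.rp ⟨c, h.C_le_hat hc⟩ h.v0) (h.rp ⟨c, h.C_le_hat hc⟩ h.v0) = h.rp ⟨c, h.C_le_hat hc⟩ h.v0 := by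
  by_cases ha0 : a = 0
  · rw [ha0, zero_smul, h.al_zero hN]; rfl
  have hcN := centralizer_le_normalizer _ hc
  have hcZ : PT.cj c Z = Z := cj_eq_iff.2 hcN
  have hZM : Z ≤ PT.cj c V := by
    nth_rewrite 1 [← hcZ]
    exact cj_le_cj.2 h.one.pl.ZV
  have h3 := h.lemK_of hN hD ⟨c, rfl⟩ hZM hVM h.sw_XV (by rw [h.cj_sw]; exact h.Yp_ne) (v := c * h.e 0 a * c⁻¹)
    (conj_mem_cj (h.e_memV 0 a))
  have h4 : h.al (h.fm ⟨c * h.e 0 a * c⁻¹, h.W_conj hcN (h.W_V 0 a)⟩) (h.fm ⟨c * h.e 0 a * c⁻¹, h.W_conj hcN (h.W_V 0 a)⟩) =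
      h.fm ⟨c * h.e 0 a * c⁻¹, h.W_conj hcN (h.W_V 0 a)⟩ := by
    rw [h.al_fm hN]
    show h.rp ⟨h.sw * (c * h.e 0 a * c⁻¹) * h.sw⁻¹, _⟩ _ = _
    rw [h.rp_fm', h.fm_eq]
    have h5 := inv_mem h3
    have e : ((c * h.e 0 a * c⁻¹) * (h.sw * (c * h.e 0 a * c⁻¹) * h.sw⁻¹) * (c * h.e 0 a * c⁻¹)⁻¹ *
        (h.sw * (c * h.e 0 a * c⁻¹) * h.sw⁻¹)⁻¹)⁻¹ =
      h.sw * (c * h.e 0 a * c⁻¹) * h.sw⁻¹ * (c * h.e 0 a * c⁻¹) * (h.sw * (c * h.e 0 a * c⁻¹) * h.sw⁻¹)⁻¹ *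
        (c * h.e 0 a * c⁻¹)⁻¹ := by group
    rw [e] at h5
    exact h.Z_le_rd h5
  have hcv : h.fm ⟨c * h.e 0 a * c⁻¹, h.W_conj hcN (h.W_V 0 a)⟩ = a • h.rp ⟨c, h.C_le_hat hc⟩ h.v0 := by
    rw [← map_smul, ← h.fm_e 0 a, h.rp_fm' (h.C_le_hat hc) (h.W_V 0 a)]
  rw [hcv, map_smul] at h4
  exact smul_right_injective _ ha0 h4

include h in
/-- **`dim MF / Ē = 1` implies `D_Z ≤ I`** -/
theorem dd_le_of_one [Finite F] (hN : NTr V Z) (hone : ∀ m n : h.MF, n ∉ h.Eb → ∃ a : F, m - a • n ∈ h.Eb) :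
    dd V Z Z ≤ IV V Z := by
  by_contra hD
  have hVV : IsCj V V := ⟨1, (cj_one V).symm⟩
  have hZ := h.one.pl.isCj_self
  have hw1 := h.w1_le_ee hN
  obtain ⟨M, Q, s⟩ := h.one.exists_SP hw1 hVV hZ h.one.pl.ZV h.pY.cj h.pY.le h.Yp_ne
  have hM := s.hM
  have hZM := s.hXM
  obtain ⟨c, hc, rfl⟩ := h.line_eq hM hZM
  have hcN := centralizer_le_normalizer _ hc
  have hVM : ¬ V ≤ ee (PT.cj c V) Z Z := by
    obtain ⟨y, hy, hyE⟩ := s.s2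
    exact fun e => hyE (e (h.pY.le hy))
  have hfix := h.lemKM_of hN hD hc hVM
  set m := h.rp ⟨c, h.C_le_hat hc⟩ h.v0 with hm
  -- `m ∉ Ē`
  have hmE : m ∉ h.Eb := by
    intro hmE
    obtain ⟨q, hq, hqE⟩ := s.s1
    apply hqE
    have hqM := s.hQM hq
    rw [mem_cj] at hqM
    obtain ⟨x, y, hxy⟩ := (h.mem_V _).1 hqM
    obtain rfl : q = c * h.e x y * c⁻¹ := by rw [hxy]; group
    rw [← h.fm_Eb_iff hN (w := ⟨c * h.e x y * c⁻¹, h.W_conj hcN (h.W_V x y)⟩)]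
    have hcv : h.fm ⟨c * h.e x y * c⁻¹, h.W_conj hcN (h.W_V x y)⟩ = y • m := by
      rw [hm, ← map_smul, ← h.fm_e x y, h.rp_fm' (h.C_le_hat hc) (h.W_V x y)]
    rw [hcv]
    exact Submodule.smul_mem _ _ hmE
  apply hmE
  rw [h.mem_Eb_iff hN]
  intro x
  obtain ⟨a, ha⟩ := hone x m hmE
  have h1 : h.al x = h.al (a • m) := by
    rw [h.al_congr hN, ← h.sub_eq]
    exact ha
  rw [h1, hfix a, sub_self]
  exact zero_mem _

end Cfsg.Agent.Omega.NO3S.OneQ.Co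

end

section


/-!
# NO-3S, `OneSz` (`q ≥ 4`, `n = 1`), case (N), `D_Z` arbitrary: a line in `V rd` is `V`

* `Co.rad_dd` : for lines `L ≠ M` on `Z` with `L rd = M rd`: `I_M ≤ D_Z(L)`;
* **`Co.rad_line`** : a line `M` on `Z` with `M ≤ V rd` is `V`;
* `Co.norm_of_smul_N` : an element of `C_G(Z)` which fixes the point `F v0` of `MF` normalises `V`;
* `Co.fix_v0_N` : an element of `C_G(Z)` which fixes `v0` lies in `K_Z C_G(V)`.
-/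

set_option autoImplicit false
set_option linter.unusedSectionVars false

namespace Cfsg.Agent.Omega.NO3S.OneQ

open Subgroup Cfsg Cfsg.Agent.Omega.NO3S.PT Cfsg.Agent.Omega.NoFF.Basic
open scoped Pointwise

universe u

theorem cj_rd {G : Type u} [Group G] (V X : Subgroup G) (g : G) : PT.cj g (rd V X) = rd V (PT.cj g X) := by
  unfold rd
  rw [ws_cj, kx_cj]
  ext w
  rw [mem_cj, mem_inf, mem_inf, mem_cj, ← cj_centralizer, mem_cj]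

namespace Co

variable {G : Type u} [Group G] [Finite G] {F : Type*} [Field F] [CharP F 2] {S : Sylow 2 G} {B P V Z : Subgroup G}
  (h : Co F S B P V Z)
include h

theorem nn_N (hN : NTr V Z) : NN V Z := fun _ hw =>
  hN.mem_ee h.one h.pY h.Yp_ne hw.1 fun u hu => hw.2.2 _ h.pY u hu

theorem rd_flag {L X : Subgroup G} (hL : IsCj V L) (hX : IsCj Z X) (hXL : X ≤ L) : rd V X ⊓ IV L Z ≤ X := by
  obtain ⟨g, rfl, rfl⟩ := PB.Geom.exists_conj_flag h.one.pl hX hL hXL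
  have h2 : IV (PT.cj g V) Z = PT.cj g (IV V Z) := by
    rw [← IV_of (V := PT.cj g V) hX, PB.Geom.IV_conj h.one.pl h.one.hf]
  rw [h2, ← cj_rd]
  intro w hw
  rw [mem_inf, mem_cj, mem_cj] at hw
  rw [mem_cj]
  exact h.rd_inf_I ⟨hw.1, hw.2⟩

theorem rd_dd_flag (hN : NTr V Z) {L X : Subgroup G} (hL : IsCj V L) (hX : IsCj Z X) (hXL : X ≤ L) :
    rd V X ≤ dd L Z X := by
  obtain ⟨g, rfl, rfl⟩ := PB.Geom.exists_conj_flag h.one.pl hX hL hXL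
  rw [← cj_rd, ← cj_conj_dd]
  exact cj_le_cj.2 (h.rd_le_dd hN)

/-- two lines on `Z` with a common element outside of `Z` -/
theorem line_eq_of_mem {L M : Subgroup G} (hL : IsCj V L) (hM : IsCj V M) (hZL : Z ≤ L) (hZM : Z ≤ M) {y : G}
    (hyL : y ∈ L) (hyM : y ∈ M) (hyZ : y ∉ Z) : L = M := by
  have hZ := h.one.self.cj
  have hy1 : y ≠ 1 := fun e => hyZ (e ▸ one_mem _)
  obtain ⟨S', C', Q, h'⟩ := h.one.flag hL hZ hZL
  obtain ⟨S2, C2, Q2, h2⟩ := h.one.flag hM hZ hZM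
  obtain ⟨T, hT, hTL, hyT⟩ := h'.pl.exists_point hyL hy1
  obtain ⟨T', hT', hTM, hyT'⟩ := h2.pl.exists_point hyM hy1
  obtain rfl := h.one.pl.pts_eq hT hT' hyT hyT' hy1
  exact h.one.line_eq hL hM hZ hT hZL hTL hZM hTM (fun e => hyZ (e ▸ hyT))

/-- a second point of a line on `Z` -/
theorem exists_pt_out {L : Subgroup G} (hL : IsCj V L) (hZL : Z ≤ L) : ∃ T, IsCj Z T ∧ T ≤ L ∧ T ≠ Z := by
  obtain ⟨S', C', Q', h'⟩ := h.one.flag hL h.one.self.cj hZL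
  obtain ⟨Y, hY, hne⟩ := h'.exists_ne h'.self
  exact ⟨Y, hY.cj, hY.le, hne⟩

section pair

variable {L M : Subgroup G} (hN : NTr V Z) (hL : IsCj V L) (hZL : Z ≤ L)
  (hLM : ∀ m ∈ M, ∃ l ∈ L, ∃ r ∈ rd V Z, m = l * r)
include hN hL hZL hLM

/-- `⟨W_T | T ≤ L⟩` centralises `M` -/
theorem rad_W {T : Subgroup G} (hT : IsCj Z T) (hTL : T ≤ L) : ws V T ≤ centralizer (M : Set G) := by
  intro w hw
  rw [mem_centralizer_iff]
  intro m hm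
  obtain ⟨l, hl, r, hr, rfl⟩ := hLM m hm
  have h1 : l * w = w * l := mem_centralizer_iff.1 (h.one.ws_le_line hL hT hTL hw) l hl
  have h2 : w * r = r * w :=
    h.one.dd_cent_line hL h.one.self.cj hZL hT hTL (h.rd_dd_flag hN hL h.one.self.cj hZL hr) hw
  calc l * r * w = l * (r * w) := mul_assoc _ _ _
    _ = l * (w * r) := by rw [h2]
    _ = l * w * r := (mul_assoc _ _ _).symm
    _ = w * l * r := by rw [h1]
    _ = w * (l * r) := mul_assoc _ _ _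

variable [Finite F] (hM : IsCj V M) (hZM : Z ≤ M)
include hM hZM

/-- `I_L ∩ I_M = Z` -/
theorem rad_inf (hML : ∀ l ∈ L, ∃ m ∈ M, ∃ r ∈ rd V Z, l = m * r) (hne : L ≠ M) : IV L Z ⊓ IV M Z ≤ Z := by
  have hZ := h.one.self.cj
  obtain ⟨S2, C2, Q2, h2⟩ := h.one.flag hM hZ hZM
  have hMI : M ≤ IV M Z := h2.pl.V_le_IV
  have hML' : L ⊓ IV M Z ≤ Z := by
    rintro y ⟨hyL, hyI⟩
    by_contra hyZ
    obtain ⟨m, hm, r, hr, e⟩ := hML y hyL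
    have hrI : r ∈ IV M Z := by
      have e1 : r = m⁻¹ * y := by rw [e]; group
      rw [e1]; exact (IV M Z).mul_mem ((IV M Z).inv_mem (hMI hm)) hyI
    have hrZ : r ∈ Z := h.rd_flag hM hZ hZM ⟨hr, hrI⟩
    have hyM : y ∈ M := by rw [e]; exact M.mul_mem hm (hZM hrZ)
    exact hne (h.line_eq_of_mem hL hM hZL hZM hyL hyM hyZ)
  rintro u ⟨huL, huM⟩
  by_contra huZ
  by_cases hu : u ∈ L
  · exact huZ (hML' ⟨hu, huM⟩)
  obtain ⟨S', C', Q, h'⟩ := h.one.flag hL hZ hZL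
  obtain ⟨T, hT, hTL, hTZ⟩ := h.exists_pt_out hL hZL
  obtain ⟨y, hy, hy1⟩ := h.one.pl.pt_ne_bot hT
  obtain ⟨d, hd, hdL, hdu⟩ := h'.pl.F2' h'.hf h'.hO huL hu hT hTL hy
  rw [kx_line hL] at hd
  have hdZ : d ∈ centralizer (Z : Set G) := centralizer_le hZL hdL
  have hdN := centralizer_le_normalizer _ hdZ
  have hdM : d ∈ normalizer (M : Set G) := by
    rw [← cj_eq_iff]
    refine eq_of_le_of_card_ge ?_ (by rw [card_cj])
    intro x hx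
    rw [mem_cj] at hx
    obtain ⟨l, hl, r, hr, e⟩ := hLM _ hx
    have h1 : d * r * d⁻¹ * r⁻¹ ∈ Z := by
      refine h.rd_flag hL hZ hZL ⟨(rd V Z).mul_mem ((mem_normalizer_iff.1 (norm_rd V Z hdN) r).1 hr)
        ((rd V Z).inv_mem hr), ?_⟩
      obtain ⟨M', Q', s⟩ := h.one.exists_SP (h.w1_le_ee hN) hL hT hTL hZ hZL (Ne.symm hTZ)
      exact s.triv h.one (h.w1_le_ee hN) hd hdL (h.rd_dd_flag hN hL hZ hZL hr)
    have h3 : d * l = l * d := (mem_centralizer_iff.1 hdL l hl).symm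
    have e2 : x = d * r * d⁻¹ * r⁻¹ * (d⁻¹ * x * d) := by
      have e3 : x = d * (l * r) * d⁻¹ := by rw [← e]; group
      have h4 : l * (d * r * d⁻¹ * r⁻¹) = d * r * d⁻¹ * r⁻¹ * l :=
        h.one.comm_W hZ (h.one.line_le_ws hL hZL hl) (h.one.pl.Z_le_ws h1)
      calc x = d * l * r * d⁻¹ := by rw [e3]; group
        _ = l * (d * r * d⁻¹ * r⁻¹) * r := by rw [h3]; group
        _ = d * r * d⁻¹ * r⁻¹ * (l * r) := by rw [h4, mul_assoc]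
        _ = d * r * d⁻¹ * r⁻¹ * (d⁻¹ * x * d) := by rw [e]
    rw [e2]
    exact M.mul_mem (hZM h1) hx
  have huI : d * u * d⁻¹ * u⁻¹ ∈ IV M Z :=
    (IV M Z).mul_mem ((mem_normalizer_iff.1 (normalizer_le_IV M Z hdM) u).1 huM) ((IV M Z).inv_mem huM)
  rw [hdu] at huI
  exact hTZ (h.one.pl.pts_eq hT hZ hy (hML' ⟨hTL hy, huI⟩) hy1)

/-- `I_M ≤ D_Z(L)` -/
theorem rad_dd (hML : ∀ l ∈ L, ∃ m ∈ M, ∃ r ∈ rd V Z, l = m * r) (hne : L ≠ M) : IV M Z ≤ dd L Z Z := by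
  have hZ := h.one.self.cj
  have hinf := h.rad_inf hN hL hZL hLM hM hZM hML hne
  obtain ⟨T, hT, hTL, hTZ⟩ := h.exists_pt_out hL hZL
  obtain ⟨Q, hQ, hQM, hQZ⟩ := h.exists_pt_out hM hZM
  have hIZ : IV M Z ≤ ws V Z := by rw [← h.one.IV_line hM hZ hZM hQ hQM hQZ.symm]; exact inf_le_left
  have hIQ : IV M Z ≤ ws V Q := by rw [← h.one.IV_line hM hZ hZM hQ hQM hQZ.symm]; exact inf_le_right
  intro u hu
  refine h.one.nn_dd (h.nn_N hN) hL hZ hZL hT hTL hTZ (hIZ hu) fun w hw => hinf ⟨?_, ?_⟩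
  · rw [← h.one.IV_line hL hZ hZL hT hTL hTZ.symm]
    have hwL := h.one.ws_le_line hL hT hTL hw
    have h1 : w ∈ normalizer ((ws V Z : Subgroup G) : Set G) :=
      normalizer_le_ws V Z (centralizer_le_normalizer _ (centralizer_le hZL hwL))
    have huL := h.rad_W hN hM hZM hML hQ hQM (hIQ hu)
    have h2 : u ∈ normalizer ((ws V T : Subgroup G) : Set G) :=
      normalizer_le_ws V T (centralizer_le_normalizer _ (centralizer_le hTL huL))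
    refine ⟨?_, (ws V T).mul_mem ((mem_normalizer_iff.1 h2 w).1 hw) ((ws V T).inv_mem hw)⟩
    have e : u * w * u⁻¹ * w⁻¹ = u * (w * u⁻¹ * w⁻¹) := by group
    rw [e]
    exact (ws V Z).mul_mem (hIZ hu) ((mem_normalizer_iff.1 h1 _).1 ((ws V Z).inv_mem (hIZ hu)))
  · have h1 : w ∈ normalizer ((IV M Z : Subgroup G) : Set G) :=
      normalizer_le_IV M Z (centralizer_le_normalizer _ (h.rad_W hN hL hZL hLM hT hTL hw))
    have e : u * w * u⁻¹ * w⁻¹ = u * (w * u⁻¹ * w⁻¹) := by group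
    rw [e]
    exact (IV M Z).mul_mem hu ((mem_normalizer_iff.1 h1 _).1 ((IV M Z).inv_mem hu))

end pair

/-- elements of `E_Q(M)` with given action on `w ∉ E_Z(M)` -/
theorem exists_val [Finite F] (hN : NTr V Z) {M Q : Subgroup G} (hM : IsCj V M) (hZM : Z ≤ M) (hQ : IsCj Z Q)
    (hQM : Q ≤ M) (hQZ : Q ≠ Z) {w k : G} (hw : w ∈ ws V Z) (hwE : w ∉ ee M Z Z) (hk : k ∈ kx V Z) :
    ∃ e ∈ ws V Q, e ∈ kx V Z ∧ e * w * e⁻¹ = k * w * k⁻¹ := by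
  obtain ⟨c, hc, rfl⟩ := h.line_eq hM hZM
  have hcN := centralizer_le_normalizer _ hc
  have hcZ : PT.cj c Z = Z := cj_eq_iff.2 hcN
  have h1 : h.fm ⟨w, hw⟩ ∉ (h.Eb).map (h.rp ⟨c, h.C_le_hat hc⟩) := fun e => hwE ((h.fm_Ec_iff hN hc hw).1 e)
  obtain ⟨φ, hφ, hφk⟩ := Submodule.exists_le_ker_of_notMem h1
  obtain ⟨e, -, he, heK, hee⟩ := dual_line (h.dualN hN) hc ((h.fn w k * (φ (h.fm ⟨w, hw⟩))⁻¹) • φ) fun m hm => by
    rw [LinearMap.smul_apply, show φ (h.rp ⟨c, h.C_le_hat hc⟩ m) = 0 from hφk ⟨m, hm, rfl⟩, smul_zero]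
  have h2 := hee ⟨w, hw⟩
  rw [LinearMap.smul_apply, smul_eq_mul, inv_mul_cancel_right₀ hφ] at h2
  -- move the point
  have hQ0 : PT.cj c h.Yp ≠ Z := fun e1 => h.Yp_ne (cj_inj.1 (e1.trans hcZ.symm))
  obtain ⟨S', C', R', h'⟩ := h.one.flag hM h.one.self.cj hZM
  obtain ⟨t, ht, htQ⟩ := h'.move h'.self ⟨h.pY.cj.cj c, cj_le_cj.2 h.pY.le⟩ ⟨hQ, hQM⟩ hQ0 hQZ
  rw [kx_line hM] at ht
  have hti : t⁻¹ ∈ kx V Z := inv_mem ht
  have hte : t * e * t⁻¹ ∈ kx V Z := (kx V Z).mul_mem ((kx V Z).mul_mem ht heK) hti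
  refine ⟨t * e * t⁻¹, ?_, hte, ?_⟩
  · have h3 := conj_mem_cj (g := t) he
    rwa [← ws_cj, htQ] at h3
  · have h3 : h.fn w (t * e * t⁻¹) = h.fn w k := by
      have h4 : h.fn w (t * t⁻¹) = 0 := by rw [mul_inv_cancel]; exact h.fn_one' hw
      rw [h.fn_mul' hw ht hti] at h4
      rw [h.fn_mul' hw ((kx V Z).mul_mem ht heK) hti, h.fn_mul' hw ht heK, h2, add_right_comm, h4, zero_add]
    have h5 := h.e_fn hw hte
    have h6 := h.e_fn hw hk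
    rw [h3, h6] at h5
    exact (mul_right_cancel h5).symm

/-- comparison of `[d, e]` and `[d, e₁]` -/
theorem rad_key [Finite F] (hN : NTr V Z) {K L Q R : Subgroup G} (s : SP V Z K L Z Q R) {d e e₁ p : G} (hd : d ∈ rd V Q)
    (he : e ∈ kx V Z) (he₁ : e₁ ∈ kx V Z) (hp : p ∈ Q) (hp1 : p ≠ 1) (hep : e₁ * p * e₁⁻¹ = e * p * e⁻¹) :
    ∃ p' ∈ PT.cj e Q, d * e₁ * d⁻¹ * e₁⁻¹ = d * e * d⁻¹ * e⁻¹ * p' := by
  set k := e⁻¹ * e₁ with hk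
  have hkK : k ∈ kx V Z := (kx V Z).mul_mem ((kx V Z).inv_mem he) he₁
  have hkp : k * p = p * k := by
    have e1 : k * p * k⁻¹ = e⁻¹ * (e₁ * p * e₁⁻¹) * e := by rw [hk]; group
    rw [hep] at e1
    have e2 : e⁻¹ * (e * p * e⁻¹) * e = p := by group
    rw [e2] at e1
    exact mul_inv_eq_iff_eq_mul.1 e1
  have hkC : k ∈ centralizer (K : Set G) :=
    h.one.lin_fix s.hL s.hX s.hXL s.hY s.hYL s.hYX.symm (kx_le_cent hkK) hp hp1 hkp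
  have hkQ : k ∈ normalizer ((rd V Q : Subgroup G) : Set G) :=
    norm_rd V Q (centralizer_le_normalizer _ (centralizer_le s.hYL hkC))
  have hdD : d ∈ dd K Z Q := h.rd_dd_flag hN s.hL s.hY s.hYL hd
  have h1 : k * d * k⁻¹ * d⁻¹ ∈ Q :=
    h.rd_flag s.hL s.hY s.hYL ⟨(rd V Q).mul_mem ((mem_normalizer_iff.1 hkQ d).1 hd) ((rd V Q).inv_mem hd),
      s.triv h.one (h.w1_le_ee hN) hkK hkC hdD⟩
  refine ⟨e * (k * d * k⁻¹ * d⁻¹)⁻¹ * e⁻¹, conj_mem_cj (Q.inv_mem h1), ?_⟩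
  have e3 : e₁ = e * k := by rw [hk]; group
  have e4 : d * (e * k) * d⁻¹ * (e * k)⁻¹ = d * e * d⁻¹ * (d * k * d⁻¹ * k⁻¹) * e⁻¹ := by group
  rw [e3, e4]
  group

theorem rad_end {K Q : Subgroup G} (hK : IsCj V K) (hZK : Z ≤ K) (hQ : IsCj Z Q) (hQK : Q ≤ K)
    {d e : G} (hd : d ∈ rd V Q) (he : e ∈ kx V Z) (heQ : PT.cj e Q ≠ Q)
    (hD : d * e * d⁻¹ * e⁻¹ ∈ ws V (PT.cj e Q)) : d ∈ Q := by
  have hK1 : PT.cj e K = K := cj_eq_iff.2 (h.one.K_norm_line hK h.one.self.cj hZK he)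
  have hQK' : PT.cj e Q ≤ K := by
    have := cj_le_cj (g := e) |>.2 hQK
    rwa [hK1] at this
  have h1 : e * d⁻¹ * e⁻¹ ∈ ws V (PT.cj e Q) := by
    rw [ws_cj]
    exact conj_mem_cj ((ws V Q).inv_mem (rd_le hd))
  have h2 : d ∈ ws V (PT.cj e Q) := by
    have e1 : d = d * e * d⁻¹ * e⁻¹ * (e * d⁻¹ * e⁻¹)⁻¹ := by group
    rw [e1]
    exact (ws V _).mul_mem hD ((ws V _).inv_mem h1)
  exact h.rd_flag hK hQ hQK ⟨hd, by rw [← h.one.IV_line hK hQ hQK (hQ.cj e) hQK' heQ.symm]; exact ⟨rd_le hd, h2⟩⟩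

/-- **a line in `V rd` is `V`** -/
theorem rad_line [Finite F] (hN : NTr V Z) {M : Subgroup G} (hM : IsCj V M) (hZM : Z ≤ M)
    (hMV : ∀ m ∈ M, ∃ v ∈ V, ∃ r ∈ rd V Z, m = v * r) (hVM : ∀ v ∈ V, ∃ m ∈ M, ∃ r ∈ rd V Z, v = m * r) : M = V := by
  by_contra hne
  have hZ := h.one.self.cj
  have hV : IsCj V V := ⟨1, (cj_one V).symm⟩
  have hZV := h.one.pl.ZV
  have hw1 := h.w1_le_ee hN
  obtain ⟨K, Q, s⟩ := h.one.exists_SP hw1 hV hZ hZV h.pY.cj h.pY.le h.Yp_ne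
  have hZK := s.hXM
  have hK := s.hM
  have hQ := s.hQ
  have hQK := s.hQM
  have hQZ := s.hQX
  obtain ⟨T, hT, hTM, hTZ⟩ := h.exists_pt_out hM hZM
  -- `e ∈ E_Y(V)` moves `Q`
  obtain ⟨e, he, heK, heQ⟩ := s.symm.exists_e h.one hw1
  have hK1 : PT.cj e K = K := cj_eq_iff.2 (h.one.K_norm_line hK hZ hZK heK)
  have hQe : PT.cj e Q ≤ K := by
    have := cj_le_cj (g := e) |>.2 hQK
    rwa [hK1] at this
  have hQeZ : PT.cj e Q ≠ Z := by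
    intro e1
    have e2 : PT.cj e Z = Z := cj_eq_iff.2 (centralizer_le_normalizer _ (kx_le_cent heK))
    exact hQZ (cj_inj.1 (e1.trans e2.symm))
  -- `d ∈ rd_Q - Q`
  obtain ⟨d, hd, hdQ⟩ : ∃ d ∈ rd V Q, d ∉ Q := by
    by_contra hcon
    push Not at hcon
    obtain ⟨g, rfl⟩ := hQ
    rw [← cj_rd] at hcon
    have hr : rd V Z ≤ Z := cj_le_cj.1 hcon
    apply hne
    refine eq_of_le_of_card_ge (fun m hm => ?_) ?_
    · obtain ⟨v, hv, r, hr', rfl⟩ := hMV m hm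
      exact V.mul_mem hv (hZV (hr hr'))
    · obtain ⟨x, rfl⟩ := hM
      rw [card_cj]
  have hdD : d ∈ dd K Z Q := h.rd_dd_flag hN hK hQ hQK hd
  set D := d * e * d⁻¹ * e⁻¹ with hDdef
  have hDV : D ∈ IV V Z := s.symm.comm h.one hw1 he heK hdD
  have hDK : D ∈ dd K Z Z := s.symm.comm' h.one hw1 he heK hdD
  have hfin : D ∉ ws V (PT.cj e Q) := fun e1 => hdQ (h.rad_end hK hZK hQ hQK hd heK heQ e1)
  -- `M ≰ E_Z(K)`
  have hTE : ∃ t ∈ T, t ∉ ee K Z Z := by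
    obtain ⟨y, hy, hyE⟩ := s.s2
    obtain ⟨m, hm, r, hr, e1⟩ := hVM y (h.pY.le hy)
    have hrE : r ∈ ee K Z Z := by
      have h1 := h.rd_dd_flag hN hK hZ hZK hr
      obtain ⟨S', C', Q', h'⟩ := h.one.flag hK hZ hZK
      exact h'.dd_le_ee h'.self h1
    have hmE : m ∉ ee K Z Z := fun e2 => hyE (by rw [e1]; exact (ee K Z Z).mul_mem e2 hrE)
    obtain ⟨z, hz, t, ht, e3⟩ := h.one.line_mul hM hZ hZM hT hTM hTZ.symm hm
    exact ⟨t, ht, fun e2 => hmE (by rw [e3]; exact (ee K Z Z).mul_mem (h.one.X_le_ee hK hZ hZK hz) e2)⟩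
  have hIM : IV V Z ≤ dd M Z Z := h.rad_dd hN hM hZM hVM hV hZV hMV hne
  by_cases hs : ∃ q ∈ Q, q ∉ ee M Z Z
  · -- `(K, M)` is an S-pair
    obtain ⟨q, hq, hqE⟩ := hs
    have hq1 : q ≠ 1 := fun e1 => hqE (e1 ▸ one_mem _)
    have s' : SP V Z K M Z Q T := ⟨hK, hM, hZ, hZK, hZM, hQ, hQK, hQZ, hT, hTM, hTZ, hTE, ⟨q, hq, hqE⟩⟩
    obtain ⟨e₁, he₁, he₁K, hee⟩ := h.exists_val hN hM hZM hT hTM hTZ (h.one.line_le_ws hK hZK (hQK hq)) hqE heK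
    obtain ⟨p', hp', hD1⟩ := h.rad_key hN s' hd heK he₁K hq hq1 hee
    rw [← hDdef] at hD1
    have hD1M : d * e₁ * d⁻¹ * e₁⁻¹ ∈ IV M Z := s'.comm h.one hw1 he₁ he₁K hdD
    have hMV' : IV M Z ≤ dd V Z Z := h.rad_dd hN hV hZV hMV hM hZM hVM (Ne.symm hne)
    have hp'D : p' ∈ dd V Z Z := by
      have e1 : p' = D⁻¹ * (d * e₁ * d⁻¹ * e₁⁻¹) := by rw [hD1]; group
      rw [e1]
      exact (dd V Z Z).mul_mem ((dd V Z Z).inv_mem (h.one.I_le_dd h.one.self hDV)) (hMV' hD1M)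
    have hp'1 : p' = 1 := by
      by_contra hp'1
      have h1 := h.one.le_ee_of hw1 hV hK hZ hZV hZK h.pY.cj h.pY.le h.Yp_ne (hQ.cj e) hQe hQeZ hp' hp'1
        (h.one.dd_le_ee h.one.self hp'D)
      obtain ⟨q', hq', hq'E⟩ := s.s1
      exact hq'E (h1 (hQK hq'))
    rw [hp'1, mul_one] at hD1
    have hDZ : D ∈ Z := h.rad_inf hN hV hZV hMV hM hZM hVM (Ne.symm hne) ⟨hDV, by rw [← hD1]; exact hD1M⟩
    refine hfin ?_
    have h2 := h.one.line_le_ws hK hQe (hZK hDZ)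
    exact h2
  · push Not at hs
    obtain ⟨t, ht, htE⟩ := hTE
    obtain ⟨y, hy, b, hb, hby⟩ := h.one.asym hw1 hK hM hZ hZK hZM hQ hQK hQZ hT hTM hTZ ht htE
    have hc : y * b * y⁻¹ * b⁻¹ ∈ T := h.one.ee_line_act hM hZ hZM hT hTM hTZ (hs y hy) hb
    have hbM := h.one.ws_le_line hM hT hTM hb
    have hbZ : PT.cj b Z = Z := by
      rw [cj_eq_iff]
      exact centralizer_le_normalizer _ (centralizer_le hZM hbM)
    have hbi : b⁻¹ = b := h.one.W_inv hT hb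
    have hyE : y ∈ ee K Z Z := by
      obtain ⟨S', C', R, h'⟩ := h.one.flag hK hZ hZK
      have h1 := (h'.pl.V_le_IV.trans (h'.I_le_dd h'.self)).trans (h'.dd_le_ee h'.self)
      exact h1 (hQK hy)
    have hMnot : ¬ M ≤ ee K Z Z := fun e1 => htE (e1 (hTM ht))
    have key : b * y * b⁻¹ ∉ ee K Z Z := by
      intro e1
      have h1 : y * b * y⁻¹ * b⁻¹ ∈ ee K Z Z := by
        have h2 : y * b * y⁻¹ * b⁻¹ = y * (b * y * b⁻¹)⁻¹ := by group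
        rw [h2]
        exact (ee K Z Z).mul_mem hyE ((ee K Z Z).inv_mem e1)
      have h3 : y * b * y⁻¹ * b⁻¹ ≠ 1 := by
        intro e1
        rw [mul_inv_eq_one, mul_inv_eq_iff_eq_mul] at e1
        exact hby e1.symm
      exact hMnot (h.one.le_ee_of hw1 hK hM hZ hZK hZM hQ hQK hQZ hT hTM hTZ hc h3 h1)
    have hyK1 : y ∉ ee (PT.cj b K) Z Z := by
      intro e1
      apply key
      have h2 : y ∈ PT.cj b (ee K Z Z) := by
        rw [cj_conj_ee, hbZ]; exact e1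
      have h3 := mem_cj.1 h2
      rwa [hbi] at h3 ⊢
    have hZK1 : Z ≤ PT.cj b K := by
      nth_rewrite 1 [← hbZ]
      exact cj_le_cj.2 hZK
    have hQ1Z : PT.cj b Q ≠ Z := fun e1 => hQZ (cj_inj.1 (e1.trans hbZ.symm))
    have s' : SP V Z K (PT.cj b K) Z Q (PT.cj b Q) :=
      ⟨hK, hK.cj b, hZ, hZK, hZK1, hQ, hQK, hQZ, hQ.cj b, cj_le_cj.2 hQK, hQ1Z, ⟨b * y * b⁻¹, conj_mem_cj hy, key⟩,
        ⟨y, hy, hyK1⟩⟩
    have hy1 : y ≠ 1 := fun e1 => hyK1 (e1 ▸ one_mem _)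
    obtain ⟨e₁, he₁, he₁K, hee⟩ := h.exists_val hN (hK.cj b) hZK1 (hQ.cj b) (cj_le_cj.2 hQK) hQ1Z
      (h.one.line_le_ws hK hZK (hQK hy)) hyK1 heK
    obtain ⟨p', hp', hD1⟩ := h.rad_key hN s' hd heK he₁K hy hy1 hee
    rw [← hDdef] at hD1
    have hD1M : d * e₁ * d⁻¹ * e₁⁻¹ ∈ IV (PT.cj b K) Z := s'.comm h.one hw1 he₁ he₁K hdD
    -- `b` centralises `D`
    have hbD : b * D = D * b := h.one.dd_cent_line hM hZ hZM hT hTM (hIM hDV) hb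
    have hD1K : b⁻¹ * (d * e₁ * d⁻¹ * e₁⁻¹) * b ∈ IV K Z := by
      have h1 : IV (PT.cj b K) Z = PT.cj b (IV K Z) := by
        obtain ⟨S', C', R, h'⟩ := h.one.flag hK hZ hZK
        rw [← PB.Geom.IV_conj h'.pl h'.hf, hbZ]
      rw [h1, mem_cj] at hD1M
      exact hD1M
    have e5 : b⁻¹ * (d * e₁ * d⁻¹ * e₁⁻¹) * b = D * (b⁻¹ * p' * b) := by
      rw [hD1]
      have e6 : b⁻¹ * (D * p') * b = b⁻¹ * D * p' * b := by group
      have e7 : b⁻¹ * D = D * b⁻¹ := by rw [hbi]; exact hbD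
      rw [e6, e7]; group
    rw [e5] at hD1K
    have hIKD : IV K Z ≤ dd K Z Z := h.one.I_le_dd_line hK hZ hZK
    have hp'D : b⁻¹ * p' * b ∈ dd K Z Z := by
      have e1 : b⁻¹ * p' * b = D⁻¹ * (D * (b⁻¹ * p' * b)) := by group
      rw [e1]
      exact (dd K Z Z).mul_mem ((dd K Z Z).inv_mem hDK) (hIKD hD1K)
    have hp'1 : b⁻¹ * p' * b = 1 := by
      by_contra hp'1
      have h1 : b⁻¹ * p' * b ∈ PT.cj b (PT.cj e Q) := by
        rw [mem_cj]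
        have e1 : b⁻¹ * (b⁻¹ * p' * b) * b = p' := by
          have e2 : b * b = 1 := by
            have := inv_mul_cancel b
            rwa [hbi] at this
          rw [hbi]
          calc b * (b * p' * b) * b = b * b * p' * (b * b) := by group
            _ = p' := by rw [e2]; group
        rw [e1]; exact hp'
      have hneZ : PT.cj b (PT.cj e Q) ≠ Z := fun e1 => hQeZ (cj_inj.1 (e1.trans hbZ.symm))
      have hddE : dd K Z Z ≤ ee K Z Z := by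
        obtain ⟨S', C', R, h'⟩ := h.one.flag hK hZ hZK
        exact h'.dd_le_ee h'.self
      have h2 := h.one.le_ee_of hw1 hK (hK.cj b) hZ hZK hZK1 hQ hQK hQZ ((hQ.cj e).cj b) (cj_le_cj.2 hQe) hneZ h1 hp'1
        (hddE hp'D)
      exact key (h2 (cj_le_cj.2 hQK (conj_mem_cj hy)))
    rw [hp'1, mul_one] at hD1K
    refine hfin ?_
    have h2 := h.one.IV_line hK hQ hQK (hQ.cj e) hQe heQ.symm
    rw [← h2] at hD1K
    exact hD1K.2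

/-- an element of `C_G(Z)` which fixes the point `F v0` normalises `V` -/
theorem norm_of_smul_N [Finite F] (hN : NTr V Z) {g : G} (hg : g ∈ centralizer (Z : Set G)) {c : F}
    (h1 : h.rp ⟨g, h.C_le_hat hg⟩ h.v0 = c • h.v0) : g ∈ normalizer (V : Set G) := by
  have hgN := centralizer_le_normalizer _ hg
  have hgZ : PT.cj g Z = Z := cj_eq_iff.2 hgN
  have hV : IsCj V V := ⟨1, (cj_one V).symm⟩
  have hc : c ≠ 0 := by
    rintro rfl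
    rw [zero_smul] at h1
    have h2 : h.rp ⟨g⁻¹, inv_mem (h.C_le_hat hg)⟩ (h.rp ⟨g, h.C_le_hat hg⟩ h.v0) = h.v0 := by
      rw [← Module.End.mul_apply, ← map_mul]
      have e : (⟨g⁻¹, inv_mem (h.C_le_hat hg)⟩ : h.hat) * ⟨g, h.C_le_hat hg⟩ = 1 := Subtype.ext (inv_mul_cancel g)
      rw [e, map_one]; rfl
    rw [h1, map_zero] at h2
    exact h.v0_ne h2.symm
  -- `g e(0,y) g⁻¹ ∈ e(0, y c) rd`
  have hact : ∀ y, g * h.e 0 y * g⁻¹ * (h.e 0 (y * c))⁻¹ ∈ rd V Z := by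
    intro y
    have e : h.rp ⟨g, h.C_le_hat hg⟩ (h.fm ⟨h.e 0 y, h.W_V 0 y⟩) = _ := h.rp_fm' (h.C_le_hat hg) (h.W_V 0 y)
    have e2 : h.rp ⟨g, h.C_le_hat hg⟩ (h.fm ⟨h.e 0 y, h.W_V 0 y⟩) = h.fm ⟨h.e 0 (y * c), h.W_V 0 (y * c)⟩ := by
      rw [h.fm_e, map_smul, h1, h.fm_e, smul_smul]
    rw [e, h.fm_eq] at e2
    exact e2
  have hZg : ∀ x, g * h.e x 0 * g⁻¹ = h.e x 0 := fun x => by
    rw [(mem_centralizer_iff.1 hg _ (h.e_memZ x)).symm, mul_inv_cancel_right]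
  have hcom : ∀ {v r : G}, v ∈ V → r ∈ rd V Z → v * r = r * v := fun hv hr =>
    h.one.comm_W h.one.self.cj (h.one.V_le_W h.one.self hv) (rd_le hr)
  have hMV : ∀ m ∈ PT.cj g V, ∃ v ∈ V, ∃ r ∈ rd V Z, m = v * r := by
    intro m hm
    rw [mem_cj] at hm
    obtain ⟨x, y, hxy⟩ := (h.mem_V _).1 hm
    refine ⟨h.e x (y * c), h.e_memV _ _, g * h.e 0 y * g⁻¹ * (h.e 0 (y * c))⁻¹, hact y, ?_⟩
    have e0 : m = g * h.e x y * g⁻¹ := by rw [hxy]; group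
    have e1 : h.e x y = h.e x 0 * h.e 0 y := by rw [← h.e_add, add_zero, zero_add]
    have e2 : h.e x (y * c) = h.e x 0 * h.e 0 (y * c) := by rw [← h.e_add, add_zero, zero_add]
    have e3 := hcom (h.e_memV 0 (y * c)) (hact y)
    calc m = g * h.e x 0 * g⁻¹ * (g * h.e 0 y * g⁻¹) := by rw [e0, e1]; group
      _ = h.e x 0 * (g * h.e 0 y * g⁻¹ * (h.e 0 (y * c))⁻¹ * h.e 0 (y * c)) := by rw [hZg]; group
      _ = h.e x 0 * (h.e 0 (y * c) * (g * h.e 0 y * g⁻¹ * (h.e 0 (y * c))⁻¹)) := by rw [e3]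
      _ = h.e x (y * c) * (g * h.e 0 y * g⁻¹ * (h.e 0 (y * c))⁻¹) := by rw [e2]; group
  have hVM : ∀ v ∈ V, ∃ m ∈ PT.cj g V, ∃ r ∈ rd V Z, v = m * r := by
    intro v hv
    obtain ⟨x, y, rfl⟩ := (h.mem_V _).1 hv
    have h2 := hact (y * c⁻¹)
    rw [inv_mul_cancel_right₀ hc] at h2
    refine ⟨g * h.e x (y * c⁻¹) * g⁻¹, conj_mem_cj (h.e_memV _ _), _, (rd V Z).inv_mem h2, ?_⟩
    have e1 : h.e x (y * c⁻¹) = h.e x 0 * h.e 0 (y * c⁻¹) := by rw [← h.e_add, add_zero, zero_add]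
    have e2 : h.e x y = h.e x 0 * h.e 0 y := by rw [← h.e_add, add_zero, zero_add]
    have e3 : g * h.e x (y * c⁻¹) * g⁻¹ = g * h.e x 0 * g⁻¹ * (g * h.e 0 (y * c⁻¹) * g⁻¹) := by rw [e1]; group
    have e4 := hcom (h.e_memV 0 y) h2
    obtain ⟨r, hr⟩ : ∃ r, r = g * h.e 0 (y * c⁻¹) * g⁻¹ * (h.e 0 y)⁻¹ := ⟨_, rfl⟩
    have e5 : g * h.e 0 (y * c⁻¹) * g⁻¹ = r * h.e 0 y := by rw [hr]; group
    rw [← hr] at e4 ⊢
    rw [e3, hZg, e2, e5]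
    calc h.e x 0 * h.e 0 y = h.e x 0 * (h.e 0 y * r) * r⁻¹ := by group
      _ = h.e x 0 * (r * h.e 0 y) * r⁻¹ := by rw [e4]
  rw [← cj_eq_iff]
  refine h.rad_line hN ⟨g, rfl⟩ ?_ hMV hVM
  nth_rewrite 1 [← hgZ]
  exact cj_le_cj.2 h.one.pl.ZV

/-- an element of `C_G(Z)` fixing the line vector lies in `K_Z C_G(V)` -/
theorem fix_v0_N [Finite F] (hN : NTr V Z) {d : G} (hd : d ∈ centralizer (Z : Set G))
    (hd0 : h.rp ⟨d, h.C_le_hat hd⟩ h.v0 = h.v0) : ∃ k ∈ kx V Z, k⁻¹ * d ∈ centralizer (V : Set G) := by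
  have hdV : d ∈ normalizer (V : Set G) := h.norm_of_smul_N hN hd (c := 1) (by rw [hd0, one_smul])
  have h1 : d * h.e 0 1 * d⁻¹ * (h.e 0 1)⁻¹ ∈ Z := by
    have e : h.rp ⟨d, h.C_le_hat hd⟩ (h.fm ⟨h.e 0 1, h.W_V 0 1⟩) = _ := h.rp_fm' (h.C_le_hat hd) (h.W_V 0 1)
    have e2 : h.rp ⟨d, h.C_le_hat hd⟩ (h.fm ⟨h.e 0 1, h.W_V 0 1⟩) = h.fm ⟨h.e 0 1, h.W_V 0 1⟩ := by
      rw [h.fm_e, map_smul, hd0]
    rw [e, h.fm_eq] at e2
    exact h.rd_inf_I ⟨e2, h.one.pl.V_le_IV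
      (V.mul_mem ((mem_normalizer_iff.1 hdV _).1 (h.e_memV 0 1)) (V.inv_mem (h.e_memV 0 1)))⟩
  obtain ⟨t, ht⟩ := (h.mem_Z _).1 h1
  obtain ⟨k, hk, -, hkt⟩ := h.exists_K t
  refine ⟨k, hk, ?_⟩
  have hkC : k ∈ centralizer (Z : Set G) := kx_le_cent hk
  have hfC : k⁻¹ * d ∈ centralizer (Z : Set G) := mul_mem (inv_mem hkC) hd
  have e1 : d * h.e 0 1 * d⁻¹ = k * h.e 0 1 * k⁻¹ := by
    rw [hkt, zero_add, mul_one]
    have e2 : d * h.e 0 1 * d⁻¹ = h.e t 0 * h.e 0 1 := by rw [ht]; group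
    rw [e2, ← h.e_add, add_zero, zero_add]
  refine h.one.lin_base (v := h.e 0 1) (fun x hx => (mem_centralizer_iff.1 hfC x hx).symm) (h.e_memV 0 1) ?_ ?_
  · rw [h.e_memZ_iff]
    exact one_ne_zero
  · calc k⁻¹ * d * h.e 0 1 = k⁻¹ * (d * h.e 0 1 * d⁻¹) * d := by group
      _ = k⁻¹ * (k * h.e 0 1 * k⁻¹) * d := by rw [e1]
      _ = h.e 0 1 * (k⁻¹ * d) := by group

end Co

end Cfsg.Agent.Omega.NO3S.OneQ

end

section


/-!
# NO-3S, `OneSz` (`q ≥ 4`, `n = 1`), case (N): KAPPA in the module `MF` (bb OMEGA #20317 (F))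

`m = c v₀`, `c ∈ C_G(Z)`, a line vector; `dual` : exact duality.

* `Co.K_one_act` : the action of `k ∈ K_Z` with `fn (e 0 1) k = 1`;
* **`Co.kapM`** : `f` kills `Ē_m`, `f v₀ = 1`, `f (α(y) m) = 0` ==> some `u ∈ I ∩ I_m` is `α(y) y - y` modulo `λ`;
* `Co.kap_alpha` : if moreover `D_Z ≤ I` and `α(y) y - y ∉ λ`, then `α(a m) m = m` (ALPHA);
* **`Co.kap`** : the same for every `D_Z` (LEMMA K if `D_Z ≰ I`);
* **`Co.exists_SPM`** : S-pairs exist: `v₀ ∉ c Ē`, `c v₀ ∉ Ē` for some `c ∈ C_G(Z)`.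
-/

set_option autoImplicit false
set_option linter.unusedSectionVars false

namespace Cfsg.Agent.Omega.NO3S.OneQ.Co

open Subgroup Cfsg Cfsg.Agent.Omega.NO3S.PT Cfsg.Agent.Omega.NoFF.Basic
open scoped Pointwise

universe u

variable {G : Type u} [Group G] [Finite G] {F : Type*} [Field F] [CharP F 2] {S : Sylow 2 G} {B P V Z : Subgroup G}
  (h : Co F S B P V Z)

/-- the action of `k ∈ K_Z` with `fn (e 0 1) k = 1` -/
theorem K_one_act {k : G} (hk : k ∈ kx V Z) (h1 : h.fn (h.e 0 1) k = 1) (x y : F) :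
    k * h.e x y * k⁻¹ = h.e (x + y) y := by
  obtain ⟨t, ht⟩ := h.K_tv hk
  have h2 := h.e_fn (h.W_V 0 1) hk
  rw [h1, ht, h.e_inv, ← h.e_add] at h2
  have h3 := (h.e_inj h2).1
  rw [zero_add, mul_one, add_zero] at h3
  rw [ht, ← h3, one_mul]

/-- **KAPPA** -/
theorem kapM (hN : NTr V Z) (dual : h.Dual) {c : G} (hc : c ∈ centralizer (Z : Set G)) (f : h.MF →ₗ[F] F)
    (hf : ∀ m ∈ h.Eb, f (h.rp ⟨c, h.C_le_hat hc⟩ m) = 0) (hf1 : f h.v0 = 1) (y : h.MF)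
    (hy : f (h.al y (h.rp ⟨c, h.C_le_hat hc⟩ h.v0)) = 0) :
    ∃ u, ∃ hu : u ∈ IV V Z, u ∈ IV (PT.cj c V) Z ∧ h.fm ⟨u, h.one.I_le_W' hu⟩ + (h.al y y - y) ∈ h.lam := by
  have hVV : IsCj V V := ⟨1, (cj_one V).symm⟩
  have hZ := h.one.pl.isCj_self
  have hcN := centralizer_le_normalizer _ hc
  have hcZ : PT.cj c Z = Z := cj_eq_iff.2 hcN
  have hZM : Z ≤ PT.cj c V := by
    nth_rewrite 1 [← hcZ]
    exact cj_le_cj.2 h.one.pl.ZV
  obtain ⟨e, -, he, heK, hee⟩ := dual_line dual hc f hf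
  obtain ⟨w₀, rfl⟩ := h.fm_surj y
  obtain ⟨w, hwd⟩ : ∃ w, w = h.sw * w₀ * h.sw⁻¹ := ⟨_, rfl⟩
  have hwY : w ∈ ws V h.Yp := by rw [hwd]; exact h.sw_W w₀.2
  have hwh : w ∈ h.hat := h.W_hat h.pY hwY
  have hal : h.al (h.fm w₀) = h.rp ⟨w, hwh⟩ := by
    rw [h.al_fm hN, ag]
    congr 1
    exact Subtype.ext hwd.symm
  have hact := h.K_one_act heK (by rw [hee ⟨_, h.W_V 0 1⟩]; exact hf1)
  have heY : PT.cj e h.Yp ≠ h.Yp := by
    intro hcon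
    have h1 : e * h.e 0 1 * e⁻¹ ∈ PT.cj e h.Yp := conj_mem_cj (h.e_memY 1)
    rw [hcon, hact] at h1
    obtain ⟨b, hb⟩ := h1
    have h2 := (h.e_inj hb).1
    rw [zero_add] at h2
    exact zero_ne_one h2
  have hge : ∀ z ∈ Z, e * (h.sw * z * h.sw⁻¹) * e⁻¹ = z * (h.sw * z * h.sw⁻¹) := by
    intro z hz
    obtain ⟨x, rfl⟩ := (h.mem_Z z).1 hz
    rw [h.sw_act, hact, ← h.e_add, add_zero]
    congr 1 <;> rw [zero_add]
  have hQZ : PT.cj c h.Yp ≠ Z := fun e1 => h.Yp_ne (cj_inj.1 (e1.trans hcZ.symm))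
  have hkap := h.one.kappa hVV ⟨c, rfl⟩ hZ h.one.pl.ZV hZM h.pY.cj h.pY.le h.Yp_ne (h.pY.cj.cj c)
    (cj_le_cj.2 h.pY.le) hQZ hwY he heK heY (fun q hq => by
      rw [mem_cj] at hq
      obtain ⟨b, hb⟩ := hq
      have hqe : q = c * h.e 0 b * c⁻¹ := by rw [hb]; group
      have hqW : q ∈ ws V Z := by rw [hqe]; exact h.W_conj hcN (h.W_V 0 b)
      have hwq : w * q * w⁻¹ ∈ ws V Z := h.W_conj (h.hat_norm hwh) hqW
      rw [← h.fn_eq_zero hwq heK, hee ⟨_, hwq⟩, ← h.rp_fm' hwh hqW]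
      have h2 : h.fm ⟨q, hqW⟩ = b • h.rp ⟨c, h.C_le_hat hc⟩ h.v0 := by
        rw [← map_smul, ← h.fm_e 0 b, h.rp_fm' (h.C_le_hat hc) (h.W_V 0 b)]
        exact congrArg h.fm (Subtype.ext hqe)
      rw [h2, map_smul, map_smul, ← hal, hy, smul_zero])
  obtain ⟨huV, huM, -⟩ := hkap
  have hmod := h.kap_mod h.sw_XV (by rw [h.cj_sw]; exact h.Yp_ne) heK hge (by rw [h.cj_sw]; exact heY) w₀.2
  rw [← hwd] at hmod
  refine ⟨_, huV, huM, ?_⟩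
  obtain ⟨u', hu', hu'e, e'⟩ := h.rp_W h.pY h.Yp_ne hwY w₀
  rw [hal, e', ← h.fm_mul]
  have hI := mul_mem huV hu'
  refine (h.fm_mem_lam_I hI).2 ?_
  have e2 : (w₀ * w * (w₀ : G)⁻¹ * w⁻¹)⁻¹ = u' := by rw [hu'e]; group
  rwa [e2] at hmod

/-- KAPPA and ALPHA, `D_Z ≤ I` -/
theorem kap_alpha (hG : IsCharacteristicTwoType G) (hN : NTr V Z) (hD : dd V Z Z ≤ IV V Z) (dual : h.Dual) {c : G}
    (hc : c ∈ centralizer (Z : Set G)) (f : h.MF →ₗ[F] F)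
    (hf : ∀ m ∈ h.Eb, f (h.rp ⟨c, h.C_le_hat hc⟩ m) = 0) (hf1 : f h.v0 = 1) (y : h.MF)
    (hy : f (h.al y (h.rp ⟨c, h.C_le_hat hc⟩ h.v0)) = 0) (hq : h.al y y - y ∉ h.lam) (a : F) :
    h.al (a • h.rp ⟨c, h.C_le_hat hc⟩ h.v0) (h.rp ⟨c, h.C_le_hat hc⟩ h.v0) = h.rp ⟨c, h.C_le_hat hc⟩ h.v0 := by
  obtain ⟨u, hu, huM, hul⟩ := h.kapM hN dual hc f hf hf1 y hy
  have hcN := centralizer_le_normalizer _ hc
  have hcZ : PT.cj c Z = Z := cj_eq_iff.2 hcN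
  have hcI : IV (PT.cj c V) Z = PT.cj c (IV V Z) := by
    have h1 := PB.Geom.IV_conj h.one.pl h.one.hf c
    rwa [hcZ] at h1
  rw [hcI, mem_cj] at huM
  have huW := h.one.I_le_W' hu
  refine h.alphaM hG hN (h.ha_of_dual hN hD dual) hc (u := h.fm ⟨u, huW⟩) (u' := h.fm ⟨c⁻¹ * u * c, h.one.I_le_W' huM⟩)
    (fun e => hq ?_) ⟨u, hu, rfl⟩ ⟨_, huM, rfl⟩ ?_ a
  · rw [e, zero_add] at hul
    exact hul
  · rw [h.rp_fm' (h.C_le_hat hc) (h.one.I_le_W' huM)]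
    congr 1
    exact Subtype.ext (by show c * (c⁻¹ * u * c) * c⁻¹ = u; group)

include h in
theorem not_V_le {c : G} (hN : NTr V Z) (hc : c ∈ centralizer (Z : Set G))
    (hv : h.v0 ∉ (h.Eb).map (h.rp ⟨c, h.C_le_hat hc⟩)) : ¬ V ≤ ee (PT.cj c V) Z Z := fun e =>
  hv ((h.fm_Ec_iff hN hc (h.W_V 0 1)).2 (e (h.e_memV 0 1)))

/-- **(F), the group part** -/
theorem kap [Finite F] (hG : IsCharacteristicTwoType G) (hN : NTr V Z) {c : G} (hc : c ∈ centralizer (Z : Set G))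
    (f : h.MF →ₗ[F] F) (hf : ∀ m ∈ h.Eb, f (h.rp ⟨c, h.C_le_hat hc⟩ m) = 0) (hf0 : f h.v0 ≠ 0) (y : h.MF)
    (hy : f (h.al y (h.rp ⟨c, h.C_le_hat hc⟩ h.v0)) = 0) (hq : h.al y y - y ∉ h.lam) (a : F) :
    h.al (a • h.rp ⟨c, h.C_le_hat hc⟩ h.v0) (h.rp ⟨c, h.C_le_hat hc⟩ h.v0) = h.rp ⟨c, h.C_le_hat hc⟩ h.v0 := by
  by_cases hD : dd V Z Z ≤ IV V Z
  · refine h.kap_alpha hG hN hD (h.dualN hN) hc ((f h.v0)⁻¹ • f) (fun m hm => ?_) ?_ y ?_ hq a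
    · rw [LinearMap.smul_apply, hf m hm, smul_zero]
    · rw [LinearMap.smul_apply, smul_eq_mul, inv_mul_cancel₀ hf0]
    · rw [LinearMap.smul_apply, hy, smul_zero]
  · refine h.lemKM_of hN hD hc (h.not_V_le hN hc ?_) a
    rintro ⟨m, hm, hmv⟩
    exact hf0 (by rw [← hmv]; exact hf m hm)

/-- **S-pairs exist** -/
theorem exists_SPM [Finite F] (hN : NTr V Z) : ∃ c, ∃ hc : c ∈ centralizer (Z : Set G),
    h.v0 ∉ (h.Eb).map (h.rp ⟨c, h.C_le_hat hc⟩) ∧ h.rp ⟨c, h.C_le_hat hc⟩ h.v0 ∉ h.Eb := by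
  have hVV : IsCj V V := ⟨1, (cj_one V).symm⟩
  obtain ⟨M, Q, s⟩ := h.one.exists_SP (h.w1_le_ee hN) hVV h.one.pl.isCj_self h.one.pl.ZV h.pY.cj h.pY.le h.Yp_ne
  have hM := s.hM
  have hZM := s.hXM
  obtain ⟨c, hc, rfl⟩ := h.line_eq hM hZM
  have hcN := centralizer_le_normalizer _ hc
  refine ⟨c, hc, fun hv => ?_, fun hmE => ?_⟩
  · obtain ⟨y, hy, hyE⟩ := s.s2
    obtain ⟨b, rfl⟩ := hy
    apply hyE
    rw [← h.fm_Ec_iff hN hc (h.W_V 0 b), h.fm_e]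
    exact Submodule.smul_mem _ _ hv
  · obtain ⟨q, hq, hqE⟩ := s.s1
    apply hqE
    have hqM := s.hQM hq
    rw [mem_cj] at hqM
    obtain ⟨x, y, hxy⟩ := (h.mem_V _).1 hqM
    obtain rfl : q = c * h.e x y * c⁻¹ := by rw [hxy]; group
    rw [← h.fm_Eb_iff hN (w := ⟨c * h.e x y * c⁻¹, h.W_conj hcN (h.W_V x y)⟩)]
    have hcv : h.fm ⟨c * h.e x y * c⁻¹, h.W_conj hcN (h.W_V x y)⟩ = y • h.rp ⟨c, h.C_le_hat hc⟩ h.v0 := by
      rw [← map_smul, ← h.fm_e x y, h.rp_fm' (h.C_le_hat hc) (h.W_V x y)]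
    rw [hcv]
    exact Submodule.smul_mem _ _ hmE

end Cfsg.Agent.Omega.NO3S.OneQ.Co

end

section


/-!
# NO-3S, `OneSz` (`q ≥ 4`, `n = 1`), case (N), `k ≥ 2`: the end of `D_x ≰ I` (pure)

* **`Pre.dx_end`** : TI, an S-pair `l, m` with `[A_l, m] ≤ Ebar_m`, `[A_m, l] ≤ Ebar_l` (the pairs are partial), LEMMA K
  (`α_l(m)` fixes `m`) and (S2) (`C_{A_l}(m)` has dimension 1): impossible.

`b = α_l(m)`, `b₂ = α_m(l)`: `[a, b₂] ∈ C_{A_l}(m)` for all `a ∈ A_l`, some `a₁ ∈ A_l` has `[a₁, b₂] = b`, some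
`a₂ ∈ A_m` has `[a₂, b] = b₂`; so `b b₂ ∈ A_{a₁ m} ∩ A_{a₂ l}`, hence `a₂ l ∈ F a₁ m ≤ Ebar_m` and `l ∈ Ebar_m`.
-/

set_option autoImplicit false
set_option linter.unusedSectionVars false

namespace Cfsg.Agent.Omega.NO3S.OneQ.Sg

open TIq (NP)

variable {F M H : Type*} [Field F] [AddCommGroup M] [Module F M] [Group H] [DistribMulAction H M] {L : Set M}
    {A : M → Subgroup H} {I : M → Submodule F M} {al : M → M → H}

namespace Pre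

variable (G : Pre F L A I al)
include G

/-- the half `[a₁, α_m(l)] = α_l(m)` -/
theorem dx_half (ti : ∀ {l m : M} {a : H}, l ∈ L → m ∈ L → a ∈ A l → a ∈ A m → a ≠ 1 → ∃ c : F, m = c • l)
    {l m : M} (hl : l ∈ L) (hm : m ∈ L) (h1 : al l m ≠ 1) (k2 : al m l • l = l)
    (h2 : al m l ≠ 1) (n1 : ∀ a ∈ A l, al m (a • m + m) = 1)
    (s1 : ∀ y, al l y • m = m → ∃ f g : F, ¬ (f = 0 ∧ g = 0) ∧ al l (f • y + g • m) = 1) :
    ∃ a ∈ A l, a * al m l * a⁻¹ = al l m * al m l := by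
  have hb2 := G.al_mem hm l
  have hb2m : al m l • m = m := G.fix hm hb2 (G.self hm)
  -- `[α_l(x), b₂] = α_l(b₂ x + x)`
  have e1 : ∀ x, al l x * al m l * (al l x)⁻¹ = al l (al m l • x + x) * al m l := by
    intro x
    rw [G.al_add hl, G.al_conj hl k2, G.inv hl (G.al_mem hl x)]
    have h3 := G.A_comm hl (G.al_mem hl x) (G.al_conj hl k2 x ▸ G.al_mem hl (al m l • x) :
      al m l * al l x * (al m l)⁻¹ ∈ A l)
    rw [← h3]
    group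
  -- it fixes `m`
  have e2 : ∀ x, al l (al m l • x + x) • m = m := by
    intro x
    have hx := G.al_mem hl x
    obtain ⟨t, ht⟩ := (G.al_ker hm _).1 (n1 _ hx) _ hb2
    have h3 : al m l • al l x • m = al l x • m + t • m := by
      have h4 : al l x • m = m + (al l x • m + m) := by rw [add_comm (al l x • m), G.two_left]
      calc al m l • al l x • m = al m l • (m + (al l x • m + m)) := by rw [← h4]
        _ = m + (al l x • m + m + t • m) := by rw [smul_add, hb2m, ht]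
        _ = (m + (al l x • m + m)) + t • m := by rw [add_assoc m]
        _ = al l x • m + t • m := by rw [← h4]
    have h5 : al l (al m l • x + x) = al l x * al m l * (al l x)⁻¹ * (al m l)⁻¹ := by
      rw [e1, mul_inv_cancel_right]
    have h6 : al l (al m l • x + x) • m = m + t • al l x • m := by
      have h7 : (al m l)⁻¹ • m = m := by rw [inv_smul_eq_iff, hb2m]
      rw [h5, mul_smul, mul_smul, mul_smul, h7, G.inv hl hx, h3, smul_add, G.lin, ← mul_smul, G.sq hl hx, one_smul]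
    have h8 := G.comm hl (G.al_mem hl (al m l • x + x)) m
    rw [h6] at h8
    have h9 : m + t • al l x • m + m = t • al l x • m := by
      rw [add_comm m, add_assoc, G.two, add_zero]
    rw [h9] at h8
    by_cases ht0 : t = 0
    · rw [h6, ht0, zero_smul, add_zero]
    · exfalso
      have h10 : al l x • m ∈ I l := by
        have := (I l).smul_mem t⁻¹ h8
        rwa [smul_smul, inv_mul_cancel₀ ht0, one_smul] at this
      have h11 := G.fix hl hx h10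
      rw [← mul_smul, G.sq hl hx, one_smul] at h11
      rw [← h11] at h10
      exact h1 (G.al_I_one hl h10)
  -- it is not always `1`
  obtain ⟨x, hx⟩ : ∃ x, al l (al m l • x + x) ≠ 1 := by
    by_contra hcon
    push Not at hcon
    refine h1 ((G.al_ker hl m).2 fun a ha => ?_)
    obtain ⟨x, rfl⟩ := G.al_surj hl ha
    have h3 := e1 x
    rw [hcon x, one_mul] at h3
    have h4 : al m l ∈ A (al l x • m) := by
      have := G.A_conj (al l x) hm hb2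
      rwa [h3] at this
    obtain ⟨c, hc⟩ := ti hm (G.smul (al l x) hm) hb2 h4 h2
    rw [G.fix_of_inv hm (G.sq hl ha) hc]
    exact ⟨0, by rw [zero_smul, add_zero]⟩
  obtain ⟨f, g, hfg, hz⟩ := s1 _ (e2 x)
  have hf : f ≠ 0 := by
    intro hf
    have hg : g ≠ 0 := fun hg => hfg ⟨hf, hg⟩
    rw [hf, zero_smul, zero_add] at hz
    have h3 := G.al_sm_one hl g⁻¹ hz
    rw [smul_smul, inv_mul_cancel₀ hg, one_smul] at h3
    exact h1 h3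
  have hg : g ≠ 0 := by
    intro hg
    rw [hg, zero_smul, add_zero] at hz
    have h3 := G.al_sm_one hl f⁻¹ hz
    rw [smul_smul, inv_mul_cancel₀ hf, one_smul] at h3
    exact hx h3
  refine ⟨al l ((g⁻¹ * f) • x), G.al_mem hl _, ?_⟩
  rw [e1]
  congr 1
  rw [G.al_congr hl, G.lin, ← smul_add]
  have h3 := G.al_sm_one hl g⁻¹ hz
  rwa [smul_add, smul_smul, smul_smul, inv_mul_cancel₀ hg, one_smul] at h3

/-- **the end of `D_x ≰ I`** -/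
theorem dx_end (ti : ∀ {l m : M} {a : H}, l ∈ L → m ∈ L → a ∈ A l → a ∈ A m → a ≠ 1 → ∃ c : F, m = c • l)
    {l m : M} (hl : l ∈ L) (hm : m ∈ L) (h1 : al l m ≠ 1) (h2 : al m l ≠ 1) (k1 : al l m • m = m) (k2 : al m l • l = l)
    (n1 : ∀ a ∈ A l, al m (a • m + m) = 1) (n2 : ∀ a ∈ A m, al l (a • l + l) = 1)
    (s1 : ∀ y, al l y • m = m → ∃ f g : F, ¬ (f = 0 ∧ g = 0) ∧ al l (f • y + g • m) = 1)
    (s2 : ∀ y, al m y • l = l → ∃ f g : F, ¬ (f = 0 ∧ g = 0) ∧ al m (f • y + g • l) = 1) : False := by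
  obtain ⟨a, ha, ha'⟩ := G.dx_half ti hl hm h1 k2 h2 n1 s1
  obtain ⟨b, hb, hb'⟩ := G.dx_half ti hm hl h2 k1 h1 n2 s2
  have hb2m : al m l • m = m := G.fix hm (G.al_mem hm l) (G.self hm)
  have hcomm : al l m * al m l = al m l * al l m := by
    have h3 := G.al_conj hl k2 m
    rw [hb2m, eq_mul_inv_iff_mul_eq] at h3
    exact h3
  have h3 : al l m * al m l ∈ A (a • m) := by
    rw [← ha']
    exact G.A_conj a hm (G.al_mem hm l)
  have h4 : al l m * al m l ∈ A (b • l) := by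
    rw [hcomm, ← hb']
    exact G.A_conj b hl (G.al_mem hl m)
  have h5 : al l m * al m l ≠ 1 := by
    rw [← ha']
    intro h6
    apply h2
    have h7 : al m l = a⁻¹ * (a * al m l * a⁻¹) * a := by group
    rw [h7, h6]; group
  obtain ⟨c, hc⟩ := ti (G.smul a hm) (G.smul b hl) h3 h4 h5
  -- `b l ∈ Ebar_m`
  have h6 : al m (a • m) = 1 := by
    have h7 : a • m = (a • m + m) + m := by rw [add_assoc, G.two, add_zero]
    rw [h7, G.al_add hm, n1 a ha, G.al_I_one hm (G.self hm), one_mul]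
  have h7 : al m (b • l) = 1 := by
    rw [hc]
    exact G.al_sm_one hm c h6
  apply h2
  have h8 : l = b • l + (b • l + l) := by rw [G.two_left]
  rw [h8, G.al_add hm, h7, G.al_I_one hm (G.comm hm hb l), one_mul]

end Pre

end Cfsg.Agent.Omega.NO3S.OneQ.Sg

end
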