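import Cfsg.Agent.Mrg.Omega.NO3S.OneQ.Fix
import Cfsg.Agent.Omega.NO3S.OneQ.SLExt


/-!
# NO-3S, `OneQ`: `C_{X_l}(V) = Y_l` and the torus (bb OMEGA #17428 (A))

* `Co.XV_cent` : `X_l ∩ C_G(V) = Y_l`;
* `Tor.uniq`, `Tor.comm` : `Tor τ ζ` is unique modulo `Y_l`, the torus is commutative modulo `Y_l`;
* `One.yl_ee`, `One.yl_dd` : `[Y_l, W_X] ≤ E_X`, `[Y_l, E_X] ≤ D_X`.
-/

set_option autoImplicit false
set_option linter.unusedSectionVars false

namespace Cfsg.Agent.Omega.NO3S.OneQ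

open Subgroup Cfsg.Agent.Omega.NO3S.PT Cfsg.Agent.Omega.NoFF.Basic
open scoped Pointwise

variable {G : Type*} [Group G]

namespace Co

variable [Finite G] {F : Type*} [Field F] [CharP F 2] {S : Sylow 2 G} {B P V Z : Subgroup G} (h : Co F S B P V Z)

/-- coordinates of `V` -/
noncomputable def ev : F × F ≃ V :=
  Equiv.ofBijective (fun p => ⟨h.e p.1 p.2, h.e_memV _ _⟩) ⟨by
    rintro ⟨a, b⟩ ⟨c, d⟩ hab
    have h1 : h.e a b = h.e c d := congrArg Subtype.val hab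
    obtain ⟨rfl, rfl⟩ := h.e_inj h1
    rfl, by
    rintro ⟨v, hv⟩
    obtain ⟨a, b, hab⟩ := (h.mem_V v).1 hv
    exact ⟨(a, b), Subtype.ext hab⟩⟩

theorem ev_apply (a b : F) : (h.ev (a, b) : G) = h.e a b := rfl

/-- the action of `X_l` on the coordinates -/
noncomputable def rho : XV V Z →* Equiv.Perm (F × F) where
  toFun g :=
    { toFun := fun p => h.ev.symm ⟨g * h.ev p * (g : G)⁻¹,
        (mem_normalizer_iff.1 (h.one.pl.XV_le_N g.2) _).1 (h.ev p).2⟩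
      invFun := fun p => h.ev.symm ⟨(g : G)⁻¹ * h.ev p * ((g : G)⁻¹)⁻¹,
        (mem_normalizer_iff.1 (inv_mem (h.one.pl.XV_le_N g.2)) _).1 (h.ev p).2⟩
      left_inv := fun p => by
        rw [Equiv.symm_apply_eq]
        apply Subtype.ext
        rw [Equiv.apply_symm_apply]
        simp only
        group
      right_inv := fun p => by
        rw [Equiv.symm_apply_eq]
        apply Subtype.ext
        rw [Equiv.apply_symm_apply]
        simp only
        group }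
  map_one' := by
    ext1 p
    show h.ev.symm _ = p
    rw [Equiv.symm_apply_eq]
    apply Subtype.ext
    simp
  map_mul' := by
    intro a b
    ext1 p
    show h.ev.symm _ = h.ev.symm _
    rw [Equiv.symm_apply_eq, Equiv.apply_symm_apply]
    apply Subtype.ext
    show ((a * b : XV V Z) : G) * h.ev p * (((a * b : XV V Z) : G))⁻¹ = (a : G) * (h.ev (h.ev.symm _) : G) * (a : G)⁻¹
    rw [Equiv.apply_symm_apply]
    simp [mul_assoc]

theorem rho_apply (g : XV V Z) {f : F → F → F × F} (hg : ∀ x y, (g : G) * h.e x y * (g : G)⁻¹ = h.e (f x y).1 (f x y).2)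
    (x y : F) : h.rho g (x, y) = f x y := by
  show h.ev.symm _ = f x y
  rw [Equiv.symm_apply_eq]
  exact Subtype.ext (hg x y)

theorem rho_apply' (g : XV V Z) {f : F → F → F × F} (hg : ∀ x y, h.rho g (x, y) = f x y)
    (x y : F) : (g : G) * h.e x y * (g : G)⁻¹ = h.e (f x y).1 (f x y).2 := by
  have h1 : h.ev.symm _ = f x y := hg x y
  rw [Equiv.symm_apply_eq] at h1
  exact congrArg Subtype.val h1

theorem rho_ker {g : XV V Z} : h.rho g = 1 ↔ (g : G) ∈ centralizer (V : Set G) := by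
  constructor
  · intro h1
    refine h.mem_cent fun a b => ?_
    exact h.rho_apply' g (f := fun x y => (x, y)) (fun x y => by rw [h1]; rfl) a b
  · intro h1
    ext1 ⟨x, y⟩
    rw [h.rho_apply g (f := fun x y => (x, y)) (fun x y => h.comm_e h1 x y)]
    rfl

/-- `Y_l` as a subgroup of `X_l` -/
def ylX (V Z : Subgroup G) : Subgroup (XV V Z) := (yl V Z).subgroupOf (XV V Z)

theorem ylX_normal (h1 : XV V Z ≤ normalizer (V : Set G)) : (ylX V Z).Normal := by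
  rw [ylX]
  exact Subgroup.normal_subgroupOf_of_le_normalizer (h1.trans (norm_yl V Z))

include h in
theorem finF : Finite F := by
  refine Finite.of_injective (fun a : F => (⟨h.e a 0, h.e_memV a 0⟩ : V)) fun a b hab => ?_
  exact (h.e_inj (congrArg Subtype.val hab)).1

theorem ylX_le : ylX V Z ≤ h.rho.ker := by
  intro g hg
  rw [MonoidHom.mem_ker, h.rho_ker]
  exact yl_le_cent V Z (mem_subgroupOf.1 hg)

/-- representatives in `K_Z` -/
noncomputable def kp (s : F) : G := (h.exists_K s).choose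

theorem kp_mem (s : F) : h.kp s ∈ kx V Z := (h.exists_K s).choose_spec.1

theorem kp_act (s : F) (x y : F) : h.kp s * h.e x y * (h.kp s)⁻¹ = h.e (x + s * y) y := (h.exists_K s).choose_spec.2.2 x y

theorem kp_XV (s : F) : h.kp s ∈ XV V Z := le_XV h.one.self.cj h.one.self.le (h.kp_mem s)

/-- representatives in `K_Y` -/
noncomputable def km (s : F) : G := (h.exists_K' s).choose

theorem km_mem (s : F) : h.km s ∈ kx V h.Yp := (h.exists_K' s).choose_spec.1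

theorem km_act (s : F) (x y : F) : h.km s * h.e x y * (h.km s)⁻¹ = h.e x (y + s * x) := (h.exists_K' s).choose_spec.2 x y

theorem km_XV (s : F) : h.km s ∈ XV V Z := le_XV h.pY.cj h.pY.le (h.km_mem s)

/-- two elements of `K_X` with the same action on `V` agree modulo `Y_l` -/
theorem K_yl {X : Subgroup G} (hX : Pnt V Z X) {k l : G} (hk : k ∈ kx V X) (hl : l ∈ kx V X)
    (hkl : ∀ x y, k * h.e x y * k⁻¹ = l * h.e x y * l⁻¹) : k⁻¹ * l ∈ yl V Z := by
  refine mem_yl_of hX (mul_mem (inv_mem hk) hl) (h.mem_cent fun a b => ?_)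
  have e : k⁻¹ * l * h.e a b * (k⁻¹ * l)⁻¹ = k⁻¹ * (l * h.e a b * l⁻¹) * k := by group
  rw [e, ← hkl]
  group

theorem cj_Y_of {g : G} {f : F → F} (hf : Function.Surjective f) (hg : ∀ y, g * h.e 0 y * g⁻¹ = h.e 0 (f y)) :
    PT.cj g h.Yp = h.Yp := by
  ext v
  rw [mem_cj, h.mem_Yp, h.mem_Yp]
  constructor
  · rintro ⟨a, ha⟩
    refine ⟨f a, ?_⟩
    rw [← hg, ha]; group
  · rintro ⟨a, rfl⟩
    obtain ⟨b, rfl⟩ := hf a
    refine ⟨b, ?_⟩
    rw [← hg]; group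

include h in
/-- `X_l = ⟨K_Z, K_Y⟩` -/
theorem XV_le : XV V Z ≤ kx V Z ⊔ kx V h.Yp := by
  refine sSup_le ?_
  rintro _ ⟨X, hX, hXV, rfl⟩
  by_cases hXZ : X = Z
  · rw [hXZ]
    exact le_sup_left
  obtain ⟨k, hk, rfl⟩ := h.one.move h.one.self h.pY ⟨hX, hXV⟩ h.Yp_ne hXZ
  have h1 : kx V (PT.cj k h.Yp) = PT.cj k (kx V h.Yp) := by
    exact kx_cj ..
  rw [h1]
  intro x hx
  rw [mem_cj] at hx
  have e : x = k * (k⁻¹ * x * k) * k⁻¹ := by group
  rw [e]
  exact mul_mem (mul_mem (mem_sup_left hk) (mem_sup_right hx)) (mem_sup_left (inv_mem hk))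

include h in
/-- **(A)** `X_l ∩ C_G(V) = Y_l` -/
theorem XV_cent : XV V Z ⊓ centralizer (V : Set G) = yl V Z := by
  refine le_antisymm ?_ (le_inf (yl_le_XV V Z) (yl_le_cent V Z))
  rintro g ⟨hg, hgV⟩
  have hN : (ylX V Z).Normal := ylX_normal h.one.pl.XV_le_N
  let Q := XV V Z ⧸ ylX V Z
  let ρ : Q →* Equiv.Perm (F × F) := QuotientGroup.lift (ylX V Z) h.rho fun x hx => h.ylX_le hx
  let q : XV V Z →* Q := QuotientGroup.mk' (ylX V Z)
  let xp : F → Q := fun s => q ⟨h.kp s, h.kp_XV s⟩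
  let xm : F → Q := fun s => q ⟨h.km s, h.km_XV s⟩
  have hρ : ∀ x, ρ (q x) = h.rho x := fun x => QuotientGroup.lift_mk' _ _ x
  have hq : ∀ x y : XV V Z, q x = q y ↔ (x : G)⁻¹ * y ∈ yl V Z := fun x y => by
    rw [show (q x = q y ↔ x⁻¹ * y ∈ ylX V Z) from QuotientGroup.eq]
    exact mem_subgroupOf
  have hxp : ∀ (x : XV V Z) (s : F), (x : G) ∈ kx V Z → (∀ a b, (x : G) * h.e a b * (x : G)⁻¹ = h.e (a + s * b) b) →
      q x = xp s := by
    intro x s hx hxs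
    refine (hq _ _).2 (h.K_yl h.one.self hx (h.kp_mem s) fun a b => ?_)
    rw [hxs, h.kp_act]
  have hxm : ∀ (x : XV V Z) (s : F), (x : G) ∈ kx V h.Yp → (∀ a b, (x : G) * h.e a b * (x : G)⁻¹ = h.e a (b + s * a)) →
      q x = xm s := by
    intro x s hx hxs
    refine (hq _ _).2 (h.K_yl h.pY hx (h.km_mem s) fun a b => ?_)
    rw [hxs, h.km_act]
  have hext : SLExt.Ext xp xm ρ := by
    refine ⟨?_, ?_, ?_, ?_, ?_, ?_, ?_, ?_, ?_⟩
    · intro s t
      have h1 := hxp (⟨h.kp s, h.kp_XV s⟩ * ⟨h.kp t, h.kp_XV t⟩) (s + t) (mul_mem (h.kp_mem s) (h.kp_mem t)) fun a b => by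
        rw [Subgroup.coe_mul]
        have e : h.kp s * h.kp t * h.e a b * (h.kp s * h.kp t)⁻¹ = h.kp s * (h.kp t * h.e a b * (h.kp t)⁻¹) * (h.kp s)⁻¹ := by
          group
        rw [e, h.kp_act, h.kp_act]
        congr 1
        ring
      rw [← h1, map_mul]
    · intro s t
      have h1 := hxm (⟨h.km s, h.km_XV s⟩ * ⟨h.km t, h.km_XV t⟩) (s + t) (mul_mem (h.km_mem s) (h.km_mem t)) fun a b => by
        rw [Subgroup.coe_mul]
        have e : h.km s * h.km t * h.e a b * (h.km s * h.km t)⁻¹ = h.km s * (h.km t * h.e a b * (h.km t)⁻¹) * (h.km s)⁻¹ := by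
          group
        rw [e, h.km_act, h.km_act]
        congr 1
        ring
      rw [← h1, map_mul]
    · intro s x y
      rw [hρ]
      exact h.rho_apply _ (f := fun x y => (x + s * y, y)) (h.kp_act s) x y
    · intro s x y
      rw [hρ]
      exact h.rho_apply _ (f := fun x y => (x, y + s * x)) (h.km_act s) x y
    · intro a ha b
      obtain ⟨a, rfl⟩ := QuotientGroup.mk'_surjective (ylX V Z) a
      obtain ⟨b, rfl⟩ := QuotientGroup.mk'_surjective (ylX V Z) b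
      have ha' : h.rho a = 1 := by rw [← hρ]; exact ha
      have h1 := h.one.comm_yl (inv_mem b.2) (inv_mem (h.rho_ker.1 ha'))
      rw [← map_mul, ← map_mul]
      refine (hq _ _).2 ?_
      have e : ((a * b : XV V Z) : G)⁻¹ * ((b * a : XV V Z) : G) = (b : G)⁻¹ * (a : G)⁻¹ * (b : G)⁻¹⁻¹ * (a : G)⁻¹⁻¹ := by
        rw [Subgroup.coe_mul, Subgroup.coe_mul]; group
      rw [e]
      exact h1
    · intro a ζ hζ ha s
      obtain ⟨a, rfl⟩ := QuotientGroup.mk'_surjective (ylX V Z) a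
      have ha' : ∀ x y, h.rho a (x, y) = (ζ * x, ζ⁻¹ * y) := fun x y => by rw [← hρ]; exact ha x y
      have h1 := h.rho_apply' a (f := fun x y => (ζ * x, ζ⁻¹ * y)) ha'
      have h2 : PT.cj (a : G) Z = Z := h.cj_Z_of (f := fun x => ζ * x) (fun x => ⟨ζ⁻¹ * x, mul_inv_cancel_left₀ hζ x⟩)
        fun x => by rw [h1]; simp
      have h3 : (a : G) * h.kp s * (a : G)⁻¹ ∈ kx V Z := by
        have h4 := conj_mem_cj (g := (a : G)) (h.kp_mem s)
        rwa [← kx_cj, h2] at h4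
      obtain ⟨t, ht⟩ := h.K_tv h3
      exact ⟨t, by rw [← hxp (a * ⟨h.kp s, h.kp_XV s⟩ * a⁻¹) t h3 ht]; simp only [map_mul, map_inv]; rfl⟩
    · intro a ζ hζ ha s
      obtain ⟨a, rfl⟩ := QuotientGroup.mk'_surjective (ylX V Z) a
      have ha' : ∀ x y, h.rho a (x, y) = (ζ * x, ζ⁻¹ * y) := fun x y => by rw [← hρ]; exact ha x y
      have h1 := h.rho_apply' a (f := fun x y => (ζ * x, ζ⁻¹ * y)) ha'
      have h2 : PT.cj (a : G) h.Yp = h.Yp := h.cj_Y_of (f := fun x => ζ⁻¹ * x)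
        (fun x => ⟨ζ * x, inv_mul_cancel_left₀ hζ x⟩) fun x => by rw [h1]; simp
      have h3 : (a : G) * h.km s * (a : G)⁻¹ ∈ kx V h.Yp := by
        have h4 := conj_mem_cj (g := (a : G)) (h.km_mem s)
        rwa [← kx_cj, h2] at h4
      obtain ⟨t, ht⟩ := h.K_tv' h3
      exact ⟨t, by rw [← hxm (a * ⟨h.km s, h.km_XV s⟩ * a⁻¹) t h3 ht]; simp only [map_mul, map_inv]; rfl⟩
    · intro a ha s
      obtain ⟨a, rfl⟩ := QuotientGroup.mk'_surjective (ylX V Z) a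
      have ha' : ∀ x y, h.rho a (x, y) = (y, x) := fun x y => by rw [← hρ]; exact ha x y
      have h1 := h.rho_apply' a (f := fun x y => (y, x)) ha'
      have h2 : PT.cj (a : G) Z = h.Yp := h.cj_swap h1
      have h3 : (a : G) * h.kp s * (a : G)⁻¹ ∈ kx V h.Yp := by
        have h4 := conj_mem_cj (g := (a : G)) (h.kp_mem s)
        rwa [← kx_cj, h2] at h4
      obtain ⟨t, ht⟩ := h.K_tv' h3
      exact ⟨t, by rw [← hxm (a * ⟨h.kp s, h.kp_XV s⟩ * a⁻¹) t h3 ht]; simp only [map_mul, map_inv]; rfl⟩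
    · rw [eq_top_iff]
      have h1 : ∀ x (hx : x ∈ XV V Z), x ∈ kx V Z ∨ x ∈ kx V h.Yp →
          q ⟨x, hx⟩ ∈ closure (Set.range xp ∪ Set.range xm) := by
        rintro x hx (hx' | hx')
        · obtain ⟨t, ht⟩ := h.K_tv hx'
          rw [hxp ⟨x, hx⟩ t hx' ht]
          exact subset_closure (Or.inl ⟨t, rfl⟩)
        · obtain ⟨t, ht⟩ := h.K_tv' hx'
          rw [hxm ⟨x, hx⟩ t hx' ht]
          exact subset_closure (Or.inr ⟨t, rfl⟩)
      have h2 : XV V Z ≤ ((closure (Set.range xp ∪ Set.range xm)).comap q).map (XV V Z).subtype := by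
        refine h.XV_le.trans (sup_le ?_ ?_)
        · intro x hx
          exact ⟨⟨x, le_XV h.one.self.cj h.one.self.le hx⟩, h1 x _ (Or.inl hx), rfl⟩
        · intro x hx
          exact ⟨⟨x, le_XV h.pY.cj h.pY.le hx⟩, h1 x _ (Or.inr hx), rfl⟩
      rintro a -
      obtain ⟨a, rfl⟩ := QuotientGroup.mk'_surjective (ylX V Z) a
      obtain ⟨b, hb, hba⟩ := h2 a.2
      have h3 : b = a := Subtype.ext hba
      rw [← h3]
      exact hb
  have hF : Finite F := h.finF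
  have h1 : ρ (q ⟨g, hg⟩) = 1 := by rw [hρ, h.rho_ker]; exact hgV
  have h2 := hext.inj h1
  have h3 := (hq 1 ⟨g, hg⟩).1 (by rw [h2, map_one])
  simpa using h3

variable {h}

/-- the torus is unique modulo `Y_l` -/
theorem Tor.uniq {τ τ' : G} {ζ : F} (hτ : h.Tor τ ζ) (hτ' : h.Tor τ' ζ) : τ⁻¹ * τ' ∈ yl V Z := by
  rw [← h.XV_cent]
  have h0 : τ⁻¹ * τ' ∈ XV V Z := mul_mem (inv_mem hτ.mem) hτ'.mem
  refine ⟨h0, h.mem_cent fun a b => ?_⟩
  have e : τ⁻¹ * τ' * h.e a b * (τ⁻¹ * τ')⁻¹ = τ⁻¹ * (τ' * h.e a b * τ'⁻¹) * τ := by group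
  rw [e, hτ'.act, ← hτ.act]
  group

theorem Tor.mul {τ τ' : G} {ζ ζ' : F} (hτ : h.Tor τ ζ) (hτ' : h.Tor τ' ζ') : h.Tor (τ * τ') (ζ * ζ') where
  mem := mul_mem hτ.mem hτ'.mem
  norm := mul_mem hτ.norm hτ'.norm
  act := fun x y => by
    have e : τ * τ' * h.e x y * (τ * τ')⁻¹ = τ * (τ' * h.e x y * τ'⁻¹) * τ⁻¹ := by group
    rw [e, hτ'.act, hτ.act]
    congr 1
    · ring
    · rw [mul_inv_rev]; ring

theorem Tor.inv {τ : G} {ζ : F} (hτ : h.Tor τ ζ) (hζ : ζ ≠ 0) : h.Tor τ⁻¹ ζ⁻¹ where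
  mem := inv_mem hτ.mem
  norm := inv_mem hτ.norm
  act := fun x y => by
    have h1 := hτ.act (ζ⁻¹ * x) (ζ * y)
    rw [mul_inv_cancel_left₀ hζ, inv_mul_cancel_left₀ hζ] at h1
    rw [← h1, inv_inv]
    group

variable (h) in
theorem Tor.one : h.Tor 1 1 where
  mem := one_mem _
  norm := one_mem _
  act := fun x y => by
    rw [inv_one, inv_one, one_mul, one_mul, one_mul, mul_one]

theorem Tor.pow {τ : G} {ζ : F} (hτ : h.Tor τ ζ) (n : ℕ) : h.Tor (τ ^ n) (ζ ^ n) := by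
  induction n with
  | zero => rw [pow_zero, pow_zero]; exact Tor.one h
  | succ n ih => rw [pow_succ, pow_succ]; exact ih.mul hτ

/-- the torus is commutative modulo `Y_l` -/
theorem Tor.comm {τ τ' : G} {ζ ζ' : F} (hτ : h.Tor τ ζ) (hτ' : h.Tor τ' ζ') : (τ * τ')⁻¹ * (τ' * τ) ∈ yl V Z := by
  have h1 := hτ'.mul hτ
  rw [mul_comm ζ' ζ] at h1
  exact (hτ.mul hτ').uniq h1

/-- an element of `X_l ∩ N_G(Z) ∩ N_G(B)` is in the torus -/
theorem exists_pow_yl {τ : G} {ζ : F} (hτ : h.Tor τ ζ) (hζ : ζ ≠ 0) : τ ^ (Nat.card F - 1) ∈ yl V Z := by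
  have := h.finF
  have : Fintype F := Fintype.ofFinite F
  have h1 := hτ.pow (Nat.card F - 1)
  rw [Nat.card_eq_fintype_card, FiniteField.pow_card_sub_one_eq_one ζ hζ] at h1
  have h2 := (Tor.one h).uniq h1
  rwa [inv_one, one_mul, ← Nat.card_eq_fintype_card] at h2

end Co

namespace One

variable [Finite G] {S : Sylow 2 G} {B P V Z : Subgroup G} (h : One S B P V Z)
include h

/-- `[Y_l, W_X] ≤ E_X` -/
theorem yl_ee {X : Subgroup G} (hX : Pnt V Z X) {k w : G} (hk : k ∈ yl V Z) (hw : w ∈ ws V X) :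
    k * w * k⁻¹ * w⁻¹ ∈ ee V Z X := by
  let E : Subgroup G :=
    { carrier := {g | g ∈ centralizer (V : Set G) ∧ ∀ w ∈ ws V X, g * w * g⁻¹ * w⁻¹ ∈ ee V Z X}
      one_mem' := ⟨one_mem _, fun c _ => by
        have : (1 : G) * c * 1⁻¹ * c⁻¹ = 1 := by group
        rw [this]; exact one_mem _⟩
      mul_mem' := by
        rintro a b ⟨ha, ha'⟩ ⟨hb, hb'⟩
        refine ⟨mul_mem ha hb, fun c hc => ?_⟩
        have e : a * b * c * (a * b)⁻¹ * c⁻¹ = a * (b * c * b⁻¹ * c⁻¹) * a⁻¹ * (a * c * a⁻¹ * c⁻¹) := by group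
        rw [e]
        exact mul_mem (h.n_ee hX ha (hb' c hc)) (ha' c hc)
      inv_mem' := by
        rintro a ⟨ha, ha'⟩
        refine ⟨inv_mem ha, fun c hc => ?_⟩
        have e : a⁻¹ * c * a⁻¹⁻¹ * c⁻¹ = a⁻¹ * (a * c * a⁻¹ * c⁻¹)⁻¹ * a⁻¹⁻¹ := by group
        rw [e]
        exact h.n_ee hX (inv_mem ha) (inv_mem (ha' c hc)) }
  have key : yl V Z ≤ E := by
    refine sSup_le ?_
    rintro _ ⟨Y, hY, rfl⟩
    rintro k ⟨hk, hkV⟩
    exact ⟨hkV, fun w hw => h.kx_ee hX hY hk hkV hw⟩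
  exact (key hk).2 w hw

/-- `[Y_l, E_X] ≤ D_X` -/
theorem yl_dd {X : Subgroup G} (hX : Pnt V Z X) {k w : G} (hk : k ∈ yl V Z) (hw : w ∈ ee V Z X) :
    k * w * k⁻¹ * w⁻¹ ∈ dd V Z X := by
  let E : Subgroup G :=
    { carrier := {g | g ∈ centralizer (V : Set G) ∧ ∀ w ∈ ee V Z X, g * w * g⁻¹ * w⁻¹ ∈ dd V Z X}
      one_mem' := ⟨one_mem _, fun c _ => by
        have : (1 : G) * c * 1⁻¹ * c⁻¹ = 1 := by group
        rw [this]; exact one_mem _⟩
      mul_mem' := by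
        rintro a b ⟨ha, ha'⟩ ⟨hb, hb'⟩
        refine ⟨mul_mem ha hb, fun c hc => ?_⟩
        have e : a * b * c * (a * b)⁻¹ * c⁻¹ = a * (b * c * b⁻¹ * c⁻¹) * a⁻¹ * (a * c * a⁻¹ * c⁻¹) := by group
        rw [e]
        exact mul_mem (h.n_dd hX ha (hb' c hc)) (ha' c hc)
      inv_mem' := by
        rintro a ⟨ha, ha'⟩
        refine ⟨inv_mem ha, fun c hc => ?_⟩
        have e : a⁻¹ * c * a⁻¹⁻¹ * c⁻¹ = a⁻¹ * (a * c * a⁻¹ * c⁻¹)⁻¹ * a⁻¹⁻¹ := by group
        rw [e]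
        exact h.n_dd hX (inv_mem ha) (inv_mem (ha' c hc)) }
  have key : yl V Z ≤ E := by
    refine sSup_le ?_
    rintro _ ⟨Y, hY, rfl⟩
    rintro k ⟨hk, hkV⟩
    exact ⟨hkV, fun w hw => h.kx_dd hX hY hk hkV hw⟩
  exact (key hk).2 w hw

/-- `[Y_l, I] = ` trivial on `I / V` -/
theorem XV_I {g u : G} (hg : g ∈ XV V Z) (hu : u ∈ IV V Z) : g * u * g⁻¹ * u⁻¹ ∈ V := h.pl.XV_act hg hu

end One

end Cfsg.Agent.Omega.NO3S.OneQ
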