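import Cfsg.Agent.Mrg.Omega.NO3S.OneQ.CaseN
import Cfsg.Agent.Mrg.Omega.NO3S.OneQ.InstA
import Cfsg.Agent.Mrg.Omega.NO3S.OneQ.KOneDx
import Cfsg.Agent.Mrg.Omega.NO3S.OneQ.KOneTIG


/-!
# NO-3S, `OneQ`, case (N), `dim MF / Ē = 1`: `W_Z / Z` is natural for `Sz(q)`

* `Co.nn_of` : `NTr V Z → NN V Z`; `Co.preN` : the record `TIq.Pre` if `D_Z ≤ I`; `Co.preIN` : helper248's `PreI`;
* **`Co.szMod_one`** : case (N), `dim MF / Ē = 1`.
-/

set_option autoImplicit false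
set_option linter.unusedSectionVars false

namespace Cfsg.Agent.Omega.NO3S.OneQ

open Subgroup Cfsg Cfsg.Agent.Omega.NO3S.PT Cfsg.Agent.Omega.NoFF.Basic
open Cfsg.Agent.WeakTI.FlatBorel (CritAll BenderAll)
open scoped Pointwise

universe u

variable {G : Type u} [Group G]

namespace Co

section

variable [Finite G] {F : Type*} [Field F] [CharP F 2] {S : Sylow 2 G} {B P V Z : Subgroup G} (h : Co F S B P V Z)

include h in
theorem nn_of (hN : NTr V Z) : NN V Z := h.n0_le_ee h.pY h.Yp_ne (hN _ h.pY h.Yp_ne)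

theorem preN (hN : NTr V Z) (hD : dd V Z Z ≤ IV V Z) : TIq.Pre F h.LL h.At (h.It hN hD) h.alt h.Kt where
  two := h.add_self
  lin := h.hh_lin
  zero := h.LL_zero
  fsm := h.LL_fsm
  A_sm := h.At_sm (h.rd_eq hN hD)
  A_conj := h.At_conj (h.rd_eq hN hD)
  sq _ ha := h.At_sq ha
  self := h.It_self hN hD
  comm _ ha m := h.At_comm hN hD ha m
  fix _ ha hu := h.At_fix hN hD ha hu
  al_mem _ m := h.alt_mem _ m
  al_add _ := h.alt_add hN _
  al_surj _ ha := h.alt_surj hN ha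
  al_ker hl := h.alt_ker hN hl
  phl _ c e x he := h.alt_phl hN c e x he
  bl hl := h.alt_bl hN hl
  dual hl f hf := h.alt_dual hN hl f hf
  faith x hx := h.faith fun m => by rw [hx, one_smul]
  Kt_sm := h.Kt_sm (h.rd_eq hN hD)
  Kt_fix := h.Kt_fix
  Kt_A _ ht ha := h.Kt_A ht ha
  Kt_hom := h.Kt_hom hN hD

theorem v0_LL' : h.v0 ∈ h.LL := ⟨1, 1, one_ne_zero, by rw [one_smul, one_smul]⟩

theorem preIN (hN : NTr V Z) (hD : dd V Z Z ≤ IV V Z) :
    h.PreI h.hm.rangeRestrict h.LL h.At (h.It hN hD) h.alt h.Kt where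
  pre := h.preN hN hD
  act _ _ := rfl
  v0_mem := h.v0_LL'
  smul_mem _ _ hl := h.LL_smul _ hl
  orbit := by
    rintro l ⟨x, c, hc, rfl⟩
    obtain ⟨g, hg⟩ := h.hm.rangeRestrict_surjective x
    exact ⟨g, c, hc, by rw [hg]⟩
  A_zero x := by
    rw [h.mem_At (h.rd_eq hN hD) (x := 1) (c := 1) one_ne_zero (by rw [one_smul, one_smul]), inv_one, one_mul, mul_one,
      h.mem_AI]
    constructor
    · rintro ⟨a, ha, rfl⟩
      exact ⟨a, ha, (h.ph_eq _).symm⟩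
    · rintro ⟨a, ha, rfl⟩
      exact ⟨a, ha, h.ph_eq _⟩

/-- TI, `dim MF / Ē = 1` -/
theorem tiw_one (hN : NTr V Z) (hD : dd V Z Z ≤ IV V Z) (hq : ∃ c : F, c ≠ 0 ∧ c ≠ 1)
    (one : ∀ x y : h.MF, x ∉ h.Eb → ∃ c : F, y + c • x ∈ h.Eb) : TIw V Z :=
  h.tiw_of ((h.preIN hN hD).ti (h.nn_of hN) (h.rd_eq hN hD) hq one)

include h in
theorem exists_ne_zero_one (hF : 3 ≤ Nat.card F) : ∃ c : F, c ≠ 0 ∧ c ≠ 1 := by
  have := h.finF
  by_contra hcon
  push Not at hcon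
  have h1 : Nat.card F ≤ 2 := by
    classical
    have h2 : (Set.univ : Set F) ⊆ {0, 1} := fun c _ => by
      by_cases hc : c = 0
      · exact Or.inl hc
      · exact Or.inr (hcon c hc)
    rw [← Set.ncard_univ]
    exact (Set.ncard_le_ncard h2).trans ((Set.ncard_insert_le _ _).trans (by rw [Set.ncard_singleton]))
  omega

end

section

variable [Finite G] {F : Type} [Field F] [CharP F 2] {S : Sylow 2 G} {B P V Z : Subgroup G} (h : Co F S B P V Z)

include h in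
/-- **case (N), `dim MF / Ē = 1`** -/
theorem szMod_one (hcrit : CritAll.{u}) (hbend : BenderAll.{u}) (hG : IsCharacteristicTwoType G) (hN : NTr V Z)
    (hone : ∀ x y : h.MF, x ∉ h.Eb → ∃ c : F, y + c • x ∈ h.Eb) (hF : 4 ≤ Nat.card F) :
    ∃ (θ : F →+* F) (e m : ℕ) (T : Cfsg.Agent.LieRecognition.SzMatrix.Good F θ e), 1 ≤ m ∧
      Nat.card F = 2 ^ (2 * m + 1) ∧
      Nonempty (Cfsg.Agent.Omega.TwoFFour.SzMod T (normalizer (Z : Set G)) (ws V Z) Z) := by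
  have := h.finF
  have hD : dd V Z Z ≤ IV V Z := h.dd_le_of_one hN fun m n hn => by
    obtain ⟨c, hc⟩ := hone n m hn
    exact ⟨c, by rw [h.sub_eq]; exact hc⟩
  exact h.szMod hcrit hbend hG hN hD (h.tiw_one hN hD (h.exists_ne_zero_one (by omega)) hone) hF

end

end Co

end Cfsg.Agent.Omega.NO3S.OneQ
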